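import Mathlib
import Cfsg.Prelude.Def_FusionSystem
import Cfsg.Prelude.Def_FusionComponents
import Cfsg.Prelude.Def_FusionReduction
import Cfsg.Agent.Lib.Helper25.FusionPrimeIndex2

/-!
# S5202 (Oliver's reduction lemma), design helper3: shared definitions (`Lib/OLR`).

Ambient data: `Fh` saturated over `Sh` (the original system), `E` normal in `Fh` over `T`.
We walk down a chain `Fh = F⁰ ≥ F¹ ≥ … ≥ Fᵐ = F₀` of CANONICAL subsystems, each step of `p`-power
index or of index prime to `p`, until `Aut_{Fⁱ}(T) = Aut_E(T)`; then `Fᵐ` lives over `T C_Sh(T)`.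

* `SameLim p F F₁`: `F` and `F₁` have the same residual limits (an IFF on the inductive predicate,
  so that it is trivially transitive and needs no existence theorem).
* `Stage p Fh E F`: `F` (over `S ≤ Sh`) is saturated, invariant in `Fh`, `E` is normal in `F`, and
  `C_Sh(T) ≤ S`.  Normality of a stage in `Fh` is automatic at the end (extension clause is void
  because `C_Sh(S) ≤ C_Sh(T) ≤ S`).
* `autOp p F T = O^p(Aut_F(T))` inside `MulAut T` (`Helper25.OpPrime F p T` is `O^{p'}(Aut_F(T))`).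
-/

set_option autoImplicit false

namespace Cfsg.Agent.Helper3.OLR

open Cfsg Cfsg.FusionSystem Cfsg.Agent.Helper25

variable {Ω : Type*} [Group Ω]

/-- `F` and `F₁` have exactly the same residual limits. -/
def SameLim (p : ℕ) {S S₁ : Subgroup Ω} (F : FusionSystem S) (F₁ : FusionSystem S₁) : Prop :=
  ∀ {V : Subgroup Ω} (W : FusionSystem V), W.IsResidualLimitOf F p ↔ W.IsResidualLimitOf F₁ p

theorem SameLim.refl (p : ℕ) {S : Subgroup Ω} (F : FusionSystem S) : SameLim p F F :=
  fun _ => Iff.rfl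

theorem SameLim.trans {p : ℕ} {S S₁ S₂ : Subgroup Ω} {F : FusionSystem S} {F₁ : FusionSystem S₁}
    {F₂ : FusionSystem S₂} (h₁ : SameLim p F F₁) (h₂ : SameLim p F₁ F₂) : SameLim p F F₂ :=
  fun W => (h₁ W).trans (h₂ W)

/-- `O^p(Aut_F(T))` as a subgroup of `Aut(T)`. -/
def autOp (p : ℕ) {S : Subgroup Ω} (F : FusionSystem S) (T : Subgroup Ω) : Subgroup (MulAut T) :=
  (Cfsg.pResidual p ↥(F.autGroup T)).map (F.autGroup T).subtype

/-- A stage of the chain. -/
structure Stage (p : ℕ) {Sh : Subgroup Ω} (Fh : FusionSystem Sh) {T : Subgroup Ω}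
    (E : FusionSystem T) {S : Subgroup Ω} (F : FusionSystem S) : Prop where
  sat : F.IsSaturated p
  inv : F.IsInvariantIn Fh
  nor : E.IsNormalIn F p
  cen : centralizerIn Sh T ≤ S

theorem Stage.le {p : ℕ} {Sh : Subgroup Ω} {Fh : FusionSystem Sh} {T : Subgroup Ω}
    {E : FusionSystem T} {S : Subgroup Ω} {F : FusionSystem S} (h : Stage p Fh E F) : S ≤ Sh :=
  h.inv.2.1.1

theorem Stage.T_le {p : ℕ} {Sh : Subgroup Ω} {Fh : FusionSystem Sh} {T : Subgroup Ω}
    {E : FusionSystem T} {S : Subgroup Ω} {F : FusionSystem S} (h : Stage p Fh E F) : T ≤ S :=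
  h.nor.1.2.2.2.1.1

theorem Stage.sup_cen_le {p : ℕ} {Sh : Subgroup Ω} {Fh : FusionSystem Sh} {T : Subgroup Ω}
    {E : FusionSystem T} {S : Subgroup Ω} {F : FusionSystem S} (h : Stage p Fh E F) :
    T ⊔ centralizerIn Sh T ≤ S :=
  _root_.sup_le h.T_le h.cen

end Cfsg.Agent.Helper3.OLR
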