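import Mathlib
import Cfsg.Agent.Lib.OLR.OLRDefs
import Cfsg.Agent.Lib.PIX.PIXExtS

/-!
# OLR-EXTC (S5202): the extension clause of `IsNormalIn` is void over a subgroup containing its centralizer.

RECIPE. Copy `PIX.ext_clause_top` (`Lib/PIX/PIXExtS.lean`, the case `S₁ = S`): here `h : S₁ ⊔ centralizerIn S S₁ = S₁`
is `sup_eq_left.2 hC`; `β := (MulEquiv.subgroupCongr h).trans (α.trans (MulEquiv.subgroupCongr h.symm))`;
`β ∈ F.autGroup _` by `mem_autGroup_iff` + `restrict_mem`-free argument (it IS `α` up to the identification: use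
`hDF S₁ ((mem_autGroup_iff D le_rfl α).mp hα)` and transport along `h`, exactly as in `ext_clause_top`);
the last clause: `c ∈ C_S(S₁) ≤ S₁`, `α c ∈ S₁` centralizes `S₁ = α(S₁)` (write `y = α x`, `α c * α x = α (c x) = α (x c)`).
Keep the statement, name, namespace exactly (you may add imports).
-/

set_option autoImplicit false

namespace Cfsg.Agent.Helper3.OLR

open Cfsg Cfsg.FusionSystem Cfsg.Agent.Helper25

variable {Ω : Type*} [Group Ω] {S : Subgroup Ω}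

theorem ext_clause_cen (F : FusionSystem S) {S₁ : Subgroup Ω} (hS₁ : S₁ ≤ S) (D : FusionSystem S₁)
    (hDF : D.IsSubsystemOf F) (hC : centralizerIn S S₁ ≤ S₁) :
    ∀ α ∈ D.autGroup S₁, ∃ β ∈ F.autGroup (S₁ ⊔ centralizerIn S S₁),
      (∀ x : S₁, ((β (Subgroup.inclusion le_sup_left x) : ↥(S₁ ⊔ centralizerIn S S₁)) : Ω) =
        ((α x : S₁) : Ω)) ∧
      ∀ c : ↥(S₁ ⊔ centralizerIn S S₁), (c : Ω) ∈ centralizerIn S S₁ →
        (c : Ω)⁻¹ * ((β c : ↥(S₁ ⊔ centralizerIn S S₁)) : Ω) ∈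
          S₁ ⊓ Subgroup.centralizer (S₁ : Set Ω) := by
  intro α hα
  have h : S₁ ⊔ centralizerIn S S₁ = S₁ := sup_eq_left.2 hC
  have hαD : S₁.subtype.comp α.toMonoidHom ∈ D.Hom S₁ := (mem_autGroup_iff D le_rfl α).mp hα
  have hαF : S₁.subtype.comp α.toMonoidHom ∈ F.Hom S₁ := hDF S₁ hαD
  let β : MulAut ↥(S₁ ⊔ centralizerIn S S₁) :=
    (MulEquiv.subgroupCongr h).trans (α.trans (MulEquiv.subgroupCongr h.symm))
  have hβv : ∀ u : ↥(S₁ ⊔ centralizerIn S S₁),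
      ((β u : ↥(S₁ ⊔ centralizerIn S S₁)) : Ω) = ((α ⟨(u : Ω), h.le u.2⟩ : S₁) : Ω) := fun u => rfl
  refine ⟨β, ?_, ?_, ?_⟩
  · rw [mem_autGroup_iff F (h.le.trans hS₁) β]
    have heq : (S₁ ⊔ centralizerIn S S₁).subtype.comp β.toMonoidHom =
        (S₁.subtype.comp α.toMonoidHom).comp (Subgroup.inclusion h.le) := by
      ext u
      exact hβv u
    rw [heq]
    exact restrict_mem F h.le hαF
  · intro x
    rw [hβv]
    rfl
  · intro c hc
    have hcS : (c : Ω) ∈ S₁ := hC hc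
    have hcC : (c : Ω) ∈ Subgroup.centralizer (S₁ : Set Ω) := hc.2
    have hZ : ∀ z : Ω, z ∈ S₁ ⊓ Subgroup.centralizer (S₁ : Set Ω) →
        z⁻¹ ∈ S₁ ⊓ Subgroup.centralizer (S₁ : Set Ω) :=
      fun z hz => Subgroup.inv_mem _ hz
    apply Subgroup.mul_mem _ (hZ _ ⟨hcS, hcC⟩)
    rw [hβv]
    refine ⟨(α ⟨(c : Ω), h.le c.2⟩).2, ?_⟩
    show ((α ⟨(c : Ω), h.le c.2⟩ : S₁) : Ω) ∈ Subgroup.centralizer (S₁ : Set Ω)
    rw [Subgroup.mem_centralizer_iff]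
    intro y hy
    have hy' : y ∈ S₁ := hy
    have hx : α (α.symm ⟨y, hy'⟩) = ⟨y, hy'⟩ := MulEquiv.apply_symm_apply α _
    have hcomm : (α.symm ⟨y, hy'⟩ : S₁) * ⟨(c : Ω), h.le c.2⟩ =
        ⟨(c : Ω), h.le c.2⟩ * (α.symm ⟨y, hy'⟩ : S₁) := by
      apply Subtype.ext
      show ((α.symm ⟨y, hy'⟩ : S₁) : Ω) * (c : Ω) = (c : Ω) * ((α.symm ⟨y, hy'⟩ : S₁) : Ω)
      exact (Subgroup.mem_centralizer_iff.mp hcC _ (α.symm ⟨y, hy'⟩).2)
    have h2 := congrArg (fun s : S₁ => ((α s : S₁) : Ω)) hcomm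
    simp only [map_mul, hx, Subgroup.coe_mul] at h2
    exact h2

end Cfsg.Agent.Helper3.OLR
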