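import Mathlib
import Cfsg.Prelude.Def_FusionSystem
import Cfsg.Agent.Lib.Helper16.PPowNormal3

/-!
# OLR-FG (S5201): a saturated fusion system over an ABELIAN `p`-group with trivial `Aut_Q(S)` has trivial hyperfocal subgroup. (MEDIUM/LONG)

RECIPE. Show every `α ∈ Q.autGroup P` (`P ≤ S`) is `1`; then every generator `x⁻¹ α x` of `hyperfocalSubgroup` is `1` (`Subgroup.closure_le`, `Subgroup.mem_bot`).
`S` abelian ⟹ every `P ≤ S` has `normalizerIn S P = S`, hence is fully normalized (the defining inequality `card (N_S(P')) ≤ card (N_S(P))` is an equality for all conjugates), hence receptive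
(`of_fullyNormalized p hS Q hQ hfn : fully automized ∧ _ ∧ receptive`; see its use in `Lib/Helper16/PPowNormal3.lean` (`exists_aut_ext`), which is the model proof: there `T` strongly closed, here abelian).
For `α ∈ Q.autGroup P`: `φ := P.subtype.comp α.toMonoidHom ∈ Q.Hom P` has range `P` (receptive); `N_φ` is all of `S` because conjugation by any `g ∈ S` is trivial on `P` (abelian), so `φ ∘ c_g ∘ φ⁻¹ = id ∈ Aut_S(P)`.
Receptivity gives `ψ ∈ Q.Hom S` extending `φ`; `ψ` corresponds to an element of `Q.autGroup S` (injective endomorphism of the finite `S` with values in `S`), which is `1` by `htriv`; so `α x = x`.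
Keep the statement, name, namespace exactly (you may add imports).
-/

set_option autoImplicit false

namespace Cfsg.Agent.Helper3.OLR

open Cfsg Cfsg.FusionSystem Cfsg.Agent.Helper25 Cfsg.Agent.Helper26

theorem hyp_eq_bot_of_abelian {Ω' : Type*} [Group Ω'] {S : Subgroup Ω'} [Finite S] (p : ℕ) [Fact p.Prime]
    (hS : IsPGroup p S) (Q : Cfsg.FusionSystem S) (hQ : Q.IsSaturated p)
    (hab : ∀ x ∈ S, ∀ y ∈ S, x * y = y * x)
    (htriv : ∀ g ∈ Q.autGroup S, g = 1) : Q.hyperfocalSubgroup p = ⊥ := by
  sorry

end Cfsg.Agent.Helper3.OLR
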