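import Mathlib
import Cfsg.Agent.Lib.OLR.OLRDefs

/-!
# OLR-FA (S5201): `C_S(E) ≤ T` passes to subsystems.

RECIPE. Apply `hCE X (hX.trans (inf_le_inf_right _ hS'))` (`centralizerIn S' T = S' ⊓ centralizer T`). Remaining goal: for `C` with
`hC : Fh.IsCentralizerSystem X C` show `E.IsSubsystemOf C`: `intro P φ hφ; rw [hC P]`; from `hEX P hφ : φ ∈ F'.centralizerHom X P` =
`⟨hφF', hP, hval, ψ, hψ, hψP, hψX⟩` build `φ ∈ Fh.centralizerHom X P` = `⟨hF' P hφF', hP.trans (inf_le_inf_right _ hS'), fun x => inf_le_inf_right _ hS' (hval x), ψ, hF' _ hψ, hψP, hψX⟩`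
(unfold `centralizerHom`, `Set.mem_setOf_eq`).
Keep the statement, name, namespace exactly (you may add imports).
-/

set_option autoImplicit false

namespace Cfsg.Agent.Helper3.OLR

open Cfsg Cfsg.FusionSystem Cfsg.Agent.Helper25 Cfsg.Agent.Helper26

variable {Ω : Type*} [Group Ω]

theorem le_T_of_centralizes {Sh : Subgroup Ω} (Fh : FusionSystem Sh) {T : Subgroup Ω} (E : FusionSystem T)
    (hCE : ∀ Y : Subgroup Ω, Y ≤ centralizerIn Sh T →
      (∀ C : FusionSystem (centralizerIn Sh Y), Fh.IsCentralizerSystem Y C → E.IsSubsystemOf C) → Y ≤ T)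
    {S' : Subgroup Ω} (F' : FusionSystem S') (hF' : F'.IsSubsystemOf Fh) (hS' : S' ≤ Sh)
    (X : Subgroup Ω) (hX : X ≤ centralizerIn S' T)
    (hEX : ∀ P : Subgroup Ω, E.Hom P ⊆ F'.centralizerHom X P) : X ≤ T := by
  apply hCE X (hX.trans (inf_le_inf_right _ hS'))
  intro C hC P φ hφ
  rw [hC P]
  obtain ⟨hφF', hP, hval, ψ, hψ, hψP, hψX⟩ := hEX P hφ
  exact ⟨hF' P hφF', hP.trans (inf_le_inf_right _ hS'), fun x => inf_le_inf_right _ hS' (hval x),
    ψ, hF' _ hψ, hψP, hψX⟩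

end Cfsg.Agent.Helper3.OLR
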