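import Mathlib
import Cfsg.Agent.Lib.OLR.OLRDefs
import Cfsg.Agent.Lib.OLR.OLRFa
import Cfsg.Agent.S5293

/-!
# OLR-FB (S5201): `foc(C_F(T)) ≤ T` for every stage `F`, when `C_S(E) ≤ T`.

RECIPE. `haveI : Finite S := finite_of_le_finite hst.le`, `hS := hSh.to_le hst.le`.
`Cfsg.Agent.S5293.result p hS F hst.sat E hst.nor _ rfl D hD : D.focalSubgroup ≤ sSup {X | X ≤ centralizerIn S T ∧ ∀ P, E.Hom P ⊆ F.centralizerHom X P}`;
then `sSup_le fun X hX => le_T_of_centralizes Fh E hCE F hst.inv.1 hst.le X hX.1 hX.2`.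
Keep the statement, name, namespace exactly (you may add imports).
-/

set_option autoImplicit false

namespace Cfsg.Agent.Helper3.OLR

open Cfsg Cfsg.FusionSystem Cfsg.Agent.Helper25 Cfsg.Agent.Helper26

variable {Ω : Type*} [Group Ω]

theorem foc_cent_le_T {Sh : Subgroup Ω} [Finite Sh] (p : ℕ) [Fact p.Prime] (hSh : IsPGroup p Sh)
    (Fh : FusionSystem Sh) (hFh : Fh.IsSaturated p) {T : Subgroup Ω} (E : FusionSystem T)
    (hE : E.IsNormalIn Fh p)
    (hCE : ∀ Y : Subgroup Ω, Y ≤ centralizerIn Sh T →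
      (∀ C : FusionSystem (centralizerIn Sh Y), Fh.IsCentralizerSystem Y C → E.IsSubsystemOf C) → Y ≤ T)
    {S : Subgroup Ω} (F : FusionSystem S) (hst : Stage p Fh E F)
    (D : FusionSystem (centralizerIn S T)) (hD : F.IsCentralizerSystem T D) :
    D.focalSubgroup ≤ T := by
  have : Finite S := finite_of_le_finite hst.le
  have hS : IsPGroup p S := hSh.to_le hst.le
  refine le_trans (Cfsg.Agent.S5293.result p hS F hst.sat E hst.nor _ rfl D hD) ?_
  exact sSup_le fun X hX => le_T_of_centralizes Fh E hCE F hst.inv.1 hst.le X hX.1 hX.2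

end Cfsg.Agent.Helper3.OLR
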