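import Mathlib
import Cfsg.Agent.Lib.OLR.OLRDefs
import Cfsg.Agent.Lib.OLR.OLRFb
import Cfsg.Agent.Lib.Helper25.FusionCentSys

/-!
# OLR-FD (S5201): an automorphism of `X = T C_S(T)` in `F₀` that fixes `T` elementwise is trivial modulo `T`. (MEDIUM/LONG)

RECIPE. `X := T ⊔ centralizerIn Sh T`, `C := centralizerIn X T`, `D := Helper25.centSys F₀ T hst₀.T_le`, `hfoc : D.focalSubgroup ≤ T := foc_cent_le_T … F₀ hst₀ D (centSys is a centralizer system)`.
(1) for `c ∈ C` (as an element `⟨c, _⟩ : X`): `h c ∈ C`: it is in `X`, and centralizes `T` since `h` fixes `T` elementwise: `h c * t = h c * h t = h (c t) = h (t c) = t * h c`.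
(2) `φ := X.subtype.comp h.toMonoidHom` restricted to `C` (`.comp (Subgroup.inclusion (inf_le_left : C ≤ X))`) is in `F₀.centralizerHom T C`: `restrict_mem F₀ _ ((mem_autGroup_iff F₀ le_rfl h).mp hh)`; `C ≤ centralizerIn X T` `le_rfl`; values by (1);
extension `ψ := ` the restriction of `h` to `C ⊔ T ≤ X` (`restrict_mem`), agrees with `φ` on `C` and fixes `T` by `hfix`. Hence `φ ∈ D.Hom C` (`rfl`/`centSys` def) and
`c⁻¹ * h c ∈ D.focalSubgroup ≤ T` (`Subgroup.subset_closure ⟨C, φ, ⟨c,_⟩, hφ, rfl⟩`).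
(3) general `x ∈ X = T ⊔ centralizerIn Sh T`: `Subgroup.sup_induction`/`closure_induction` (or `Subgroup.mem_sup` after normality): the set `{x | x⁻¹ * h x ∈ T}` contains `T` (`hfix`: `t⁻¹ t = 1`), contains `centralizerIn Sh T ⊆ C` by (2),
and is closed under products because `T` is normal in `X`: `(xy)⁻¹ h(xy) = y⁻¹ (x⁻¹ h x) y * (y⁻¹ h y)`.
Keep the statement, name, namespace exactly (you may add imports).
-/

set_option autoImplicit false

namespace Cfsg.Agent.Helper3.OLR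

open Cfsg Cfsg.FusionSystem Cfsg.Agent.Helper25 Cfsg.Agent.Helper26

variable {Ω : Type*} [Group Ω]

theorem triv_mod_T_of_fix {Sh : Subgroup Ω} [Finite Sh] (p : ℕ) [Fact p.Prime] (hSh : IsPGroup p Sh)
    (Fh : FusionSystem Sh) (hFh : Fh.IsSaturated p) {T : Subgroup Ω} (E : FusionSystem T)
    (hE : E.IsNormalIn Fh p)
    (hCE : ∀ Y : Subgroup Ω, Y ≤ centralizerIn Sh T →
      (∀ C : FusionSystem (centralizerIn Sh Y), Fh.IsCentralizerSystem Y C → E.IsSubsystemOf C) → Y ≤ T)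
    (F₀ : FusionSystem (T ⊔ centralizerIn Sh T)) (hst₀ : Stage p Fh E F₀)
    (hA₀ : F₀.autGroup T = E.autGroup T)
    (h : MulAut ↥(T ⊔ centralizerIn Sh T)) (hh : h ∈ F₀.autGroup (T ⊔ centralizerIn Sh T))
    (hfix : ∀ t : T, ((h (Subgroup.inclusion le_sup_left t) : ↥(T ⊔ centralizerIn Sh T)) : Ω) = (t : Ω)) :
    ∀ x : ↥(T ⊔ centralizerIn Sh T), (x : Ω)⁻¹ * ((h x : ↥(T ⊔ centralizerIn Sh T)) : Ω) ∈ T := by
  have hTX : T ≤ T ⊔ centralizerIn Sh T := le_sup_left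
  have hD := isCentralizerSystem_centSys F₀ T hTX
  have hfoc : (centSys F₀ T hTX).focalSubgroup ≤ T :=
    foc_cent_le_T p hSh Fh hFh E hE hCE F₀ hst₀ _ hD
  have hhF : (T ⊔ centralizerIn Sh T).subtype.comp h.toMonoidHom ∈ F₀.Hom (T ⊔ centralizerIn Sh T) :=
    (mem_autGroup_iff F₀ le_rfl h).mp hh
  -- `h` fixes the elements of `T`
  have hfix' : ∀ (x : ↥(T ⊔ centralizerIn Sh T)), (x : Ω) ∈ T → h x = x := by
    intro x hxT
    have e : x = Subgroup.inclusion le_sup_left (⟨(x : Ω), hxT⟩ : T) := Subtype.ext rfl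
    apply Subtype.ext
    rw [e]
    exact hfix ⟨(x : Ω), hxT⟩
  -- (1) `h` maps `C = C_X(T)` into itself
  have hC : ∀ (c : ↥(T ⊔ centralizerIn Sh T)), (c : Ω) ∈ centralizerIn (T ⊔ centralizerIn Sh T) T →
      ((h c : ↥(T ⊔ centralizerIn Sh T)) : Ω) ∈ centralizerIn (T ⊔ centralizerIn Sh T) T := by
    intro c hc
    rw [mem_centralizerIn] at hc ⊢
    refine ⟨(h c).2, fun t ht => ?_⟩
    have e1 : (⟨t, hTX ht⟩ : ↥(T ⊔ centralizerIn Sh T)) * c = c * ⟨t, hTX ht⟩ :=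
      Subtype.ext (hc.2 t ht)
    have e2 := congrArg h e1
    rw [map_mul, map_mul, hfix' ⟨t, hTX ht⟩ ht] at e2
    exact congrArg Subtype.val e2
  -- (2) elements of `C` are moved inside `T`
  have hCmove : ∀ (c : ↥(T ⊔ centralizerIn Sh T)), (c : Ω) ∈ centralizerIn (T ⊔ centralizerIn Sh T) T →
      (c : Ω)⁻¹ * ((h c : ↥(T ⊔ centralizerIn Sh T)) : Ω) ∈ T := by
    intro c hc
    apply hfoc
    have hCX : centralizerIn (T ⊔ centralizerIn Sh T) T ≤ T ⊔ centralizerIn Sh T := inf_le_left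
    have hCT : centralizerIn (T ⊔ centralizerIn Sh T) T ⊔ T ≤ T ⊔ centralizerIn Sh T :=
      sup_le hCX hTX
    have hφ : ((T ⊔ centralizerIn Sh T).subtype.comp h.toMonoidHom).comp (Subgroup.inclusion hCX) ∈
        (centSys F₀ T hTX).Hom (centralizerIn (T ⊔ centralizerIn Sh T) T) := by
      show _ ∈ F₀.centralizerHom T _
      refine ⟨restrict_mem F₀ hCX hhF, le_rfl, fun x => hC _ x.2,
        ((T ⊔ centralizerIn Sh T).subtype.comp h.toMonoidHom).comp (Subgroup.inclusion hCT),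
        restrict_mem F₀ hCT hhF, fun x => rfl, fun t => ?_⟩
      exact hfix t
    refine Subgroup.subset_closure ⟨_, _, ⟨(c : Ω), hc⟩, hφ, ?_⟩
    rfl
  -- `T` is normal in `X`
  have hXN : T ⊔ centralizerIn Sh T ≤ Subgroup.normalizer (T : Set Ω) :=
    sup_le Subgroup.le_normalizer
      ((inf_le_right : centralizerIn Sh T ≤ Subgroup.centralizer (T : Set Ω)).trans
        (Subgroup.centralizer_le_normalizer _))
  have hnorm : ∀ y ∈ T ⊔ centralizerIn Sh T, ∀ s ∈ T, y * s * y⁻¹ ∈ T := fun y hy s hs =>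
    (Subgroup.mem_normalizer_iff.mp (hXN hy) s).mp hs
  -- the subgroup of elements moved inside `T`
  let K : Subgroup ↥(T ⊔ centralizerIn Sh T) :=
    { carrier := {x | (x : Ω)⁻¹ * ((h x : ↥(T ⊔ centralizerIn Sh T)) : Ω) ∈ T}
      one_mem' := by
        show ((1 : ↥(T ⊔ centralizerIn Sh T)) : Ω)⁻¹ *
          ((h 1 : ↥(T ⊔ centralizerIn Sh T)) : Ω) ∈ T
        rw [map_one]
        simp
      mul_mem' := by
        intro x y hx hy
        show ((x * y : ↥(T ⊔ centralizerIn Sh T)) : Ω)⁻¹ *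
          ((h (x * y) : ↥(T ⊔ centralizerIn Sh T)) : Ω) ∈ T
        rw [map_mul]
        have e : ((x * y : ↥(T ⊔ centralizerIn Sh T)) : Ω)⁻¹ *
            ((h x * h y : ↥(T ⊔ centralizerIn Sh T)) : Ω) =
            ((y : Ω)⁻¹ * ((x : Ω)⁻¹ * ((h x : ↥(T ⊔ centralizerIn Sh T)) : Ω)) * (y : Ω)⁻¹⁻¹) *
              ((y : Ω)⁻¹ * ((h y : ↥(T ⊔ centralizerIn Sh T)) : Ω)) := by
          rw [Subgroup.coe_mul, Subgroup.coe_mul]
          group
        rw [e]
        exact T.mul_mem (hnorm _ (Subgroup.inv_mem _ y.2) _ hx) hy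
      inv_mem' := by
        intro x hx
        show ((x⁻¹ : ↥(T ⊔ centralizerIn Sh T)) : Ω)⁻¹ *
          ((h x⁻¹ : ↥(T ⊔ centralizerIn Sh T)) : Ω) ∈ T
        rw [map_inv]
        have e : ((x⁻¹ : ↥(T ⊔ centralizerIn Sh T)) : Ω)⁻¹ *
            (((h x)⁻¹ : ↥(T ⊔ centralizerIn Sh T)) : Ω) =
            (x : Ω) * ((x : Ω)⁻¹ * ((h x : ↥(T ⊔ centralizerIn Sh T)) : Ω))⁻¹ * (x : Ω)⁻¹ := by
          rw [Subgroup.coe_inv, Subgroup.coe_inv]
          group
        rw [e]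
        exact hnorm _ x.2 _ (T.inv_mem hx) }
  have h1 : T.subgroupOf (T ⊔ centralizerIn Sh T) ≤ K := by
    intro x hx
    rw [Subgroup.mem_subgroupOf] at hx
    show (x : Ω)⁻¹ * ((h x : ↥(T ⊔ centralizerIn Sh T)) : Ω) ∈ T
    rw [hfix' x hx, inv_mul_cancel]
    exact T.one_mem
  have h2 : (centralizerIn Sh T).subgroupOf (T ⊔ centralizerIn Sh T) ≤ K := by
    intro x hx
    rw [Subgroup.mem_subgroupOf] at hx
    exact hCmove x ⟨x.2, hx.2⟩
  have h3 : T.subgroupOf (T ⊔ centralizerIn Sh T) ⊔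
      (centralizerIn Sh T).subgroupOf (T ⊔ centralizerIn Sh T) ≤ K := sup_le h1 h2
  rw [← Subgroup.subgroupOf_sup le_sup_left le_sup_right, Subgroup.subgroupOf_self] at h3
  intro x
  exact h3 (Subgroup.mem_top x)

end Cfsg.Agent.Helper3.OLR
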