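import Mathlib
import Cfsg.Agent.Lib.OLR.OLRDefs
import Cfsg.Agent.Lib.Helper25.FusionInvariant

/-!
# OLR-FE (S5201): every `γ ∈ Aut_E(T)` has an extension to `X = T C_S(T)` in `F₀` that is trivial modulo `T`. (MEDIUM)

RECIPE. `X := T ⊔ centralizerIn Sh T`. The extension clause `hst₀.nor.2 γ hγ` gives `β ∈ F₀.autGroup (T ⊔ centralizerIn X T)` with `β|_T = γ` and `c⁻¹ β(c) ∈ T ⊓ centralizer T` for `c ∈ centralizerIn X T`.
`hc : centralizerIn X T = centralizerIn Sh T` (`le_antisymm (inf_le_inf_right _ hst₀.le) (fun c hc' => ⟨(le_sup_right : centralizerIn Sh T ≤ T ⊔ centralizerIn Sh T) hc', hc'.2⟩)`), so `T ⊔ centralizerIn X T = X`: transport `β` to `b : MulAut ↥X`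
(`rw [hc] at β…` does not work on terms: instead prove the statement for an arbitrary subgroup `C'` with `C' = centralizerIn Sh T` by `subst`, i.e. `obtain ⟨C', hC'⟩ : ∃ C', C' = centralizerIn X T := ⟨_, rfl⟩`, rewrite everything in terms of `C'`, then `subst` after `hc`;
or use `MulEquiv.subgroupCongr` as in `Lib/PIX/PIXExtS.lean`).
Trivial mod `T`: the set `{x : X | x⁻¹ b x ∈ T}` contains `T` (`t⁻¹ γ(t) ∈ T`), contains `centralizerIn Sh T` (clause), closed under products since `T` is normal in `X` (`hst₀.nor.1.2.2.2.1` strongly closed) and `b` maps `T` to `T`: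
`(xy)⁻¹ b(xy) = y⁻¹ (x⁻¹ b x) y * (y⁻¹ b y)`; conclude by `Subgroup.sup_induction`/`closure_induction`.
Keep the statement, name, namespace exactly (you may add imports).
-/

set_option autoImplicit false

namespace Cfsg.Agent.Helper3.OLR

open Cfsg Cfsg.FusionSystem Cfsg.Agent.Helper25 Cfsg.Agent.Helper26

variable {Ω : Type*} [Group Ω]

/-- the elements on which two homomorphisms agree modulo `T` -/
def olrfe_eqT (T : Subgroup Ω) {A : Type*} [Group A] (f g : A →* Ω)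
    (hf : ∀ a, f a ∈ Subgroup.normalizer (T : Set Ω)) : Subgroup A where
  carrier := {u | (f u)⁻¹ * g u ∈ T}
  one_mem' := by simp
  mul_mem' := by
    intro u v hu hv
    simp only [Set.mem_ofPred_eq, map_mul] at *
    have h1 : (f v)⁻¹ * ((f u)⁻¹ * g u) * ((f v)⁻¹)⁻¹ ∈ T :=
      ((Subgroup.mem_normalizer_iff.mp (inv_mem (hf v))) _).mp hu
    have e : (f u * f v)⁻¹ * (g u * g v) =
        ((f v)⁻¹ * ((f u)⁻¹ * g u) * ((f v)⁻¹)⁻¹) * ((f v)⁻¹ * g v) := by group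
    rw [e]
    exact T.mul_mem h1 hv
  inv_mem' := by
    intro u hu
    simp only [Set.mem_ofPred_eq, map_inv] at *
    have h1 : f u * ((f u)⁻¹ * g u)⁻¹ * (f u)⁻¹ ∈ T :=
      ((Subgroup.mem_normalizer_iff.mp (hf u)) _).mp (T.inv_mem hu)
    have e : ((f u)⁻¹)⁻¹ * (g u)⁻¹ = f u * ((f u)⁻¹ * g u)⁻¹ * (f u)⁻¹ := by group
    rw [e]
    exact h1

theorem olrfe_sup_mem {P Q : Subgroup Ω} (D : Subgroup ↥(P ⊔ Q))
    (hP : ∀ (a : Ω) (ha : a ∈ P), (⟨a, (le_sup_left : P ≤ P ⊔ Q) ha⟩ : ↥(P ⊔ Q)) ∈ D)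
    (hQ : ∀ (b : Ω) (hb : b ∈ Q), (⟨b, (le_sup_right : Q ≤ P ⊔ Q) hb⟩ : ↥(P ⊔ Q)) ∈ D)
    (x : ↥(P ⊔ Q)) : x ∈ D := by
  have h : (⊤ : Subgroup ↥(P ⊔ Q)) ≤ D := by
    rw [← Subgroup.subgroupOf_self (P ⊔ Q), Subgroup.subgroupOf_sup le_sup_left le_sup_right]
    refine sup_le ?_ ?_
    · intro y hy
      exact hP y.1 (Subgroup.mem_subgroupOf.mp hy)
    · intro y hy
      exact hQ y.1 (Subgroup.mem_subgroupOf.mp hy)
  exact h (Subgroup.mem_top x)

theorem exists_ext_triv_mod_T {Sh : Subgroup Ω} [Finite Sh] (p : ℕ) [Fact p.Prime] (hSh : IsPGroup p Sh)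
    (Fh : FusionSystem Sh) (hFh : Fh.IsSaturated p) {T : Subgroup Ω} (E : FusionSystem T)
    (hE : E.IsNormalIn Fh p)
    (F₀ : FusionSystem (T ⊔ centralizerIn Sh T)) (hst₀ : Stage p Fh E F₀)
    (hA₀ : F₀.autGroup T = E.autGroup T)
    (γ : MulAut T) (hγ : γ ∈ E.autGroup T) :
    ∃ b : MulAut ↥(T ⊔ centralizerIn Sh T), b ∈ F₀.autGroup (T ⊔ centralizerIn Sh T) ∧
      (∀ t : T, ((b (Subgroup.inclusion le_sup_left t) : ↥(T ⊔ centralizerIn Sh T)) : Ω) = ((γ t : T) : Ω)) ∧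
      ∀ x : ↥(T ⊔ centralizerIn Sh T), (x : Ω)⁻¹ * ((b x : ↥(T ⊔ centralizerIn Sh T)) : Ω) ∈ T := by
  have hTF₀ : F₀.StronglyClosed T := hst₀.nor.1.2.2.2.1
  have hc : centralizerIn (T ⊔ centralizerIn Sh T) T = centralizerIn Sh T :=
    le_antisymm (inf_le_inf_right _ hst₀.le) (fun c hc' => ⟨(le_sup_right : centralizerIn Sh T ≤ T ⊔ centralizerIn Sh T) hc', hc'.2⟩)
  have h : T ⊔ centralizerIn (T ⊔ centralizerIn Sh T) T = T ⊔ centralizerIn Sh T := by rw [hc]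
  obtain ⟨β, hβ, hβT, hβc⟩ := hst₀.nor.2 γ hγ
  let b : MulAut ↥(T ⊔ centralizerIn Sh T) :=
    (MulEquiv.subgroupCongr h.symm).trans (β.trans (MulEquiv.subgroupCongr h))
  have hbv : ∀ u : ↥(T ⊔ centralizerIn Sh T),
      ((b u : ↥(T ⊔ centralizerIn Sh T)) : Ω) =
        ((β ⟨(u : Ω), h.ge u.2⟩ : ↥(T ⊔ centralizerIn (T ⊔ centralizerIn Sh T) T)) : Ω) :=
    fun u => rfl
  have hbT : ∀ t : T, ((b (Subgroup.inclusion le_sup_left t) : ↥(T ⊔ centralizerIn Sh T)) : Ω) =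
      ((γ t : T) : Ω) := by
    intro t
    rw [hbv]
    exact hβT t
  refine ⟨b, ?_, hbT, ?_⟩
  · rw [mem_autGroup_iff F₀ le_rfl b]
    have hβF := (mem_autGroup_iff F₀ h.le β).mp hβ
    have heq : (T ⊔ centralizerIn Sh T).subtype.comp b.toMonoidHom =
        ((T ⊔ centralizerIn (T ⊔ centralizerIn Sh T) T).subtype.comp β.toMonoidHom).comp
          (Subgroup.inclusion h.ge) := by
      ext u
      exact hbv u
    rw [heq]
    exact restrict_mem F₀ h.ge hβF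
  · have hnorm : ∀ a : ↥(T ⊔ centralizerIn Sh T),
        (T ⊔ centralizerIn Sh T).subtype a ∈ Subgroup.normalizer (T : Set Ω) :=
      fun a => mem_normalizer_of_stronglyClosed hTF₀ a.2
    intro x
    have hx : x ∈ olrfe_eqT T (T ⊔ centralizerIn Sh T).subtype
        ((T ⊔ centralizerIn Sh T).subtype.comp b.toMonoidHom) hnorm := by
      apply olrfe_sup_mem
      · intro a ha
        show (a : Ω)⁻¹ * ((b ⟨a, _⟩ : ↥(T ⊔ centralizerIn Sh T)) : Ω) ∈ T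
        have e := hbT ⟨a, ha⟩
        have e' : ((b ⟨a, (le_sup_left : T ≤ T ⊔ centralizerIn Sh T) ha⟩ :
            ↥(T ⊔ centralizerIn Sh T)) : Ω) = ((γ ⟨a, ha⟩ : T) : Ω) := e
        rw [e']
        exact T.mul_mem (T.inv_mem ha) (γ ⟨a, ha⟩).2
      · intro c hcc
        show (c : Ω)⁻¹ * ((b ⟨c, _⟩ : ↥(T ⊔ centralizerIn Sh T)) : Ω) ∈ T
        rw [hbv]
        have hcX : c ∈ centralizerIn (T ⊔ centralizerIn Sh T) T := by rw [hc]; exact hcc
        exact (hβc ⟨c, (le_sup_right : centralizerIn (T ⊔ centralizerIn Sh T) T ≤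
          T ⊔ centralizerIn (T ⊔ centralizerIn Sh T) T) hcX⟩ hcX).1
    exact hx

end Cfsg.Agent.Helper3.OLR
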