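import Mathlib
import Cfsg.Agent.Lib.OLR.OLRDefs
import Cfsg.Agent.Lib.OLR.OLRFd
import Cfsg.Agent.Lib.OLR.OLRFe

/-!
# OLR-FF (S5201): every automorphism of `X = T C_S(T)` in `F₀` is trivial modulo `T`. (MEDIUM)

RECIPE. `T` is strongly closed in `F₀` so `g` maps `T` onto `T`: let `γ : MulAut T` be the restriction (`MulEquiv.ofBijective`; or from Lib/Helper25/FusionNormal3.lean `aut_mem_of_stronglyClosed`-style lemma),
`γ ∈ F₀.autGroup T` (`restrict_mem`), `= E.autGroup T` by `hA₀`. `obtain ⟨b, hb, hbγ, hbT⟩ := exists_ext_triv_mod_T … γ hγ`. `h := b⁻¹ * g ∈ F₀.autGroup X` fixes `T` elementwise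
(`b (g t)`… careful: `h t = b⁻¹ (g t) = b⁻¹ (γ t) = t` since `b t = γ t`... precisely `b⁻¹ (b t') = t'` with `t' := ` the element with `b t' = γ t`; simplest: show `b (incl t) = g (incl t)` for all `t`, hence `b⁻¹ (g (incl t)) = incl t`).
`triv_mod_T_of_fix … h hh hfix : x⁻¹ h x ∈ T`. Finally `g = b * h`: `x⁻¹ g x = x⁻¹ b (h x) = (x⁻¹ b x) * b (x⁻¹ h x)` and `b` maps `T` into `T` (`b τ = τ (τ⁻¹ b τ)`, both factors in `T`).
Keep the statement, name, namespace exactly (you may add imports).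
-/

set_option autoImplicit false

namespace Cfsg.Agent.Helper3.OLR

open Cfsg Cfsg.FusionSystem Cfsg.Agent.Helper25 Cfsg.Agent.Helper26

variable {Ω : Type*} [Group Ω]

theorem aut_triv_mod_T {Sh : Subgroup Ω} [Finite Sh] (p : ℕ) [Fact p.Prime] (hSh : IsPGroup p Sh)
    (Fh : FusionSystem Sh) (hFh : Fh.IsSaturated p) {T : Subgroup Ω} (E : FusionSystem T)
    (hE : E.IsNormalIn Fh p)
    (hCE : ∀ Y : Subgroup Ω, Y ≤ centralizerIn Sh T →
      (∀ C : FusionSystem (centralizerIn Sh Y), Fh.IsCentralizerSystem Y C → E.IsSubsystemOf C) → Y ≤ T)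
    (F₀ : FusionSystem (T ⊔ centralizerIn Sh T)) (hst₀ : Stage p Fh E F₀)
    (hA₀ : F₀.autGroup T = E.autGroup T)
    (g : MulAut ↥(T ⊔ centralizerIn Sh T)) (hg : g ∈ F₀.autGroup (T ⊔ centralizerIn Sh T)) :
    ∀ x : ↥(T ⊔ centralizerIn Sh T), (x : Ω)⁻¹ * ((g x : ↥(T ⊔ centralizerIn Sh T)) : Ω) ∈ T := by
  sorry

end Cfsg.Agent.Helper3.OLR
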