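import Mathlib
import Cfsg.Agent.Lib.OLR.OLRDefs
import Cfsg.Agent.Lib.OLR.OLRFf

/-!
# OLR-FH1 (S5201): the factor system `F₀/T` has trivial automizer of the top group. (MEDIUM)

RECIPE. `X := T ⊔ centralizerIn Sh T`, `θ := QuotientGroup.mk' (T.subgroupOf X)`. For `g ∈ Q.autGroup ⊤`: `(mem_autGroup_iff Q le_rfl g).mp hg : ⊤.subtype.comp g.toMonoidHom ∈ Q.Hom ⊤`;
`(hQ.2.2.2 ⊤ _).mp` gives `φ ∈ F₀.Hom (preimageAlong θ ⊤)` and `InducedAlong θ φ _` = `⟨hP, hφS, hP', hcomm⟩` with `hcomm x : g' ⟨θ x, _⟩ = θ ⟨φ x, _⟩`.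
`preimageAlong θ ⊤ = X` (`(⊤.comap θ).map X.subtype = X`: `Subgroup.comap_top`, `Subgroup.map_subtype_top`?? i.e. `← MonoidHom.range_eq_map, Subgroup.range_subtype`); transport `φ` to `φ' ∈ F₀.Hom X` (prove the claim for an arbitrary `P` with `P = X` by `subst`).
`φ'` is injective into the finite `X`, hence bijective: get `g₀ : MulAut ↥X` with `g₀ ∈ F₀.autGroup X` and `(g₀ x : Ω) = φ' x` (`MulEquiv.ofBijective` + `Finite.injective_iff_bijective`; cf. `Helper25` lemmas `autOfHom`/`exists_aut_of_hom`: grep `ofBijective` in Lib/Helper25).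
`aut_triv_mod_T … g₀ hg₀ x : x⁻¹ * g₀ x ∈ T`, so `θ (g₀ x) = θ x` (`QuotientGroup.eq`, `Subgroup.mem_subgroupOf`), so `g (θ x) = θ x`; `θ` is onto (`QuotientGroup.mk_surjective`), so `g = 1` (`MulEquiv.ext`, elements of `⊤` are `⟨q, trivial⟩`).
Keep the statement, name, namespace exactly (you may add imports).
-/

set_option autoImplicit false

namespace Cfsg.Agent.Helper3.OLR

open Cfsg Cfsg.FusionSystem Cfsg.Agent.Helper25 Cfsg.Agent.Helper26

variable {Ω : Type*} [Group Ω]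

theorem factor_aut_trivial {Sh : Subgroup Ω} [Finite Sh] (p : ℕ) [Fact p.Prime] (hSh : IsPGroup p Sh)
    (Fh : FusionSystem Sh) (hFh : Fh.IsSaturated p) {T : Subgroup Ω} (E : FusionSystem T)
    (hE : E.IsNormalIn Fh p)
    (hCE : ∀ Y : Subgroup Ω, Y ≤ centralizerIn Sh T →
      (∀ C : FusionSystem (centralizerIn Sh Y), Fh.IsCentralizerSystem Y C → E.IsSubsystemOf C) → Y ≤ T)
    (F₀ : FusionSystem (T ⊔ centralizerIn Sh T)) (hst₀ : Stage p Fh E F₀)
    (hA₀ : F₀.autGroup T = E.autGroup T)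
    [hTn : (T.subgroupOf (T ⊔ centralizerIn Sh T)).Normal]
    (Q : FusionSystem (⊤ : Subgroup (↥(T ⊔ centralizerIn Sh T) ⧸ T.subgroupOf (T ⊔ centralizerIn Sh T))))
    (hQ : F₀.IsFactorSystem T (QuotientGroup.mk' (T.subgroupOf (T ⊔ centralizerIn Sh T))) Q) :
    ∀ g ∈ Q.autGroup ⊤, g = 1 := by
  sorry

end Cfsg.Agent.Helper3.OLR
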