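import Mathlib
import Cfsg.Agent.Lib.OLR.OLRDefs
import Cfsg.Agent.Lib.OLR.OLRFb
import Cfsg.Agent.Lib.Helper25.FusionCentSys

/-!
# OLR-FC (S5201): `T C_S(T) / T` is abelian.

RECIPE. `X := T ⊔ centralizerIn Sh T`, `C := centralizerIn X T` (contains `centralizerIn Sh T`: `fun c hc => ⟨(le_sup_right : centralizerIn Sh T ≤ T ⊔ centralizerIn Sh T) hc, hc.2⟩`),
`D := Helper25.centSys F₀ T hst₀.T_le` (`Helper25.isCentralizerSystem_centSys`-named lemma at Lib/Helper25/FusionCentSys.lean:143), `hfoc := foc_cent_le_T … F₀ hst₀ D _`.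
(1) for `c c' ∈ C`: `c⁻¹ * (c' * c * c'⁻¹) ∈ D.focalSubgroup` (`Subgroup.subset_closure ⟨C', conjHom …, ⟨c,_⟩, D.conj_mem …, rfl⟩` with `D.conj_mem le_rfl hc'`), so `∈ T`.
(2) `T` is normal in `X` (`hst₀.nor.1.2.2.2.1` strongly closed + `Helper25.mem_normalizer_of_stronglyClosed`/`conj_mem_of_stronglyClosed`), elements of `centralizerIn Sh T` centralize `T`.
(3) `Subgroup.commutator_le`: for `x y ∈ X` write `x = t c`, `y = t' c'` (`Subgroup.mem_sup` needs normality: use `Subgroup.mul_normal`/`Subgroup.sup_eq_closure_mul` or induct with `Subgroup.closure_induction` on `x`, `y`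
over `T ∪ C`; commutator identities `⁅xy,z⁆ = x⁅y,z⁆x⁻¹⁅x,z⁆`), reduce to `⁅c,c'⁆ ∈ T` (1), `⁅t,·⁆ ∈ T` (normality).
Simplest: the map `X → X ⧸ T'` (T' := T.subgroupOf X normal) has commutative range because it is generated by images of `C`, which commute by (1) and `T` maps to 1; conclude with `QuotientGroup.eq_one_iff`.
Keep the statement, name, namespace exactly (you may add imports).
-/

set_option autoImplicit false
set_option linter.unusedVariables false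

namespace Cfsg.Agent.Helper3.OLR

open Cfsg Cfsg.FusionSystem Cfsg.Agent.Helper25 Cfsg.Agent.Helper26

variable {Ω : Type*} [Group Ω]

theorem commutator_le_T {Sh : Subgroup Ω} [Finite Sh] (p : ℕ) [Fact p.Prime] (hSh : IsPGroup p Sh)
    (Fh : FusionSystem Sh) (hFh : Fh.IsSaturated p) {T : Subgroup Ω} (E : FusionSystem T)
    (hE : E.IsNormalIn Fh p)
    (hCE : ∀ Y : Subgroup Ω, Y ≤ centralizerIn Sh T →
      (∀ C : FusionSystem (centralizerIn Sh Y), Fh.IsCentralizerSystem Y C → E.IsSubsystemOf C) → Y ≤ T)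
    (F₀ : FusionSystem (T ⊔ centralizerIn Sh T)) (hst₀ : Stage p Fh E F₀)
    (hA₀ : F₀.autGroup T = E.autGroup T) :
    ⁅T ⊔ centralizerIn Sh T, T ⊔ centralizerIn Sh T⁆ ≤ T := by
  classical
  have hTX : T ≤ T ⊔ centralizerIn Sh T := le_sup_left
  have hD : F₀.IsCentralizerSystem T (centSys F₀ T hTX) := isCentralizerSystem_centSys F₀ T hTX
  have hfoc : (centSys F₀ T hTX).focalSubgroup ≤ T :=
    foc_cent_le_T p hSh Fh hFh E hE hCE F₀ hst₀ (centSys F₀ T hTX) hD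
  -- (1) commutators of elements of `C_Sh(T)` lie in `T`
  have h1 : ∀ c ∈ centralizerIn Sh T, ∀ c' ∈ centralizerIn Sh T, c⁻¹ * (c' * c * c'⁻¹) ∈ T := by
    intro c hc c' hc'
    have hcX : c ∈ centralizerIn (T ⊔ centralizerIn Sh T) T := ⟨(le_sup_right : centralizerIn Sh T ≤ T ⊔ centralizerIn Sh T) hc, hc.2⟩
    have hcX' : c' ∈ centralizerIn (T ⊔ centralizerIn Sh T) T := ⟨(le_sup_right : centralizerIn Sh T ≤ T ⊔ centralizerIn Sh T) hc', hc'.2⟩
    apply hfoc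
    exact Subgroup.subset_closure
      ⟨centralizerIn (T ⊔ centralizerIn Sh T) T, conjHom _ c', ⟨c, hcX⟩,
        (centSys F₀ T hTX).conj_mem le_rfl hcX', rfl⟩
  have hcomm : ∀ (t : T) (c : centralizerIn Sh T),
      Commute (T.subtype t) ((centralizerIn Sh T).subtype c) := by
    intro t c
    exact (Subgroup.mem_centralizer_iff.mp c.2.2) t t.2
  rw [Subgroup.commutator_le]
  intro x hx y hy
  have hr : (MonoidHom.noncommCoprod T.subtype (centralizerIn Sh T).subtype hcomm).range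
      = T ⊔ centralizerIn Sh T := by
    rw [MonoidHom.noncommCoprod_range, Subgroup.range_subtype, Subgroup.range_subtype]
  rw [← hr] at hx hy
  obtain ⟨⟨t, c⟩, rfl⟩ := hx
  obtain ⟨⟨t', c'⟩, rfl⟩ := hy
  rw [commutatorElement_def, ← map_inv, ← map_inv, ← map_mul, ← map_mul, ← map_mul,
    MonoidHom.noncommCoprod_apply]
  refine T.mul_mem (SetLike.coe_mem (((t, c) * (t', c') * (t, c)⁻¹ * (t', c')⁻¹ : ↥T × ↥(centralizerIn Sh T))).1) ?_
  show (((c * c' * c⁻¹ * c'⁻¹ : ↥(centralizerIn Sh T))) : Ω) ∈ T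
  have h2 : (((c * c' * c⁻¹ * c'⁻¹ : ↥(centralizerIn Sh T))) : Ω)
      = (c : Ω) * c' * (c : Ω)⁻¹ * (c' : Ω)⁻¹ := rfl
  rw [h2]
  have h3 := h1 (c : Ω)⁻¹ ((centralizerIn Sh T).inv_mem c.2) c' c'.2
  have h4 : ((c : Ω)⁻¹)⁻¹ * ((c' : Ω) * (c : Ω)⁻¹ * (c' : Ω)⁻¹) = (c : Ω) * c' * (c : Ω)⁻¹ * (c' : Ω)⁻¹ := by
    group
  rw [← h4]
  exact h3

end Cfsg.Agent.Helper3.OLR
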