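import Mathlib
import Cfsg.Agent.Lib.OLR.OLRDefs
import Cfsg.Agent.Lib.OLR.OLRFc

/-!
# OLR-FH2 (S5201): the quotient `T C_S(T) / T` is commutative.

RECIPE. `x y : X ⧸ T'`; `obtain ⟨a, rfl⟩ := QuotientGroup.mk_surjective x`, same for `y`; `← QuotientGroup.mk_mul`, `QuotientGroup.eq`: need `(a*b)⁻¹ * (b*a) ∈ T.subgroupOf X`, i.e. (`Subgroup.mem_subgroupOf`) the value in `Ω` lies in `T`;
it equals a commutator of elements of `X`: `(a b)⁻¹ (b a) = ⁅b⁻¹, a⁻¹⁆` (`commutatorElement_def`, `group`), which lies in `⁅X, X⁆ ≤ T` (`Subgroup.commutator_mem_commutator` + `commutator_le_T …`).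
Keep the statement, name, namespace exactly (you may add imports).
-/

set_option autoImplicit false

namespace Cfsg.Agent.Helper3.OLR

open Cfsg Cfsg.FusionSystem Cfsg.Agent.Helper25 Cfsg.Agent.Helper26

variable {Ω : Type*} [Group Ω]

theorem factor_abelian {Sh : Subgroup Ω} [Finite Sh] (p : ℕ) [Fact p.Prime] (hSh : IsPGroup p Sh)
    (Fh : FusionSystem Sh) (hFh : Fh.IsSaturated p) {T : Subgroup Ω} (E : FusionSystem T)
    (hE : E.IsNormalIn Fh p)
    (hCE : ∀ Y : Subgroup Ω, Y ≤ centralizerIn Sh T →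
      (∀ C : FusionSystem (centralizerIn Sh Y), Fh.IsCentralizerSystem Y C → E.IsSubsystemOf C) → Y ≤ T)
    (F₀ : FusionSystem (T ⊔ centralizerIn Sh T)) (hst₀ : Stage p Fh E F₀)
    (hA₀ : F₀.autGroup T = E.autGroup T)
    [hTn : (T.subgroupOf (T ⊔ centralizerIn Sh T)).Normal] :
    ∀ x ∈ (⊤ : Subgroup (↥(T ⊔ centralizerIn Sh T) ⧸ T.subgroupOf (T ⊔ centralizerIn Sh T))),
      ∀ y ∈ (⊤ : Subgroup (↥(T ⊔ centralizerIn Sh T) ⧸ T.subgroupOf (T ⊔ centralizerIn Sh T))),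
        x * y = y * x := by
  sorry

end Cfsg.Agent.Helper3.OLR
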