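import Mathlib
import Cfsg.Agent.Lib.OLR.OLRDefs
import Cfsg.Agent.Lib.OLR.OLRFh1
import Cfsg.Agent.Lib.OLR.OLRFh2
import Cfsg.Agent.Lib.OLR.OLRFg
import Cfsg.Agent.S5132
import Cfsg.Agent.S5133
import Cfsg.Agent.S5134
import Cfsg.Agent.S5256

/-!
# OLR-FH3 (S5201): `hyp(F₀) ≤ T`. (MEDIUM)

RECIPE. `X := T ⊔ centralizerIn Sh T ≤ Sh` (`hst₀.le`), `haveI : Finite ↥X`, `hX : IsPGroup p ↥X := hSh.to_le hst₀.le`, `hT : F₀.StronglyClosed T := hst₀.nor.1.2.2.2.1`.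
`haveI : (T.subgroupOf X).Normal` (strongly closed ⟹ normal: `Helper25.mem_normalizer_of_stronglyClosed hT` gives `X ≤ normalizer T`; then `Subgroup.Normal` of `subgroupOf` via `conj_mem`).
`obtain ⟨Q, hQ⟩ := Cfsg.Agent.S5132.result p hX F₀ T hT`; `θ := QuotientGroup.mk' (T.subgroupOf X)`;
`hmor := Cfsg.Agent.S5134.result p hX F₀ hst₀.sat T hT θ Q hQ`; `hQs := Cfsg.Agent.S5133.result p hX F₀ hst₀.sat Q θ hmor`.
`⊤ : Subgroup (X ⧸ _)` is a finite `p`-group (quotient of `X`: `IsPGroup.to_quotient`, `Subgroup.topEquiv`/`IsPGroup.of_surjective`…).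
`hbot := hyp_eq_bot_of_abelian p h⊤p Q hQs (factor_abelian …) (factor_aut_trivial … Q hQ)`.
`h56 := Cfsg.Agent.S5256.result p hX F₀ hst₀.sat T hT θ Q hQ : Q.hyperfocalSubgroup p = ((F₀.hyperfocalSubgroup p).subgroupOf X).map θ`.
For `y ∈ hyp(F₀)` (`y ∈ X` by `hyperfocalSubgroup_le`): `θ ⟨y,_⟩ ∈ map … = Q.hyp = ⊥`, so `θ ⟨y,_⟩ = 1`, so `y ∈ T` (`QuotientGroup.eq_one_iff`, `Subgroup.mem_subgroupOf`).
Keep the statement, name, namespace exactly (you may add imports).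
-/

set_option autoImplicit false

namespace Cfsg.Agent.Helper3.OLR

open Cfsg Cfsg.FusionSystem Cfsg.Agent.Helper25 Cfsg.Agent.Helper26

variable {Ω : Type*} [Group Ω]

theorem hyp_le_T {Sh : Subgroup Ω} [Finite Sh] (p : ℕ) [Fact p.Prime] (hSh : IsPGroup p Sh)
    (Fh : FusionSystem Sh) (hFh : Fh.IsSaturated p) {T : Subgroup Ω} (E : FusionSystem T)
    (hE : E.IsNormalIn Fh p)
    (hCE : ∀ Y : Subgroup Ω, Y ≤ centralizerIn Sh T →
      (∀ C : FusionSystem (centralizerIn Sh Y), Fh.IsCentralizerSystem Y C → E.IsSubsystemOf C) → Y ≤ T)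
    (F₀ : FusionSystem (T ⊔ centralizerIn Sh T)) (hst₀ : Stage p Fh E F₀)
    (hA₀ : F₀.autGroup T = E.autGroup T) :
    F₀.hyperfocalSubgroup p ≤ T := by
  sorry

end Cfsg.Agent.Helper3.OLR
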