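import Mathlib
import Cfsg.Agent.Lib.OLR.OLRDefs
import Cfsg.Agent.Lib.Helper3.PPrimeRes
import Cfsg.Agent.S5120
import Cfsg.Agent.S5199
import Cfsg.Agent.S5142

/-!
# OLR-FI (S5201): `E` has index prime to `p` in the `p`-power-index subsystem `G` of `F₀` over `T`. (MEDIUM)

RECIPE. `X := T ⊔ centralizerIn Sh T`, `haveI : Finite ↥X`, `hX : IsPGroup p ↥X`, `hTX : T ≤ X := le_sup_left`, `hT : F₀.StronglyClosed T := hst₀.nor.1.2.2.2.1`;
`(T.subgroupOf X).Normal` from strong closure. `hGn : G.IsNormalIn F₀ p := Cfsg.Agent.S5120.result p hX F₀ hst₀.sat T hTX hTn hhyp G hGs hGi`.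
`hEG : E.IsSubsystemOf G := Cfsg.Agent.S5199.result p hX F₀ hst₀.sat E hst₀.nor G hGn (sup_le le_rfl hhyp) hGi`.
`M := Helper3.PPrimeRes.minSys G p`, `hM := minSys_isPPrimeResidual p hTp G hGs : G.IsPPrimeResidual p M` (check the exact signature in Lib/Helper3/PPrimeRes.lean).
`hME : M.IsSubsystemOf E := Cfsg.Agent.S5142.result p hX F₀ hst₀.sat G hGn M hM E hst₀.nor`.
Index: `⟨hEG, fun P hP => (hM.2.1.2 P hP).trans (autGroup_mono M E hME hP hP)⟩`.
Keep the statement, name, namespace exactly (you may add imports).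
-/

set_option autoImplicit false

namespace Cfsg.Agent.Helper3.OLR

open Cfsg Cfsg.FusionSystem Cfsg.Agent.Helper25 Cfsg.Agent.Helper26

variable {Ω : Type*} [Group Ω]

theorem E_primeToPIndex_G {Sh : Subgroup Ω} [Finite Sh] (p : ℕ) [Fact p.Prime] (hSh : IsPGroup p Sh)
    (Fh : FusionSystem Sh) (hFh : Fh.IsSaturated p) {T : Subgroup Ω} (E : FusionSystem T)
    (hE : E.IsNormalIn Fh p)
    (F₀ : FusionSystem (T ⊔ centralizerIn Sh T)) (hst₀ : Stage p Fh E F₀)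
    (hA₀ : F₀.autGroup T = E.autGroup T)
    (hhyp : F₀.hyperfocalSubgroup p ≤ T)
    (G : FusionSystem T) (hGs : G.IsSaturated p) (hGi : G.HasPPowerIndexIn F₀ p) :
    E.HasPrimeToPIndexIn G p := by
  have hTSh : T ≤ Sh := hE.1.2.2.2.1.1
  have hXSh : T ⊔ centralizerIn Sh T ≤ Sh := hst₀.le
  have : Finite ↥(T ⊔ centralizerIn Sh T) := finite_of_le_finite hXSh
  have : Finite ↥T := finite_of_le_finite hTSh
  have hX : IsPGroup p ↥(T ⊔ centralizerIn Sh T) := hSh.to_le hXSh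
  have hTp : IsPGroup p ↥T := hSh.to_le hTSh
  have hTX : T ≤ T ⊔ centralizerIn Sh T := le_sup_left
  have hT : F₀.StronglyClosed T := hst₀.nor.1.2.2.2.1
  have hTn : (T.subgroupOf (T ⊔ centralizerIn Sh T)).Normal := by
    refine ⟨fun n hn g => ?_⟩
    rw [Subgroup.mem_subgroupOf] at hn ⊢
    have h1 := hT.2 T le_rfl (conjHom T (g : Ω)) (F₀.conj_mem hTX g.2) ⟨(n : Ω), hn⟩
    simpa [conjHom] using h1
  have hGn : G.IsNormalIn F₀ p :=
    Cfsg.Agent.S5120.result p hX F₀ hst₀.sat T hTX hTn hhyp G hGs hGi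
  have hEG : E.IsSubsystemOf G :=
    Cfsg.Agent.S5199.result p hX F₀ hst₀.sat E hst₀.nor G hGn (sup_le le_rfl hhyp) hGi
  have hM : G.IsPPrimeResidual p (Cfsg.Agent.Helper3.PPrimeRes.minSys G p) :=
    Cfsg.Agent.Helper3.PPrimeRes.minSys_isPPrimeResidual p hTp G hGs
  have hME : (Cfsg.Agent.Helper3.PPrimeRes.minSys G p).IsSubsystemOf E :=
    Cfsg.Agent.S5142.result p hX F₀ hst₀.sat G hGn _ hM E hst₀.nor
  refine ⟨hEG, fun P hP => (hM.2.1.2 P hP).trans ?_⟩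
  intro α hα
  rw [mem_autGroup_iff E hP]
  exact hME P ((mem_autGroup_iff _ hP α).mp hα)

end Cfsg.Agent.Helper3.OLR
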