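import Mathlib
import Cfsg.Prelude.Def_Local
import Cfsg.Prelude.Def_Transfer

/-!
# OLR-GRP (S5202): the group theory of the chain: a nontrivial `p`-soluble section has a proper
`O^p` or `O^{p'}`.

## OLR-GRPA `exists_normal_of_pSolvable`
Let `π : Γh → Q := Γh ⧸ Γ₀.subgroupOf Γh`, `Ab := (A.subgroupOf Γh).map π` (nontrivial since `Γ₀ ≤ A`, `A ≠ Γ₀`).
Take the chain `H` of `hsolv`; let `i` be the LEAST index with `Ab ≤ H i` (`H (Fin.last n) = ⊤`; use `Nat.find` on
`fun k => ∃ h : k < n+1, Ab ≤ H ⟨k,h⟩`); `i ≠ 0` as `H 0 = ⊥`. Put `N := A ⊓ ((H (i-1)).comap π).map Γh.subtype`.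
`Γ₀ ≤ N` (kernel of `π`), `N ≤ A`, `N ≠ A` (minimality of `i`), normal in `A` (`H (i-1)` is normal in `Q`), and
`N.relIndex A` divides `(H (i-1)).relIndex (H i)` (`Ab ⧸ (Ab ⊓ H(i-1))` embeds in `H i ⧸ H (i-1)`; e.g.
`Subgroup.relIndex_inf_le`-style: use `Subgroup.inf_relIndex_right`, `Subgroup.relIndex_dvd_of_le_left`/`relIndex_inf_mul_relIndex`
and `Subgroup.relIndex_comap`/`Subgroup.index_comap` to transport), hence is a `p`-power or prime to `p`
(`Nat.dvd_prime_pow`, `Nat.Coprime.coprime_dvd_left`).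
Keep the statement, name, namespace exactly (you may add imports).
-/

set_option autoImplicit false
set_option linter.style.haveILetI false

namespace Cfsg.Agent.Helper3.OLR

open Cfsg

/-- for a normal subgroup `H`, the relative index is monotone (for divisibility) in the second argument -/
theorem olrgrpa_relIndex_dvd {G : Type*} [Group G] (H K L : Subgroup G) [H.Normal] (hKL : K ≤ L) :
    H.relIndex K ∣ H.relIndex L := by
  rw [← Subgroup.relIndex_subgroupOf hKL]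
  haveI : (H.subgroupOf L).Normal := Subgroup.Normal.subgroupOf inferInstance L
  exact Subgroup.relIndex_dvd_index_of_normal (H := H.subgroupOf L) (K := K.subgroupOf L)

theorem exists_normal_of_pSolvable {M : Type*} [Group M] [Finite M] (p : ℕ) [Fact p.Prime]
    (Γ₀ A Γh : Subgroup M) (h0A : Γ₀ ≤ A) (hAh : A ≤ Γh) [hn : (Γ₀.subgroupOf Γh).Normal]
    (hsolv : Cfsg.IsPSolvable p (↥Γh ⧸ Γ₀.subgroupOf Γh)) (hne : A ≠ Γ₀) :
    ∃ N : Subgroup M, Γ₀ ≤ N ∧ N ≤ A ∧ N ≠ A ∧ (N.subgroupOf A).Normal ∧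
      ((∃ m : ℕ, N.relIndex A = p ^ m) ∨ (N.relIndex A).Coprime p) := by
  have hp : p.Prime := Fact.out
  obtain ⟨n, H, hH0, hHn, hmono, hnorm, hchain⟩ := hsolv
  -- the map `A → Γh/Γ₀`
  set f : ↥A →* (↥Γh ⧸ Γ₀.subgroupOf Γh) :=
    (QuotientGroup.mk' (Γ₀.subgroupOf Γh)).comp (Subgroup.inclusion hAh) with hf
  have hker : ∀ a : ↥A, f a = 1 ↔ (a : M) ∈ Γ₀ := by
    intro a
    rw [hf, MonoidHom.comp_apply, QuotientGroup.mk'_apply, QuotientGroup.eq_one_iff,
      Subgroup.mem_subgroupOf]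
    rfl
  -- `K k := f⁻¹(H k)`
  have hK0 : (H 0).comap f ≠ ⊤ := by
    intro h
    apply hne
    apply le_antisymm _ h0A
    intro a ha
    have h1 : (⟨a, ha⟩ : ↥A) ∈ (H 0).comap f := by rw [h]; trivial
    rw [Subgroup.mem_comap, hH0, Subgroup.mem_bot] at h1
    exact (hker ⟨a, ha⟩).mp h1
  have hex : ∃ k : ℕ, ∃ h : k < n + 1, (H ⟨k, h⟩).comap f = ⊤ := by
    refine ⟨n, Nat.lt_succ_self n, ?_⟩
    have : (⟨n, Nat.lt_succ_self n⟩ : Fin (n + 1)) = Fin.last n := rfl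
    rw [this, hHn, Subgroup.comap_top]
  classical
  set i := Nat.find hex with hi
  obtain ⟨hin, hKi⟩ := Nat.find_spec hex
  have hi0 : i ≠ 0 := by
    intro h0
    apply hK0
    have e : (⟨Nat.find hex, hin⟩ : Fin (n + 1)) = 0 := Fin.ext h0
    rw [e] at hKi
    exact hKi
  obtain ⟨j, hj⟩ := Nat.exists_eq_succ_of_ne_zero hi0
  have hjn : j < n := by
    have : Nat.find hex = j + 1 := hj
    omega
  have hjmin : ¬ ∃ h : j < n + 1, (H ⟨j, h⟩).comap f = ⊤ :=
    Nat.find_min hex (by rw [← hi, hj]; exact Nat.lt_succ_self j)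
  have hKj : (H (⟨j, hjn⟩ : Fin n).castSucc).comap f ≠ ⊤ := by
    intro h
    exact hjmin ⟨Nat.lt_succ_of_lt hjn, h⟩
  have hKi' : (H (⟨j, hjn⟩ : Fin n).succ).comap f = ⊤ := by
    have e : (⟨j, hjn⟩ : Fin n).succ = ⟨Nat.find hex, hin⟩ := by
      apply Fin.ext
      show j + 1 = Nat.find hex
      rw [← hi, hj]
    rw [e]; exact hKi
  set Hj := H (⟨j, hjn⟩ : Fin n).castSucc with hHj
  set Hi := H (⟨j, hjn⟩ : Fin n).succ with hHi
  haveI : Hj.Normal := hnorm _
  haveI hKn : (Hj.comap f).Normal := Subgroup.Normal.comap inferInstance f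
  have hrange : f.range ≤ Hi := by
    rintro _ ⟨a, rfl⟩
    have : a ∈ Hi.comap f := by rw [hKi']; trivial
    exact this
  have hsub : ((Hj.comap f).map A.subtype).subgroupOf A = Hj.comap f :=
    Subgroup.comap_map_eq_self_of_injective A.subtype_injective _
  refine ⟨(Hj.comap f).map A.subtype, ?_, Subgroup.map_subtype_le _, ?_, ?_, ?_⟩
  · intro g hg
    refine ⟨⟨g, h0A hg⟩, ?_, rfl⟩
    show f ⟨g, h0A hg⟩ ∈ Hj
    rw [(hker ⟨g, h0A hg⟩).mpr hg]
    exact Subgroup.one_mem _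
  · intro h
    apply hKj
    rw [← hsub, h]
    exact Subgroup.subgroupOf_self A
  · rw [hsub]; exact hKn
  · have hidx : ((Hj.comap f).map A.subtype).relIndex A = Hj.relIndex f.range := by
      rw [Subgroup.relIndex, hsub, Subgroup.index_comap]
    have hdvd : ((Hj.comap f).map A.subtype).relIndex A ∣ Hj.relIndex Hi := by
      rw [hidx]
      exact olrgrpa_relIndex_dvd Hj f.range Hi hrange
    rcases hchain ⟨j, hjn⟩ with ⟨m, hm⟩ | hcop
    · left
      rw [← hHj, ← hHi] at hm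
      rw [hm] at hdvd
      obtain ⟨m', -, hm'⟩ := (Nat.dvd_prime_pow hp).mp hdvd
      exact ⟨m', hm'⟩
    · right
      rw [← hHj, ← hHi] at hcop
      exact Nat.Coprime.coprime_dvd_left hdvd hcop

end Cfsg.Agent.Helper3.OLR
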