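import Mathlib
import Cfsg.Prelude.Def_Local
import Cfsg.Prelude.Def_Transfer

/-!
# OLR-GRPB (S5202; done by helper15)

## OLR-GRPB `sup_ne_of_normal`
From `N`: if `N.relIndex A = p ^ m`: every `a : A` of order prime to `p` lies in `N` (its image in `A ⧸ N.subgroupOf A` has order
dividing both `p^m = card` and `orderOf a`), so `pResidual p A ≤ N.subgroupOf A` (`Subgroup.closure_le`), so
`Γ₀ ⊔ (pResidual p A).map A.subtype ≤ N < A`: right disjunct. If coprime to `p`: every `a` of order `p^k` lies in `N`: left disjunct.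
Keep the statement, name, namespace exactly (you may add imports).
-/

set_option autoImplicit false

namespace Cfsg.Agent.Helper3.OLR

open Cfsg

/-- an element whose order is prime to the index of a normal subgroup lies in it -/
theorem olrgrpb_mem {A : Type*} [Group A] [Finite A] (N' : Subgroup A) [N'.Normal] (a : A)
    (h : (orderOf a).Coprime N'.index) : a ∈ N' := by
  rw [← QuotientGroup.eq_one_iff]
  have h1 : orderOf (QuotientGroup.mk a : A ⧸ N') ∣ orderOf a := by
    apply orderOf_dvd_of_pow_eq_one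
    rw [← QuotientGroup.mk_pow, pow_orderOf_eq_one]
    rfl
  have h2 : orderOf (QuotientGroup.mk a : A ⧸ N') ∣ N'.index := by
    rw [Subgroup.index_eq_card]
    exact orderOf_dvd_natCard _
  have h3 : orderOf (QuotientGroup.mk a : A ⧸ N') = 1 :=
    Nat.Coprime.eq_one_of_dvd (Nat.Coprime.coprime_dvd_left h1 h) h2
  exact orderOf_eq_one_iff.1 h3

theorem sup_ne_of_normal {M : Type*} [Group M] [Finite M] (p : ℕ) [Fact p.Prime]
    (Γ₀ A N : Subgroup M) (h0N : Γ₀ ≤ N) (hNA : N ≤ A) (hne : N ≠ A) (hn : (N.subgroupOf A).Normal)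
    (hidx : (∃ m : ℕ, N.relIndex A = p ^ m) ∨ (N.relIndex A).Coprime p) :
    Γ₀ ⊔ (Subgroup.closure {α : ↥A | ∃ k : ℕ, orderOf α = p ^ k}).map A.subtype ≠ A ∨
      Γ₀ ⊔ (Cfsg.pResidual p ↥A).map A.subtype ≠ A := by
  have hback : ∀ H : Subgroup ↥A, H ≤ N.subgroupOf A → Γ₀ ⊔ H.map A.subtype ≠ A := by
    intro H hH heq
    apply hne
    refine le_antisymm hNA ?_
    rw [← heq]
    refine sup_le h0N ?_
    rintro x ⟨y, hy, rfl⟩
    exact Subgroup.mem_subgroupOf.1 (hH hy)
  rcases hidx with ⟨m, hm⟩ | hcop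
  · right
    apply hback
    unfold Cfsg.pResidual
    rw [Subgroup.closure_le]
    intro a ha
    apply olrgrpb_mem (N.subgroupOf A) a
    show (orderOf a).Coprime (N.relIndex A)
    rw [hm]
    exact Nat.Coprime.pow_right m ha
  · left
    apply hback
    rw [Subgroup.closure_le]
    rintro a ⟨k, hk⟩
    apply olrgrpb_mem (N.subgroupOf A) a
    show (orderOf a).Coprime (N.relIndex A)
    rw [hk]
    exact Nat.Coprime.pow_left k hcop.symm

end Cfsg.Agent.Helper3.OLR
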