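import Mathlib
import Cfsg.Agent.Lib.OLR.OLRGrpA
import Cfsg.Agent.Lib.OLR.OLRGrpB

/-! # OLR (S5202): group theory assembly (helper3). -/

set_option autoImplicit false

namespace Cfsg.Agent.Helper3.OLR

open Cfsg

theorem exists_proper_step {M : Type*} [Group M] [Finite M] (p : ℕ) [Fact p.Prime]
    (Γ₀ A Γh : Subgroup M) (h0A : Γ₀ ≤ A) (hAh : A ≤ Γh) [hn : (Γ₀.subgroupOf Γh).Normal]
    (hsolv : Cfsg.IsPSolvable p (↥Γh ⧸ Γ₀.subgroupOf Γh)) (hne : A ≠ Γ₀) :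
    Γ₀ ⊔ (Subgroup.closure {α : ↥A | ∃ k : ℕ, orderOf α = p ^ k}).map A.subtype ≠ A ∨
      Γ₀ ⊔ (Cfsg.pResidual p ↥A).map A.subtype ≠ A := by
  obtain ⟨N, h0N, hNA, hne', hn', hidx⟩ := exists_normal_of_pSolvable p Γ₀ A Γh h0A hAh hsolv hne
  exact sup_ne_of_normal p Γ₀ A N h0N hNA hne' hn' hidx

end Cfsg.Agent.Helper3.OLR
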