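import Mathlib
import Cfsg.Agent.Lib.OLR.OLRDefs
import Cfsg.Agent.Lib.Helper16.ResLim2

/-!
# OLR-LIM part (2), design helper18: shared definitions for `sameLim_pPrime` (`Lib/OLR/OLRLimP*`).

`PPowerHyp p Ω` is the STATEMENT of `sameLim_pPower` (proved by helper10 in `OLRLimQ.lean`); the files
`OLRLimP*` take it as a hypothesis so that they do not depend on `OLRLim.lean` / `OLRLimQ.lean`.
-/

set_option autoImplicit false

namespace Cfsg.Agent.Helper3.OLR

open Cfsg Cfsg.FusionSystem Cfsg.Agent.Helper25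

variable {Ω : Type*} [Group Ω]

theorem SameLim.symm {p : ℕ} {S S₁ : Subgroup Ω} {F : FusionSystem S} {F₁ : FusionSystem S₁}
    (h : SameLim p F F₁) : SameLim p F₁ F :=
  fun W => (h W).symm

/-- The statement of `sameLim_pPower`, as a hypothesis. -/
def PPowerHyp (p : ℕ) (Ω : Type*) [Group Ω] : Prop :=
  ∀ {S : Subgroup Ω} [Finite S], IsPGroup p S → ∀ (X : FusionSystem S), X.IsSaturated p →
    ∀ {S₁ : Subgroup Ω} (Y : FusionSystem S₁), Y.IsSaturated p → X.StronglyClosed S₁ →
      Y.HasPPowerIndexIn X p → SameLim p X Y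

/-- The induction hypothesis of `sameLim_pPrime` (strong induction on `Nat.card S`). -/
def PPrimeIH (p : ℕ) (Ω : Type*) [Group Ω] (n : ℕ) : Prop :=
  ∀ (S' : Subgroup Ω) [Finite S'], Nat.card S' < n → IsPGroup p S' →
    ∀ X' Y' : FusionSystem S', X'.IsSaturated p → Y'.IsSaturated p →
      Y'.HasPrimeToPIndexIn X' p → SameLim p X' Y'

end Cfsg.Agent.Helper3.OLR
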