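import Mathlib
import Cfsg.Agent.Lib.OLR.OLRLimP0

/-!
# OLR-LIM part (2), piece OLRLP-T3: the `p'`-residual of `X` is the `p'`-residual of any `Y ≤ X` of index
prime to `p`.
-/

set_option autoImplicit false

namespace Cfsg.Agent.Helper3.OLR

open Cfsg Cfsg.FusionSystem Cfsg.Agent.Helper25

variable {Ω : Type*} [Group Ω]

/-- (T3) `Y` saturated of index prime to `p` in `X`, `Z = O^{p'}(X)`: then `Z = O^{p'}(Y)`.
Paper proof: `Z ≤ Y` by minimality of `Z`. A `p`-element of `Aut_Y(P)` is a `p`-element of `Aut_X(P)`,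
so lies in `Aut_Z(P)`: `Z` has index prime to `p` in `Y`. If `D` is saturated of index prime to `p` in
`Y`, then `D ≤ Y ≤ X` and every `p`-element `γ` of `Aut_X(P)` lies in `Aut_Y(P)` (by `hidx`), so is a
`p`-element of `Aut_Y(P)` and lies in `Aut_D(P)`: `D` has index prime to `p` in `X`, so `Z ≤ D`.
(Use `OpPrime_eq_closure`, `mem_OpPrime_of_orderOf`, `mem_autGroup_iff`; `HasPrimeToPIndexIn`'s second
clause is definitionally `OpPrime F p P ≤ E.autGroup P`.) -/
theorem olrlp_T3 {S : Subgroup Ω} (p : ℕ) (X Y Z : FusionSystem S)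
    (hY : Y.IsSaturated p) (hidx : Y.HasPrimeToPIndexIn X p) (hZ : X.IsPPrimeResidual p Z) :
    Y.IsPPrimeResidual p Z := by
  obtain ⟨hZsat, hZidx, hZmin⟩ := hZ
  have hZY : Z.IsSubsystemOf Y := hZmin Y hY hidx
  refine ⟨hZsat, ⟨hZY, fun P hP => ?_⟩, fun D hD hDY => ?_⟩
  · show OpPrime Y p P ≤ Z.autGroup P
    rw [OpPrime_eq_closure, Subgroup.closure_le]
    rintro γ ⟨hγY, k, hk⟩
    have hγX : γ ∈ X.autGroup P := by
      rw [mem_autGroup_iff X hP]
      exact hidx.1 P ((mem_autGroup_iff Y hP γ).mp hγY)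
    have h1 : OpPrime X p P ≤ Z.autGroup P := hZidx.2 P hP
    exact h1 (mem_OpPrime_of_orderOf X hγX hk)
  · apply hZmin D hD
    refine ⟨fun P φ hφ => hidx.1 P (hDY.1 P hφ), fun P hP => ?_⟩
    show OpPrime X p P ≤ D.autGroup P
    rw [OpPrime_eq_closure, Subgroup.closure_le]
    rintro γ ⟨hγX, k, hk⟩
    have h1 : OpPrime X p P ≤ Y.autGroup P := hidx.2 P hP
    have hγY : γ ∈ Y.autGroup P := h1 (mem_OpPrime_of_orderOf X hγX hk)
    have h2 : OpPrime Y p P ≤ D.autGroup P := hDY.2 P hP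
    exact h2 (mem_OpPrime_of_orderOf Y hγY hk)

end Cfsg.Agent.Helper3.OLR
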