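import Mathlib
import Cfsg.Agent.Lib.OLR.OLRLimP0

/-!
# OLR-LIM part (2), piece OLRLP-B: if `hyp(X) = S` then `X` and `O^{p'}(X)` have the same residual limits.
-/

set_option autoImplicit false

namespace Cfsg.Agent.Helper3.OLR

open Cfsg Cfsg.FusionSystem Cfsg.Agent.Helper25 Cfsg.Agent.Helper16.ResLim

variable {Ω : Type*} [Group Ω]

/-- auxiliary form of the `step` case of Lemma B (`⇒`): the subgroup `hyp(F) = S` is generalised. -/
theorem olrlpb_step_aux {S T₂ : Subgroup Ω} [Finite S] (p : ℕ) [Fact p.Prime] (hS : IsPGroup p S)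
    (F : FusionSystem S) (hF : F.IsSaturated p) (D D' : FusionSystem T₂) (hT : T₂ = S)
    (hDsub : D.IsSubsystemOf F)
    (hDres : ∀ P : Subgroup Ω, P ≤ T₂ →
      (pResidual p ↥(F.autGroup P)).map (F.autGroup P).subtype ≤ D.autGroup P)
    (hD' : D.IsPPrimeResidual p D') (Z : FusionSystem S) (hZ : F.IsPPrimeResidual p Z)
    {V : Subgroup Ω} (W : FusionSystem V) (hlim : W.IsResidualLimitOf D' p) :
    W.IsResidualLimitOf Z p := by
  subst hT
  have hDF : D = F := by
    apply Cfsg.Agent.Helper16.ResLim.fs_ext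
    intro P
    apply Set.Subset.antisymm (hDsub P)
    exact hom_subset_of_pResidual p hS F F hF (fun _ _ h => h) le_rfl D le_rfl hDres P
  subst hDF
  have hDZ : D' = Z := pPrimeResidual_unique p D D' Z hD' hZ
  subst hDZ
  exact hlim

/-- (Lemma B, `⇒`, general form for the induction on the derivation.) Model: `ResLim.lim_of_stable` and
`ResLim.stable_step_aux`. Case `stable`: `F` is its own `p'`-residual, so `Z = F`
(`pPrimeResidual_unique`) and `stable` applies. Case `step F p D D'`: `D, D'` live over `hyp(F) = S`;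
generalise that subgroup and `subst` (as in `stable_step_aux`), then `D = F` (`fs_ext`,
`hom_subset_of_pResidual` with `A := F`, `B := D`), `D' = Z` (`pPrimeResidual_unique`), and the limit of
`D'` is the limit of `Z`. No induction hypothesis is needed. -/
theorem olrlp_lemB_mp {p : ℕ} {V S : Subgroup Ω} {W : FusionSystem V} {F : FusionSystem S}
    (h : W.IsResidualLimitOf F p) :
    Fact p.Prime → Finite S → IsPGroup p S → F.IsSaturated p → F.hyperfocalSubgroup p = S →
      ∀ Z : FusionSystem S, F.IsPPrimeResidual p Z → W.IsResidualLimitOf Z p := by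
  induction h with
  | stable F p h1 h2 =>
    intro _ _ _ _ _ Z hZ
    have hZF : Z = F := pPrimeResidual_unique p F Z F hZ h2
    subst hZF
    exact IsResidualLimitOf.stable Z p h1 h2
  | step F p D D' hD hD' hlim _ =>
    intro hp hfin hS hsat hhyp Z hZ
    exact olrlpb_step_aux p hS F hsat D D' hhyp hD.2.1 hD.2.2.2 hD' Z hZ _ hlim

/-- (Lemma B, `⇐`) `ResLim.step_of X X Z` (with `T₂ := S`, `hT := hhyp.symm`); `X` has `p`-power index in
itself. -/
theorem olrlp_lemB_mpr {S : Subgroup Ω} (p : ℕ) (X Z : FusionSystem S)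
    (hX : X.IsSaturated p) (hhyp : X.hyperfocalSubgroup p = S) (hZ : X.IsPPrimeResidual p Z)
    {V : Subgroup Ω} (W : FusionSystem V) (h : W.IsResidualLimitOf Z p) :
    W.IsResidualLimitOf X p := by
  have hidx : X.HasPPowerIndexIn X p :=
    ⟨fun _ _ h => h, hyperfocalSubgroup_le X p, fun P _ => Subgroup.map_subtype_le _⟩
  exact step_of X X Z hhyp.symm hX hidx hZ W h

/-- (Lemma B) -/
theorem olrlp_lemB {S : Subgroup Ω} [Finite S] (p : ℕ) [Fact p.Prime] (hS : IsPGroup p S)
    (X Z : FusionSystem S) (hX : X.IsSaturated p) (hhyp : X.hyperfocalSubgroup p = S)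
    (hZ : X.IsPPrimeResidual p Z) : SameLim p X Z :=
  fun W => ⟨fun h => olrlp_lemB_mp h inferInstance inferInstance hS hX hhyp Z hZ,
    fun h => olrlp_lemB_mpr p X Z hX hhyp hZ W h⟩

end Cfsg.Agent.Helper3.OLR
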