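import Mathlib
import Cfsg.Agent.Lib.OLR.OLRLimP0
import Cfsg.Agent.Lib.Helper25.FusionPrimeIndex3
import Cfsg.Agent.S5120

/-!
# OLR-LIM part (2), pieces OLRLP-T2LE / OLRLP-T2PELT: the key transfer of "index prime to `p`" to the
`p`-power-index subsystems over a normal subgroup `H ≥ hyp(X)`.
-/

set_option autoImplicit false

namespace Cfsg.Agent.Helper3.OLR

open Cfsg Cfsg.FusionSystem Cfsg.Agent.Helper25 Cfsg.Agent.Helper16.ResLim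

variable {Ω : Type*} [Group Ω]

/-- (T2a) `Y_H ≤ X_H`: `ResLim.hom_subset_of_pResidual` with `F := X`, `A := Y_H`, `B := X_H`. -/
theorem olrlp_T2_le {S : Subgroup Ω} [Finite S] (p : ℕ) [Fact p.Prime] (hS : IsPGroup p S)
    (X Y : FusionSystem S) (hYX : Y.IsSubsystemOf X) {H : Subgroup Ω} (hHS : H ≤ S)
    (XH YH : FusionSystem H) (hXHi : XH.HasPPowerIndexIn X p)
    (hYHs : YH.IsSaturated p) (hYHi : YH.HasPPowerIndexIn Y p) : YH.IsSubsystemOf XH := by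
  have hfin : Finite H :=
    Finite.of_injective (Subgroup.inclusion hHS) (Subgroup.inclusion_injective hHS)
  have hHp : IsPGroup p H := hS.to_le hHS
  have hYHX : YH.IsSubsystemOf X := fun P φ hφ => hYX P (hYHi.1 P hφ)
  exact hom_subset_of_pResidual p hHp X YH hYHs hYHX hHS XH le_rfl hXHi.2.2

/-- (T2b) KEY. A `p`-element `γ` of `Aut_{X_H}(P)`, `P ≤ H`, lies in `Aut_{Y_H}(P)`.
Model: `Helper25.mem_autGroup_of_orderOf` (FusionPrimeIndex3.lean), whose first half is run in `X_H`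
(over `H`): get `φ ∈ X_H.Hom P` onto a fully `X_H`-automized subgroup, `δ ∈ Aut_{X_H}(φ P)` and `g ∈ H`
normalising with `δ (φ γ φ⁻¹) δ⁻¹ = c_g`, `ψ := δ ∘ φ ∈ X_H.Hom P ⊆ X.Hom P`. Frattini for `Y ≤ X` of index
prime to `p` (`exists_aut_comp_of_primeIndex p hS X hX Y (fun P hPc => hidx.2 P hPc.1) hψ`): `ψ = α' ∘ ψ₀`,
`α' ∈ Aut_X(S)`, `ψ₀ ∈ Y.Hom P`. `g' := α'⁻¹ g ∈ H` and `ψ₀ P ≤ H` because `H` is strongly closed in `X`
(`PPowNormal.stronglyClosed_of_hyp_le p hS X hX hHS hHn hH`). As in the model, `ψ₀ (γ x) = g' ψ₀ x g'⁻¹`.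
`Y_H` is normal in `Y` (`S5120.result p hS Y hY H hHS hHn (hyp Y ≤ hyp X ≤ H) YH hYHs hYHi`), so its
Frattini clause (`.1.2.2.2.2`) gives `ψ₀ = α'' ∘ ψ₁` with `α'' ∈ Aut_Y(H)`, `ψ₁ ∈ Y_H.Hom P`; with
`g'' := α''⁻¹ g' ∈ H` get `ψ₁ (γ x) = g'' ψ₁ x g''⁻¹`; then `γ = ψ₁⁻¹ ∘ c_{g''} ∘ ψ₁ ∈ Aut_{Y_H}(P)` exactly
as in the "assemble" part of the model. -/
theorem olrlp_T2_pelt {S : Subgroup Ω} [Finite S] (p : ℕ) [Fact p.Prime] (hS : IsPGroup p S)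
    (X Y : FusionSystem S) (hX : X.IsSaturated p) (hY : Y.IsSaturated p)
    (hidx : Y.HasPrimeToPIndexIn X p) {H : Subgroup Ω} (hHS : H ≤ S)
    (hHn : (H.subgroupOf S).Normal) (hH : X.hyperfocalSubgroup p ≤ H)
    (XH YH : FusionSystem H) (hXHs : XH.IsSaturated p) (hXHi : XH.HasPPowerIndexIn X p)
    (hYHs : YH.IsSaturated p) (hYHi : YH.HasPPowerIndexIn Y p)
    {P : Subgroup Ω} (hP : P ≤ H) {γ : MulAut P} (hγ : γ ∈ XH.autGroup P) {k : ℕ}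
    (hk : orderOf γ = p ^ k) : γ ∈ YH.autGroup P := by
  have : Finite H := finite_of_le_finite hHS
  have hsc : X.StronglyClosed H :=
    Cfsg.Agent.Helper16.PPowNormal.stronglyClosed_of_hyp_le p hS X hX hHS hHn hH
  have hhypY : Y.hyperfocalSubgroup p ≤ H :=
    (hyperfocalSubgroup_mono X Y le_rfl hidx.1 p).trans hH
  have hYHn : YH.IsNormalIn Y p :=
    Cfsg.Agent.S5120.result p hS Y hY H hHS hHn hhypY YH hYHs hYHi
  -- first half, run in `XH`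
  obtain ⟨Q, ⟨φ, hφ, rfl⟩, hfa, -⟩ := hXHs P hP
  have hRH : φ.range ≤ H := range_le XH hφ
  have : Finite φ.range := finite_of_le_finite hRH
  have hγ' : MulAut.congr (homEquiv XH hφ) γ ∈ XH.autGroup φ.range := congr_mem_autGroup XH hφ hγ
  have hord : orderOf (MulAut.congr (homEquiv XH hφ) γ) = p ^ k := by
    rw [← hk]; exact MulEquiv.orderOf_eq (MulAut.congr (homEquiv XH hφ)) γ
  have hsyl := (isFullyAutomized_iff XH p hRH).mp hfa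
  have hpz : IsPGroup p (Subgroup.zpowers (MulAut.congr (homEquiv XH hφ) γ)) := by
    apply IsPGroup.of_card (n := k)
    rw [Nat.card_zpowers, hord]
  obtain ⟨δ, hδ, hle⟩ := hsyl.exists_conj_le ((Subgroup.zpowers_le).mpr hγ') hpz
  have hmem : δ * MulAut.congr (homEquiv XH hφ) γ * δ⁻¹ ∈
      Cfsg.conjBy (Subgroup.zpowers (MulAut.congr (homEquiv XH hφ) γ)) δ := by
    rw [mem_conjBy]
    have : δ⁻¹ * (δ * MulAut.congr (homEquiv XH hφ) γ * δ⁻¹) * δ =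
        MulAut.congr (homEquiv XH hφ) γ := by
      group
    rw [this]
    exact Subgroup.mem_zpowers _
  obtain ⟨g, hg, hgv⟩ := (mem_autInducedBy_iff _).mp (hle hmem)
  have hδF := (mem_autGroup_iff XH hRH δ).mp hδ
  obtain ⟨ψ, hψdef⟩ : ∃ ψ : P →* Ω, ψ = (φ.range.subtype.comp δ.toMonoidHom).comp
      (φ.codRestrict φ.range fun x => ⟨x, rfl⟩) := ⟨_, rfl⟩
  have hψH : ψ ∈ XH.Hom P := by rw [hψdef]; exact XH.comp_mem hφ hδF _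
  have hψ : ψ ∈ X.Hom P := hXHi.1 P hψH
  have hψv : ∀ x : P, ψ x = ((δ (homEquiv XH hφ x) : φ.range) : Ω) := fun x => by
    rw [hψdef]; rfl
  obtain ⟨α', hα', ψ₀, hψ₀, hv⟩ :=
    exists_aut_comp_of_primeIndex p hS X hX Y (fun P hPc => hidx.2 P hPc.1) hψ
  have hψ₀Y : ψ₀ ∈ Y.Hom P := invCore_le X Y hψ₀
  have hψ₀S := (Y.le_of_mem hψ₀Y).2
  have hgS : g ∈ S := hHS hg
  obtain ⟨g', hg'⟩ : ∃ g' : S, g' = α'⁻¹ ⟨g, hgS⟩ := ⟨_, rfl⟩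
  have hαg' : α' g' = ⟨g, hgS⟩ := by rw [hg']; simp
  have key : ∀ x : P, ψ₀ (γ x) = (g' : Ω) * ψ₀ x * (g' : Ω)⁻¹ := by
    intro x
    have h1 : ((α' ⟨ψ₀ (γ x), hψ₀S _⟩ : S) : Ω) = g * ψ x * g⁻¹ := by
      rw [← hv, hψv, hψv]
      have h2 := hgv (δ (homEquiv XH hφ x))
      rw [← h2]
      show _ = ((δ ((MulAut.congr (homEquiv XH hφ) γ) (δ⁻¹ (δ (homEquiv XH hφ x)))) : φ.range) : Ω)
      rw [MulAut.inv_apply_self]
      show _ = ((δ (homEquiv XH hφ (γ ((homEquiv XH hφ).symm (homEquiv XH hφ x)))) : φ.range) : Ω)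
      rw [MulEquiv.symm_apply_apply]
    have h3 : α' ⟨ψ₀ (γ x), hψ₀S _⟩ = α' (g' * ⟨ψ₀ x, hψ₀S x⟩ * g'⁻¹) := by
      apply Subtype.ext
      rw [h1, map_mul, map_mul, map_inv, hαg', hv x]
      rfl
    have h4 := α'.injective h3
    exact congrArg Subtype.val h4
  -- `H` is strongly closed in `X`: `α'⁻¹` preserves `H`
  have hαinv : ∀ y : S, (y : Ω) ∈ H → ((α'⁻¹ y : S) : Ω) ∈ H := by
    intro y hy
    have h1 : α'⁻¹ ∈ X.autGroup S := Subgroup.inv_mem _ hα'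
    have h2 := (mem_autGroup_iff X le_rfl _).mp h1
    have h3 := restrict_mem X hHS h2
    exact hsc.2 H le_rfl _ h3 ⟨y, hy⟩
  have hg'H : (g' : Ω) ∈ H := by rw [hg']; exact hαinv ⟨g, hgS⟩ hg
  -- second Frattini, for `YH` normal in `Y`
  obtain ⟨α'', hα'', ψ₁, hψ₁, hv₁⟩ := hYHn.1.2.2.2.2.2 P hP ψ₀ hψ₀Y
  have hψ₁H := (YH.le_of_mem hψ₁).2
  obtain ⟨g'', hg''⟩ : ∃ g'' : H, g'' = α''⁻¹ ⟨g', hg'H⟩ := ⟨_, rfl⟩
  have hαg'' : α'' g'' = ⟨(g' : Ω), hg'H⟩ := by rw [hg'']; simp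
  have key2 : ∀ x : P, ψ₁ (γ x) = (g'' : Ω) * ψ₁ x * (g'' : Ω)⁻¹ := by
    intro x
    have h1 : ((α'' ⟨ψ₁ (γ x), hψ₁H _⟩ : H) : Ω) = g' * ψ₀ x * (g' : Ω)⁻¹ := by
      rw [← hv₁, key]
    have h3 : α'' ⟨ψ₁ (γ x), hψ₁H _⟩ = α'' (g'' * ⟨ψ₁ x, hψ₁H x⟩ * g''⁻¹) := by
      apply Subtype.ext
      rw [h1, map_mul, map_mul, map_inv, hαg'', hv₁ x (hψ₁H x)]
      rfl
    have h4 := α''.injective h3
    exact congrArg Subtype.val h4
  -- assemble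
  obtain ⟨θ, hθ, hθv⟩ := YH.inv_mem hψ₁
  have hc : conjHom ψ₁.range (g'' : Ω) ∈ YH.Hom ψ₁.range := YH.conj_mem (range_le YH hψ₁) g''.2
  have hχ₁ : (conjHom ψ₁.range (g'' : Ω)).comp (ψ₁.codRestrict ψ₁.range fun x => ⟨x, rfl⟩)
      ∈ YH.Hom P := YH.comp_mem hψ₁ hc _
  have hχ₁r : ∀ x : P, ((conjHom ψ₁.range (g'' : Ω)).comp
      (ψ₁.codRestrict ψ₁.range fun x => ⟨x, rfl⟩)) x ∈ ψ₁.range := by
    intro x
    show (g'' : Ω) * ψ₁ x * (g'' : Ω)⁻¹ ∈ ψ₁.range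
    rw [← key2]; exact ⟨_, rfl⟩
  rw [mem_autGroup_iff YH hP]
  refine comp_mem' YH hχ₁ hθ hχ₁r (fun x => ?_)
  have e := hom_congr_val θ (hχ₁r x) (⟨γ x, rfl⟩ : ψ₁ (γ x) ∈ ψ₁.range) (key2 x).symm
  rw [e, hθv]
  rfl


/-- (T2) -/
theorem olrlp_T2 {S : Subgroup Ω} [Finite S] (p : ℕ) [Fact p.Prime] (hS : IsPGroup p S)
    (X Y : FusionSystem S) (hX : X.IsSaturated p) (hY : Y.IsSaturated p)
    (hidx : Y.HasPrimeToPIndexIn X p) {H : Subgroup Ω} (hHS : H ≤ S)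
    (hHn : (H.subgroupOf S).Normal) (hH : X.hyperfocalSubgroup p ≤ H)
    (XH YH : FusionSystem H) (hXHs : XH.IsSaturated p) (hXHi : XH.HasPPowerIndexIn X p)
    (hYHs : YH.IsSaturated p) (hYHi : YH.HasPPowerIndexIn Y p) : YH.HasPrimeToPIndexIn XH p := by
  refine ⟨olrlp_T2_le p hS X Y hidx.1 hHS XH YH hXHi hYHs hYHi, fun P hP => ?_⟩
  show OpPrime XH p P ≤ YH.autGroup P
  rw [OpPrime_eq_closure]
  refine (Subgroup.closure_le _).mpr ?_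
  rintro γ ⟨hγA, k, hk⟩
  exact olrlp_T2_pelt p hS X Y hX hY hidx hHS hHn hH XH YH hXHs hXHi hYHs hYHi hP hγA hk

end Cfsg.Agent.Helper3.OLR
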