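import Mathlib
import Cfsg.Agent.Lib.OLR.OLRLimP3
import Cfsg.Agent.Lib.Helper3.PPowMain

/-!
# OLR-LIM part (2), piece OLRLP-A: the case `hyp(X) ≠ S`.
-/

set_option autoImplicit false

namespace Cfsg.Agent.Helper3.OLR

open Cfsg Cfsg.FusionSystem Cfsg.Agent.Helper25 Cfsg.Agent.Helper16.ResLim

variable {Ω : Type*} [Group Ω]

/-- (Lemma A) `H := hyp(X) ≠ S`. `H ≤ S` (`hyperfocalSubgroup_le`), `H` normal in `S`
(`conj_mem_hyperfocalSubgroup`), `hyp(Y) ≤ H` (`hyperfocalSubgroup_mono X Y le_rfl hidx.1 p`), `H` strongly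
closed in `X` and in `Y` (`PPowNormal.stronglyClosed_of_hyp_le`). `X_H`, `Y_H` from
`PPow.exists_unique_pPowerIndex`. `X ~ X_H` and `Y ~ Y_H` by `hPP`; `X_H ~ Y_H` by `olrlp_T2` and `IH`
(`Nat.card H < Nat.card S` since `H < S`); conclude with `SameLim.trans` / `SameLim.symm`. -/
theorem olrlp_lemA {S : Subgroup Ω} [Finite S] (p : ℕ) [Fact p.Prime] (hPP : PPowerHyp p Ω)
    (hS : IsPGroup p S) (X Y : FusionSystem S) (hX : X.IsSaturated p) (hY : Y.IsSaturated p)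
    (hidx : Y.HasPrimeToPIndexIn X p) (hne : X.hyperfocalSubgroup p ≠ S)
    (IH : PPrimeIH p Ω (Nat.card S)) : SameLim p X Y := by
  have hHS : X.hyperfocalSubgroup p ≤ S := hyperfocalSubgroup_le X p
  have hHn : ((X.hyperfocalSubgroup p).subgroupOf S).Normal := by
    refine ⟨fun n hn g => ?_⟩
    rw [Subgroup.mem_subgroupOf] at hn ⊢
    simpa using conj_mem_hyperfocalSubgroup X p g.2 hn
  have hYH : Y.hyperfocalSubgroup p ≤ X.hyperfocalSubgroup p :=
    hyperfocalSubgroup_mono X Y le_rfl hidx.1 p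
  have hscX : X.StronglyClosed (X.hyperfocalSubgroup p) :=
    Cfsg.Agent.Helper16.PPowNormal.stronglyClosed_of_hyp_le p hS X hX hHS hHn le_rfl
  have hscY : Y.StronglyClosed (X.hyperfocalSubgroup p) :=
    Cfsg.Agent.Helper16.PPowNormal.stronglyClosed_of_hyp_le p hS Y hY hHS hHn hYH
  obtain ⟨XH, ⟨hXHs, hXHi⟩, -⟩ :=
    Cfsg.Agent.Helper3.PPow.exists_unique_pPowerIndex p hS X hX (X.hyperfocalSubgroup p) hHS le_rfl
  obtain ⟨YH, ⟨hYHs, hYHi⟩, -⟩ :=
    Cfsg.Agent.Helper3.PPow.exists_unique_pPowerIndex p hS Y hY (X.hyperfocalSubgroup p) hHS hYH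
  have h1 : SameLim p X XH := hPP hS X hX XH hXHs hscX hXHi
  have h2 : SameLim p Y YH := hPP hS Y hY YH hYHs hscY hYHi
  have hT2 : YH.HasPrimeToPIndexIn XH p :=
    olrlp_T2 p hS X Y hX hY hidx hHS hHn le_rfl XH YH hXHs hXHi hYHs hYHi
  have hfin : Finite ↥(X.hyperfocalSubgroup p) := finite_of_le_finite hHS
  have hHp : IsPGroup p ↥(X.hyperfocalSubgroup p) := hS.to_le hHS
  have hcard : Nat.card ↥(X.hyperfocalSubgroup p) < Nat.card ↥S := by
    by_contra h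
    rw [not_lt] at h
    exact hne (Subgroup.eq_of_le_of_card_ge hHS h)
  have h3 : SameLim p XH YH := IH (X.hyperfocalSubgroup p) hcard hHp XH YH hXHs hYHs hT2
  intro V W
  exact ((h1 W).trans (h3 W)).trans (h2 W).symm

end Cfsg.Agent.Helper3.OLR
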