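import Mathlib
import Cfsg.Agent.Lib.OLR.OLRLimP1
import Cfsg.Agent.Lib.OLR.OLRLimP2
import Cfsg.Agent.Lib.OLR.OLRLimP4
import Cfsg.Agent.Lib.Helper3.PPrimeRes

/-!
# OLR-LIM part (2): assembly of `sameLim_pPrime` (modulo the statement `PPowerHyp` of `sameLim_pPower`).
-/

set_option autoImplicit false

namespace Cfsg.Agent.Helper3.OLR

open Cfsg Cfsg.FusionSystem Cfsg.Agent.Helper25 Cfsg.Agent.Helper16.ResLim

variable {Ω : Type*} [Group Ω]

theorem olrlp_main (p : ℕ) [Fact p.Prime] (hPP : PPowerHyp p Ω) :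
    ∀ (n : ℕ) (S : Subgroup Ω) [Finite S], Nat.card S = n → IsPGroup p S →
      ∀ X Y : FusionSystem S, X.IsSaturated p → Y.IsSaturated p →
        Y.HasPrimeToPIndexIn X p → SameLim p X Y := by
  intro n
  induction n using Nat.strong_induction_on with
  | _ n ih =>
    intro S _ hn hS X Y hX hY hidx
    have IH : PPrimeIH p Ω (Nat.card S) := by
      intro S' _ hlt hS' X' Y' h1 h2 h3
      exact ih (Nat.card S') (hn ▸ hlt) S' rfl hS' X' Y' h1 h2 h3
    rcases eq_or_ne (X.hyperfocalSubgroup p) S with hne | hne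
    · have hZ := Cfsg.Agent.Helper3.PPrimeRes.minSys_isPPrimeResidual p hS X hX
      have h1 : SameLim p X (Cfsg.Agent.Helper3.PPrimeRes.minSys X p) := by
        intro V W
        exact olrlp_lemB p hS X _ hX hne hZ W
      have hZY : Y.IsPPrimeResidual p (Cfsg.Agent.Helper3.PPrimeRes.minSys X p) :=
        olrlp_T3 p X Y _ hY hidx hZ
      rcases eq_or_ne (Y.hyperfocalSubgroup p) S with hY' | hY'
      · intro V W
        exact (h1 W).trans (olrlp_lemB p hS Y _ hY hY' hZY W).symm
      · intro V W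
        exact (h1 W).trans (olrlp_lemA p hPP hS Y _ hY hZ.1 hZY.2.1 hY' IH W).symm
    · intro V W
      exact olrlp_lemA p hPP hS X Y hX hY hidx hne IH W

/-- `sameLim_pPrime`, given the statement of `sameLim_pPower`. -/
theorem sameLim_pPrime_of {S : Subgroup Ω} [Finite S] (p : ℕ) [Fact p.Prime]
    (hPP : PPowerHyp p Ω) (hS : IsPGroup p S) (X Y : FusionSystem S) (hX : X.IsSaturated p)
    (hY : Y.IsSaturated p) (hidx : Y.HasPrimeToPIndexIn X p) : SameLim p X Y :=
  by
  intro V W
  exact olrlp_main p hPP (Nat.card S) S rfl hS X Y hX hY hidx W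

end Cfsg.Agent.Helper3.OLR
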