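import Mathlib
import Cfsg.Agent.Lib.OLR.OLRDefs
import Cfsg.Agent.Lib.Helper16.ResLim2

/-!
# OLR-LIM parts (0)+(1) (S5202, helper10): `limit_le_q` and `sameLim_pPower_q`.

A residual limit is a subsystem; a saturated subsystem of `p`-power index over a strongly closed
subgroup has the same residual limits.
-/

set_option autoImplicit false

namespace Cfsg.Agent.Helper3.OLR

open Cfsg Cfsg.FusionSystem Cfsg.Agent.Helper25 Cfsg.Agent.Helper16.ResLim

universe u

variable {Ω : Type u} [Group Ω]

/-- A residual limit of `X` is a subsystem of `X`. -/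
theorem limit_le_q {p : ℕ} {S V : Subgroup Ω} {X : FusionSystem S} {W : FusionSystem V}
    (h : W.IsResidualLimitOf X p) : W.IsSubsystemOf X := by
  induction h with
  | stable F p h1 h2 => exact fun _ _ h => h
  | step F p D D' hD hD' hlim ih =>
    intro P φ hφ
    exact hD.2.1 P (hD'.2.1.1 P (ih P hφ))

/-- monotonicity of `O^p(Aut(P))` along a subsystem -/
theorem olrlimq_pRes_mono {S S₁ : Subgroup Ω} (p : ℕ) (X : FusionSystem S) (Y : FusionSystem S₁)
    (hYX : Y.IsSubsystemOf X) {P : Subgroup Ω} (hPS₁ : P ≤ S₁) (hPS : P ≤ S) :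
    (pResidual p ↥(Y.autGroup P)).map (Y.autGroup P).subtype ≤
      (pResidual p ↥(X.autGroup P)).map (X.autGroup P).subtype := by
  rintro _ ⟨ν, hν, rfl⟩
  have hle : ∀ a ∈ Y.autGroup P, (MonoidHom.id (MulAut P)) a ∈ X.autGroup P := by
    intro a ha
    rw [mem_autGroup_iff X hPS]
    exact hYX P ((mem_autGroup_iff Y hPS₁ a).mp ha)
  have h1 := pResidual_transport p (MonoidHom.id (MulAut P)) (fun _ _ h => h) hle hν
  exact ⟨_, h1, rfl⟩

/-- `p`-power index step: `Y` saturated of `p`-power index in `X`, over a subgroup `S₁` strongly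
closed in `X`: same residual limits. -/
theorem sameLim_pPower_q {S : Subgroup Ω} [Finite S] (p : ℕ) [Fact p.Prime] (hS : IsPGroup p S)
    (X : FusionSystem S) (hX : X.IsSaturated p) {S₁ : Subgroup Ω} (Y : FusionSystem S₁)
    (hY : Y.IsSaturated p) (hS₁ : X.StronglyClosed S₁) (hidx : Y.HasPPowerIndexIn X p) :
    SameLim p X Y := by
  intro V W
  have hhyp : Y.hyperfocalSubgroup p = X.hyperfocalSubgroup p :=
    hyp_eq_of_pPowerIndex p hS X Y hS₁ hidx
  have hYsub : Y.IsSubsystemOf X := hidx.1
  have hle : X.hyperfocalSubgroup p ≤ S := hyperfocalSubgroup_le X p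
  constructor
  · intro hW
    cases hW with
    | stable _ _ h1 h2 =>
      have hSS : S₁ = S := le_antisymm hS₁.1 (by rw [← h1]; exact hidx.2.1)
      subst hSS
      have hYX : Y = X := by
        apply Cfsg.Agent.Helper16.ResLim.fs_ext
        intro P
        apply Set.Subset.antisymm (hYsub P)
        exact hom_subset_of_pResidual p hS X X hX (fun _ _ h => h) le_rfl Y le_rfl hidx.2.2 P
      subst hYX
      exact IsResidualLimitOf.stable Y p h1 h2
    | step _ _ D D' hD hD' hlim =>
      have : Finite ↥(X.hyperfocalSubgroup p) := finite_of_le_finite hle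
      have hHp : IsPGroup p ↥(X.hyperfocalSubgroup p) := hS.to_le hle
      have hDY : D.IsSubsystemOf Y :=
        hom_subset_of_pResidual p hHp X D hD.1 hD.2.1 hle Y hidx.2.1
          (fun P hP => hidx.2.2 P (hP.trans hidx.2.1))
      have hDidx : D.HasPPowerIndexIn Y p := by
        refine ⟨hDY, hhyp.le, ?_⟩
        intro P hP
        exact (olrlimq_pRes_mono p X Y hYsub (hP.trans hidx.2.1) (hP.trans hle)).trans
          (hD.2.2.2 P hP)
      exact step_of Y D D' hhyp.symm hD.1 hDidx hD' W hlim
  · intro hW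
    cases hW with
    | stable _ _ h1 h2 =>
      exact step_of X Y Y (h1.symm.trans hhyp) hY hidx h2 Y
        (IsResidualLimitOf.stable Y p h1 h2)
    | step _ _ D D' hD hD' hlim =>
      have hYle : Y.hyperfocalSubgroup p ≤ S₁ := hyperfocalSubgroup_le Y p
      have hDidx : D.HasPPowerIndexIn X p := by
        refine ⟨fun P φ hφ => hYsub P (hD.2.1 P hφ), hhyp.ge, ?_⟩
        intro P hP
        have hPT : P ≤ S₁ := hP.trans hYle
        have h1 := hidx.2.2 P hPT
        have h2 := pResidual_map_le p (X.autGroup P) (Y.autGroup P) h1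
        exact h2.trans (hD.2.2.2 P hP)
      exact step_of X D D' hhyp hD.1 hDidx hD' W hlim

end Cfsg.Agent.Helper3.OLR
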