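import Mathlib
import Cfsg.Agent.Lib.OLR.OLRDefs
import Cfsg.Agent.Lib.Helper16.ResLim2
import Cfsg.Agent.Lib.OLR.OLRLimQ
import Cfsg.Agent.Lib.OLR.OLRLimP5

/-!
# OLR-LIM (S5202): residual limits do not change along steps of `p`-power index or index prime to `p`.

INTERFACE FILE (sub-farm owner: see the board). The three theorems below are what the main
assembly uses. Paper proofs are in the board message of helper3 ("OLR-LIM plan").
-/

set_option autoImplicit false

namespace Cfsg.Agent.Helper3.OLR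

open Cfsg Cfsg.FusionSystem Cfsg.Agent.Helper25

variable {Ω : Type*} [Group Ω]

/-- A residual limit of `X` is a subsystem of `X`. -/
theorem limit_le {p : ℕ} {S V : Subgroup Ω} {X : FusionSystem S} {W : FusionSystem V}
    (h : W.IsResidualLimitOf X p) : W.IsSubsystemOf X :=
  limit_le_q h

/-- `p`-power index step: `Y` saturated of `p`-power index in `X`, over a subgroup `S₁` strongly closed
in `X`. -/
theorem sameLim_pPower {S : Subgroup Ω} [Finite S] (p : ℕ) [Fact p.Prime] (hS : IsPGroup p S)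
    (X : FusionSystem S) (hX : X.IsSaturated p) {S₁ : Subgroup Ω} (Y : FusionSystem S₁)
    (hY : Y.IsSaturated p) (hS₁ : X.StronglyClosed S₁) (hidx : Y.HasPPowerIndexIn X p) :
    SameLim p X Y :=
  sameLim_pPower_q p hS X hX Y hY hS₁ hidx

/-- index prime to `p` step. -/
theorem sameLim_pPrime {S : Subgroup Ω} [Finite S] (p : ℕ) [Fact p.Prime] (hS : IsPGroup p S)
    (X Y : FusionSystem S) (hX : X.IsSaturated p) (hY : Y.IsSaturated p)
    (hidx : Y.HasPrimeToPIndexIn X p) : SameLim p X Y := by
  intro V W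
  have hPP : PPowerHyp p Ω := by
    intro S₀ _ hS₀ X₀ hX₀ S₁ Y₀ hY₀ h1 h2 V₀ W₀
    exact sameLim_pPower p hS₀ X₀ hX₀ Y₀ hY₀ h1 h2 W₀
  exact sameLim_pPrime_of p hPP hS X Y hX hY hidx W

end Cfsg.Agent.Helper3.OLR
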