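import Mathlib
import Cfsg.Agent.Lib.OLR.OLRDefs

/-!
# OLR-P (S5202, p-step): the subgroup `S₁ = {s ∈ S | c_s|_T ∈ K}` (definition, helper3).
-/

set_option autoImplicit false

namespace Cfsg.Agent.Helper3.OLR

open Cfsg Cfsg.FusionSystem Cfsg.Agent.Helper25

variable {Ω : Type*} [Group Ω]

/-- `{s ∈ S | conjugation by s on T is (the restriction of) an element of K}`. -/
def pS1 {T : Subgroup Ω} (K : Subgroup (MulAut T)) (S : Subgroup Ω) : Subgroup Ω where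
  carrier := {s | s ∈ S ∧ ∃ κ ∈ K, ∀ t : T, ((κ t : T) : Ω) = s * (t : Ω) * s⁻¹}
  one_mem' := ⟨S.one_mem, 1, K.one_mem, fun t => by simp⟩
  mul_mem' := by
    rintro a b ⟨ha, κ₁, hκ₁, h₁⟩ ⟨hb, κ₂, hκ₂, h₂⟩
    refine ⟨S.mul_mem ha hb, κ₁ * κ₂, K.mul_mem hκ₁ hκ₂, fun t => ?_⟩
    show ((κ₁ (κ₂ t) : T) : Ω) = _
    rw [h₁, h₂]
    group
  inv_mem' := by
    rintro a ⟨ha, κ, hκ, h⟩
    refine ⟨S.inv_mem ha, κ⁻¹, K.inv_mem hκ, fun t => ?_⟩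
    have h1 := h (κ⁻¹ t)
    have h2 : κ (κ⁻¹ t) = t := by simp
    rw [h2] at h1
    rw [h1]
    group

theorem mem_pS1 {T : Subgroup Ω} {K : Subgroup (MulAut T)} {S : Subgroup Ω} {s : Ω} :
    s ∈ pS1 K S ↔ s ∈ S ∧ ∃ κ ∈ K, ∀ t : T, ((κ t : T) : Ω) = s * (t : Ω) * s⁻¹ := Iff.rfl

theorem pS1_le {T : Subgroup Ω} (K : Subgroup (MulAut T)) (S : Subgroup Ω) : pS1 K S ≤ S :=
  fun _ h => h.1

end Cfsg.Agent.Helper3.OLR
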