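import Mathlib
import Cfsg.Agent.Lib.OLR.OLRDefs
import Cfsg.Agent.Lib.OLR.OLRPS1

/-!
# OLR-P (S5202, p-step): `Kp p F E = Aut_E(T) ⊔ O^p(Aut_F(T))` (definition, helper3).
-/

set_option autoImplicit false

namespace Cfsg.Agent.Helper3.OLR

open Cfsg Cfsg.FusionSystem Cfsg.Agent.Helper25 Cfsg.Agent.Helper26

variable {Ω : Type*} [Group Ω]

/-- `K = Aut_E(T) · O^p(Aut_F(T))` inside `Aut(T)`. -/
abbrev Kp (p : ℕ) {S T : Subgroup Ω} (F : FusionSystem S) (E : FusionSystem T) : Subgroup (MulAut T) :=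
  E.autGroup T ⊔ autOp p F T

theorem Kp_le_autGroup {p : ℕ} {S T : Subgroup Ω} (F : FusionSystem S) (E : FusionSystem T)
    (h : E.autGroup T ≤ F.autGroup T) : Kp p F E ≤ F.autGroup T :=
  sup_le h (Subgroup.map_subtype_le _)

end Cfsg.Agent.Helper3.OLR
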