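import Mathlib
import Cfsg.Agent.Lib.OLR.OLRDefs
import Cfsg.Agent.Lib.OLR.OLRPS1
import Cfsg.Agent.Lib.OLR.OLRPKp
import Cfsg.Agent.Lib.Helper25.FusionInvariant
import Cfsg.Agent.Lib.Helper16.PPowNormal2
import Cfsg.Agent.Lib.Helper22.PResidual

/-!
# OLR-PKNB (S5202, p-step): an `a ∈ Aut_Fh(T)` normalizing `Aut_F(T)` normalizes `Kp`.

RECIPE. `Kp = Aut_E(T) ⊔ autOp p F T`; conjugation `c := MulAut.conj a : MulAut T →* MulAut T` is a hom, so it suffices
(`Subgroup.map_sup`/`sup_le` after writing the goal as `(Kp).map c ≤ Kp`, or elementwise via `Subgroup.sup_induction`/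
`Subgroup.mem_sup` + closure) to treat the two generators:
(1) `κ ∈ Aut_E(T)`: `E` is invariant in `Fh` (`hE.1.2.2`), conj clause (`AutInv`, cf. `Helper25.StrongInv.autInv`/the third component of
`IsInvariantIn`) with `P := T`, `φ := κ` and `α := a` gives `a κ a⁻¹ ∈ Aut_E(T)` (as in OLR-PKNA).
(2) `κ = (ν : MulAut T)` with `ν ∈ pResidual p (F.autGroup T)`: the map `cF : F.autGroup T →* F.autGroup T`, `γ ↦ ⟨a γ a⁻¹, hnorm γ γ.2⟩`
is a hom; `Helper16.PPowNormal.map_pResidual_le_hom p cF` gives `cF ν ∈ pResidual`, whose value is `a ν a⁻¹`.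
Keep the statement, name, namespace exactly (you may add imports).
-/

set_option autoImplicit false

namespace Cfsg.Agent.Helper3.OLR

open Cfsg Cfsg.FusionSystem Cfsg.Agent.Helper25 Cfsg.Agent.Helper26

variable {Ω : Type*} [Group Ω]

theorem Kp_conj_mem {Sh : Subgroup Ω} [Finite Sh] (p : ℕ) [Fact p.Prime] (hSh : IsPGroup p Sh)
    (Fh : FusionSystem Sh) (hFh : Fh.IsSaturated p) {T : Subgroup Ω} (E : FusionSystem T)
    (hE : E.IsNormalIn Fh p) {S : Subgroup Ω} (F : FusionSystem S) (hst : Stage p Fh E F)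
    (a : MulAut T) (ha : a ∈ Fh.autGroup T)
    (hnorm : ∀ γ ∈ F.autGroup T, a * γ * a⁻¹ ∈ F.autGroup T) :
    ∀ κ ∈ Kp p F E, a * κ * a⁻¹ ∈ Kp p F E := by
  have hTSh : T ≤ Sh := hst.T_le.trans hst.le
  have hAI : AutInv Fh E := (strongInv_of_isInvariantIn hE.1.2.2).autInv hTSh
  -- (1) the generators from `Aut_E(T)`
  have h1 : ∀ κ ∈ E.autGroup T, a * κ * a⁻¹ ∈ E.autGroup T := by
    intro κ hκ
    have hφ : T.subtype.comp κ.toMonoidHom ∈ E.Hom T := (mem_autGroup_iff E le_rfl κ).mp hκ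
    obtain ⟨χ, hχ, hχv⟩ := hAI ha (le_refl T) hφ
    have hle : T ≤ (T.subgroupOf T).map (T.subtype.comp a.toMonoidHom) := by
      intro y hy
      refine ⟨a⁻¹ ⟨y, hy⟩, Subgroup.mem_subgroupOf.mpr (a⁻¹ ⟨y, hy⟩).2, ?_⟩
      show ((a (a⁻¹ ⟨y, hy⟩) : T) : Ω) = y
      simp
    have hχ' := restrict_mem E hle hχ
    rw [mem_autGroup_iff E le_rfl]
    have e : T.subtype.comp (a * κ * a⁻¹).toMonoidHom = χ.comp (Subgroup.inclusion hle) := by
      ext y
      have h2 := hχv (a⁻¹ y)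
      have h3 : ((a ⟨((a⁻¹ y : T) : Ω), le_refl T (a⁻¹ y).2⟩ : T) : Ω) = (y : Ω) := by
        show ((a (a⁻¹ y) : T) : Ω) = y
        simp
      show ((a (κ (a⁻¹ y)) : T) : Ω) = χ ⟨(y : Ω), hle y.2⟩
      rw [hom_congr_val χ (hle y.2) (mem_map_aut (le_refl T) a (a⁻¹ y)) h3.symm, h2]
      rfl
    rw [e]
    exact hχ'
  -- (2) the generators from `O^p(Aut_F(T))`
  have h2 : ∀ κ ∈ autOp p F T, a * κ * a⁻¹ ∈ autOp p F T := by
    intro κ hκ
    obtain ⟨ν, hν, rfl⟩ := hκ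
    let cF : ↥(F.autGroup T) →* ↥(F.autGroup T) :=
      { toFun := fun γ => ⟨a * (γ : MulAut T) * a⁻¹, hnorm γ γ.2⟩
        map_one' := by
          apply Subtype.ext
          show a * ((1 : ↥(F.autGroup T)) : MulAut T) * a⁻¹ = 1
          simp
        map_mul' := by
          intro x y
          apply Subtype.ext
          show a * ((x * y : ↥(F.autGroup T)) : MulAut T) * a⁻¹ =
            (a * (x : MulAut T) * a⁻¹) * (a * (y : MulAut T) * a⁻¹)
          rw [Subgroup.coe_mul]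
          group }
    have h := Helper16.PPowNormal.map_pResidual_le_hom p cF ⟨ν, hν, rfl⟩
    exact ⟨cF ν, h, rfl⟩
  intro κ hκ
  let c : MulAut T →* MulAut T := (MulAut.conj a).toMonoidHom
  have hmap : (Kp p F E).map c ≤ Kp p F E := by
    rw [Subgroup.map_sup]
    apply sup_le
    · rintro _ ⟨x, hx, rfl⟩
      exact Subgroup.mem_sup_left (h1 x hx)
    · rintro _ ⟨x, hx, rfl⟩
      exact Subgroup.mem_sup_right (h2 x hx)
  exact hmap ⟨κ, hκ, rfl⟩

end Cfsg.Agent.Helper3.OLR
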