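import Mathlib
import Cfsg.Agent.Lib.OLR.OLRDefs
import Cfsg.Agent.Lib.OLR.OLRPS1
import Cfsg.Agent.Lib.OLR.OLRPKp
import Cfsg.Agent.Lib.OLR.OLRPKnB

/-!
# OLR-PKNC (S5202, p-step): `Kp` is normal in `Aut_F(T)`.

RECIPE. `Kp_conj_mem p hSh Fh hFh E hE F hst γ (autGroup_mono F Fh hst.inv.1 hst.T_le hTSh hγ) (fun δ hδ => mul_mem (mul_mem hγ hδ) (inv_mem hγ))`
where `hTSh : T ≤ Sh := hE.1.2.2.2.1.1`.
Keep the statement, name, namespace exactly (you may add imports).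
-/

set_option autoImplicit false

namespace Cfsg.Agent.Helper3.OLR

open Cfsg Cfsg.FusionSystem Cfsg.Agent.Helper25 Cfsg.Agent.Helper26

variable {Ω : Type*} [Group Ω]

theorem Kp_normal {Sh : Subgroup Ω} [Finite Sh] (p : ℕ) [Fact p.Prime] (hSh : IsPGroup p Sh)
    (Fh : FusionSystem Sh) (hFh : Fh.IsSaturated p) {T : Subgroup Ω} (E : FusionSystem T)
    (hE : E.IsNormalIn Fh p) {S : Subgroup Ω} (F : FusionSystem S) (hst : Stage p Fh E F) :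
    ∀ γ ∈ F.autGroup T, ∀ κ ∈ Kp p F E, γ * κ * γ⁻¹ ∈ Kp p F E := by
  intro γ hγ
  have hTSh : T ≤ Sh := hE.1.2.2.2.1.1
  have hγh : γ ∈ Fh.autGroup T := by
    rw [mem_autGroup_iff Fh hTSh]
    exact hst.inv.1 T ((mem_autGroup_iff F hst.T_le γ).mp hγ)
  exact Kp_conj_mem p hSh Fh hFh E hE F hst γ hγh
    (fun δ hδ => mul_mem (mul_mem hγ hδ) (inv_mem hγ))

end Cfsg.Agent.Helper3.OLR
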