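import Mathlib
import Cfsg.Agent.Lib.OLR.OLRDefs
import Cfsg.Agent.Lib.OLR.OLRPS1
import Cfsg.Agent.Lib.OLR.OLRPKp
import Cfsg.Agent.Lib.OLR.OLRPKnC
import Cfsg.Agent.Lib.Helper16.PPowNormal3
import Cfsg.Agent.Lib.Helper16.PPowNormal2
import Cfsg.Agent.Lib.Helper25.FusionHyp
import Cfsg.Agent.Lib.Helper25.FusionSat3

/-!
# OLR-PAUT (S5202, p-step): `Aut_{F₁}(T) = Kp`.  (MEDIUM/LONG)

RECIPE. `hTS₁ : T ≤ pS1 _ S` is given. (≥) `E.autGroup T ≤ F₁.autGroup T` by `autGroup_mono E F₁ hEF₁ le_rfl hTS₁`;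
`autOp p F T ≤ F₁.autGroup T` is literally `hF₁i.2.2 T hTS₁`. (≤) Let `α ∈ A₁ := F₁.autGroup T ≤ Γ := F.autGroup T` (`autGroup_mono F₁ F hF₁i.1`).
`MulAut T` is finite. Split `α = α_p * α_p'` (commuting powers of `α`, `orderOf α_p = p^k`, `orderOf α_p'` prime to `p`;
cf. `Nat.exists_eq_pow_mul_and_not_dvd`, Bezout; or `exists_pow_mem_pResidual`-style lemmas in Lib/Helper22/PResidual.lean,
Lib/Helper25/PResidual.lean (`exists_mul_pResidual`)). `α_p' ∈ Γ` has order prime to `p`, so `⟨α_p',_⟩ ∈ pResidual p Γ` (`Subgroup.subset_closure`),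
i.e. `α_p' ∈ autOp p F T ≤ Kp`. `α_p` is a `p`-element of `A₁`. `T` is strongly closed in `F₁` (restrict `hst.nor.1.2.2.2.1` along `hF₁i.1`),
hence fully normalized (`Helper16.PPowNormal3.isFullyNormalized_of_stronglyClosed`) hence fully automized in the saturated `F₁`
(`of_fullyNormalized p hS₁ F₁ hF₁s hfn`): `(autInducedBy (pS1 _ S) T).subgroupOf A₁` is a Sylow `p`-subgroup of `A₁`. By Sylow's theorem
(`IsPGroup.exists_le_sylow` + `MulAction.IsPretransitive` on `Sylow p A₁`: `Sylow.exists_smul_eq`) `α_p = δ * c * δ⁻¹` with `δ ∈ A₁`, `c ∈ autInducedBy (pS1 _ S) T`,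
i.e. `c t = s t s⁻¹` for some `s ∈ pS1 _ S`; by the definition of `pS1`, `c ∈ Kp` (the witness `κ` agrees with `c` on all `t`, `MulEquiv.ext`).
`δ ∈ Γ` normalizes `Kp` (`Kp_normal`). So `α_p ∈ Kp` and `α ∈ Kp`.
Simpler alternative for (≤): `exists_mul_autInducedBy_pResidual p F₁ hFA hα` (Lib/Helper25/FusionHyp.lean) gives `α = σ * ν` with `σ ∈ autInducedBy (pS1 _ S) T` (so `σ ∈ Kp` as above)
and `ν ∈ pResidual p (F₁.autGroup T)`; `pResidual p A₁` maps into `pResidual p Γ` (`Helper16.ResLim.pResidual_map_le` / `map_pResidual_le_hom` with the inclusion `A₁ → Γ`), so `ν ∈ autOp p F T ≤ Kp`. USE THIS.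
Keep the statement, name, namespace exactly (you may add imports).
-/

set_option autoImplicit false
set_option linter.unusedVariables false

namespace Cfsg.Agent.Helper3.OLR

open Cfsg Cfsg.FusionSystem Cfsg.Agent.Helper25 Cfsg.Agent.Helper26

variable {Ω : Type*} [Group Ω]

/-- aux (OLR-PAUT): monotonicity of `autGroup` along a subsystem. -/
theorem olrpaut_autGroup_mono {S S' : Subgroup Ω} (F : FusionSystem S) (F' : FusionSystem S')
    (h : F.IsSubsystemOf F') {T : Subgroup Ω} (hTS : T ≤ S) (hTS' : T ≤ S') :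
    F.autGroup T ≤ F'.autGroup T := by
  intro α hα
  rw [mem_autGroup_iff F' hTS']
  exact h T ((mem_autGroup_iff F hTS α).mp hα)

theorem autGroup_eq_Kp {Sh : Subgroup Ω} [Finite Sh] (p : ℕ) [Fact p.Prime] (hSh : IsPGroup p Sh)
    (Fh : FusionSystem Sh) (hFh : Fh.IsSaturated p) {T : Subgroup Ω} (E : FusionSystem T)
    (hE : E.IsNormalIn Fh p) {S : Subgroup Ω} (F : FusionSystem S) (hst : Stage p Fh E F)
    (F₁ : FusionSystem (pS1 (Kp p F E) S)) (hF₁s : F₁.IsSaturated p)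
    (hF₁i : F₁.HasPPowerIndexIn F p)
    (hEF₁ : E.IsSubsystemOf F₁) (hTS₁ : T ≤ pS1 (Kp p F E) S) :
    F₁.autGroup T = Kp p F E := by
  have hS₁Sh : pS1 (Kp p F E) S ≤ Sh := (pS1_le _ S).trans hst.le
  have : Finite ↥(pS1 (Kp p F E) S) := finite_of_le_finite hS₁Sh
  have hS₁ : IsPGroup p ↥(pS1 (Kp p F E) S) := hSh.to_le hS₁Sh
  have hTS : T ≤ S := hst.T_le
  have hstr : F.StronglyClosed T := hst.nor.1.2.2.2.1
  have hstr₁ : F₁.StronglyClosed T :=
    ⟨hTS₁, fun R hR φ hφ x => hstr.2 R hR φ (hF₁i.1 R hφ) x⟩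
  have hfn : F₁.IsFullyNormalized T :=
    Cfsg.Agent.Helper16.PPowNormal.isFullyNormalized_of_stronglyClosed F₁ hstr₁
  have hFA : F₁.IsFullyAutomized p T := (of_fullyNormalized p hS₁ F₁ hF₁s hfn).2.1
  have hA₁Γ : F₁.autGroup T ≤ F.autGroup T := olrpaut_autGroup_mono F₁ F hF₁i.1 hTS₁ hTS
  apply le_antisymm
  · intro α hα
    obtain ⟨σ, hσ, ν, hν, rfl⟩ := exists_mul_autInducedBy_pResidual p F₁ hFA hα
    refine (Kp p F E).mul_mem ?_ ?_
    · -- σ is induced by an element of pS1, hence lies in Kp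
      have hle : autInducedBy (pS1 (Kp p F E) S) T ≤ Kp p F E := by
        unfold autInducedBy
        rw [Subgroup.closure_le]
        rintro α ⟨g, hg, hα⟩
        obtain ⟨-, κ, hκ, hκg⟩ := hg
        have hακ : α = κ := MulEquiv.ext (fun t => Subtype.ext (by rw [hα, hκg]))
        rw [hακ]
        exact hκ
      exact hle hσ
    · -- ν ∈ O^p(A₁) maps into O^p(Γ) ≤ Kp
      refine (le_sup_right : autOp p F T ≤ Kp p F E) ?_
      have h1 := Cfsg.Agent.Helper16.PPowNormal.map_pResidual_le_hom p (Subgroup.inclusion hA₁Γ)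
      have h2 : Subgroup.inclusion hA₁Γ ν ∈ pResidual p ↥(F.autGroup T) := h1 ⟨ν, hν, rfl⟩
      exact ⟨Subgroup.inclusion hA₁Γ ν, h2, rfl⟩
  · exact sup_le (olrpaut_autGroup_mono E F₁ hEF₁ le_rfl hTS₁) (hF₁i.2.2 T hTS₁)

end Cfsg.Agent.Helper3.OLR
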