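import Mathlib
import Cfsg.Agent.Lib.OLR.OLRDefs
import Cfsg.Agent.Lib.OLR.OLRPS1
import Cfsg.Agent.Lib.OLR.OLRPKp

/-!
# OLR-PS1A (S5202, p-step): `T ≤ S₁` and `C_Sh(T) ≤ S₁`.

RECIPE. `T_le_pS1`: for `t ∈ T`: `t ∈ S` (`hst.T_le`); `κ := MulAut.conj ⟨t, ht⟩ : MulAut T` lies in `E.autGroup T`
(`E.conj_mem le_rfl ht` + `mem_autGroup_iff E le_rfl`; or `inn_le_autInducedBy`/`autInducedBy_le_autGroup` as in S5198.lean) `≤ Kp` (`le_sup_left`);
`(κ x : Ω) = t * x * t⁻¹` by `rfl`/`MulAut.conj_apply`.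
`cen_le_pS1`: `c ∈ centralizerIn Sh T = Sh ⊓ centralizer T`: `c ∈ S` by `hst.cen`; `κ := 1`; `c * x * c⁻¹ = x` from `Subgroup.mem_centralizer_iff`.
Keep the statements, names, namespace exactly (you may add imports).
-/

set_option autoImplicit false

namespace Cfsg.Agent.Helper3.OLR

open Cfsg Cfsg.FusionSystem Cfsg.Agent.Helper25 Cfsg.Agent.Helper26

variable {Ω : Type*} [Group Ω]

theorem T_le_pS1 {Sh : Subgroup Ω} [Finite Sh] (p : ℕ) [Fact p.Prime] (hSh : IsPGroup p Sh)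
    (Fh : FusionSystem Sh) (hFh : Fh.IsSaturated p) {T : Subgroup Ω} (E : FusionSystem T)
    (hE : E.IsNormalIn Fh p) {S : Subgroup Ω} (F : FusionSystem S) (hst : Stage p Fh E F) :
    T ≤ pS1 (Kp p F E) S := by
  intro t ht
  rw [mem_pS1]
  refine ⟨hst.T_le ht, MulAut.conj (⟨t, ht⟩ : T), ?_, fun x => rfl⟩
  apply (le_sup_left : E.autGroup T ≤ Kp p F E)
  rw [mem_autGroup_iff E le_rfl]
  have h1 : conjHom T t ∈ E.Hom T := E.conj_mem le_rfl ht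
  have e : T.subtype.comp (MulAut.conj (⟨t, ht⟩ : T)).toMonoidHom = conjHom T t := by
    ext x; rfl
  rw [e]; exact h1

theorem cen_le_pS1 {Sh : Subgroup Ω} [Finite Sh] (p : ℕ) [Fact p.Prime] (hSh : IsPGroup p Sh)
    (Fh : FusionSystem Sh) (hFh : Fh.IsSaturated p) {T : Subgroup Ω} (E : FusionSystem T)
    (hE : E.IsNormalIn Fh p) {S : Subgroup Ω} (F : FusionSystem S) (hst : Stage p Fh E F) :
    centralizerIn Sh T ≤ pS1 (Kp p F E) S := by
  intro c hc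
  rw [mem_pS1]
  refine ⟨hst.cen hc, 1, Subgroup.one_mem _, fun x => ?_⟩
  have h1 := (mem_centralizerIn.1 hc).2 (x : Ω) x.2
  show (x : Ω) = c * (x : Ω) * c⁻¹
  rw [← h1, mul_inv_cancel_right]

end Cfsg.Agent.Helper3.OLR
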