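import Mathlib
import Cfsg.Agent.Lib.OLR.OLRDefs
import Cfsg.Agent.Lib.OLR.OLRPS1
import Cfsg.Agent.Lib.OLR.OLRPKp
import Cfsg.Agent.Lib.OLR.OLRPS1A
import Cfsg.Agent.Lib.Helper25.FusionHyp
import Cfsg.Agent.Lib.Helper16.PPowNormal2
import Cfsg.Agent.Lib.Helper16.PPowNormal3
import Cfsg.Agent.Lib.Helper25.FusionSat3
import Cfsg.Agent.Lib.Helper25.FusionNormal3
import Cfsg.Agent.Lib.Helper25.KNorm3
import Cfsg.Agent.S5255

/-!
# OLR-PEXT (S5202, p-step): an automorphism of `S* = T C_S(T)` in `F` whose restriction to `T` lies in `Kp` is a map of `F₁`. (MEDIUM/LONG)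

RECIPE. Let `X := T ⊔ centralizerIn S T ≤ pS1 _ S` (`sup_le (T_le_pS1 …) ((inf_le_inf_right _ hst.le).trans (cen_le_pS1 …))`: `C_S(T) ≤ C_Sh(T) ≤ S₁`).
(1) `X` is fully automized in `F`: `X` is strongly closed in `F` [S5255 is the proved row for this; or directly: every `F`-conjugate of `X` is `X`:
for `φ ∈ F.Hom X`, `φ(T) ≤ T` (`T` strongly closed) hence `= T` by cardinality, and `φ(C_S(T))` centralizes `φ(T) = T`], so fully normalized
(`Helper16.PPowNormal3.isFullyNormalized_of_stronglyClosed`), so fully automized (`of_fullyNormalized p hS F hst.sat hfn`).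
(2) `Helper25.exists_mul_autInducedBy_pResidual p F hFA hβ : β = σ * ν` with `σ ∈ autInducedBy S X` (`σ x = s x s⁻¹`, `s ∈ S`) and `ν ∈ pResidual p (F.autGroup X)`.
(3) `ν ∈ F₁.autGroup X`: `hF₁i.2.2 X hXS₁ ⟨ν, hν, rfl⟩`.
(4) restriction `r : F.autGroup X →* F.autGroup T` (every `F`-automorphism of `X` maps `T` onto `T`; build it with `MonoidHom.mk'` or avoid it:
elementwise argument below). `Helper16.PPowNormal.map_pResidual_le_hom p r` gives `r ν ∈ pResidual p (F.autGroup T)`, i.e. `ν|_T ∈ autOp p F T ≤ Kp`.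
(If building `r` is painful: use `pResidual_transport`/`Subgroup.closure_induction` on `ν`: generators of order prime to `p` restrict to elements of order
prime to `p` — order of the restriction divides the order.)
(5) `σ|_T = (ν|_T)⁻¹ * (β|_T)`... careful with the order: `β = σ * ν` so `σ|_T = β|_T * (ν|_T)⁻¹ ∈ Kp`; since `σ|_T` is conjugation by `s` on `T`, `s ∈ pS1 (Kp p F E) S` by `mem_pS1`.
(6) hence `σ ∈ F₁.autGroup X` (`F₁.conj_mem hXS₁ hs` + `mem_autGroup_iff F₁ hXS₁`), and `β = σ * ν ∈ F₁.autGroup X`.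
Keep the statement, name, namespace exactly (you may add imports).
-/

set_option autoImplicit false
set_option linter.style.haveILetI false

namespace Cfsg.Agent.Helper3.OLR

open Cfsg Cfsg.FusionSystem Cfsg.Agent.Helper25 Cfsg.Agent.Helper26

variable {Ω : Type*} [Group Ω]

theorem mem_autGroup_F1_of_restrict {Sh : Subgroup Ω} [Finite Sh] (p : ℕ) [Fact p.Prime] (hSh : IsPGroup p Sh)
    (Fh : FusionSystem Sh) (hFh : Fh.IsSaturated p) {T : Subgroup Ω} (E : FusionSystem T)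
    (hE : E.IsNormalIn Fh p) {S : Subgroup Ω} (F : FusionSystem S) (hst : Stage p Fh E F)
    (F₁ : FusionSystem (pS1 (Kp p F E) S)) (hF₁s : F₁.IsSaturated p)
    (hF₁i : F₁.HasPPowerIndexIn F p)
    (β : MulAut ↥(T ⊔ centralizerIn S T)) (hβ : β ∈ F.autGroup (T ⊔ centralizerIn S T))
    (κ : MulAut T) (hκ : κ ∈ Kp p F E)
    (hres : ∀ t : T, ((β (Subgroup.inclusion le_sup_left t) : ↥(T ⊔ centralizerIn S T)) : Ω) =
      ((κ t : T) : Ω)) :
    β ∈ F₁.autGroup (T ⊔ centralizerIn S T) := by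
  have hSSh : S ≤ Sh := hst.le
  haveI : Finite S := finite_of_le_finite hSSh
  have hS : IsPGroup p S := hSh.to_le hSSh
  have hT : F.StronglyClosed T := hst.nor.1.2.2.2.1
  have hTS : T ≤ S := hT.1
  have hRS : T ⊔ centralizerIn S T ≤ S := sup_le hTS centralizerIn_le
  have hTR : T ≤ T ⊔ centralizerIn S T := le_sup_left
  have hXS₁ : T ⊔ centralizerIn S T ≤ pS1 (Kp p F E) S := by
    refine sup_le (T_le_pS1 p hSh Fh hFh E hE F hst) ?_
    refine le_trans ?_ (cen_le_pS1 p hSh Fh hFh E hE F hst)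
    intro c hc
    exact ⟨hSSh hc.1, hc.2⟩
  -- (1) `X` is fully automized
  have hX : F.StronglyClosed (T ⊔ centralizerIn S T) :=
    Cfsg.Agent.S5255.result p hS F hst.sat T hT
  have hfn := Cfsg.Agent.Helper16.PPowNormal.isFullyNormalized_of_stronglyClosed F hX
  obtain ⟨-, hFA, -⟩ := of_fullyNormalized p hS F hst.sat hfn
  -- (2) `β = σ * ν`
  obtain ⟨σ, hσ, ν, hν, hβeq⟩ := exists_mul_autInducedBy_pResidual p F hFA hβ
  -- (3) `ν` is in `F₁`
  have hνF₁ : (ν : MulAut ↥(T ⊔ centralizerIn S T)) ∈ F₁.autGroup (T ⊔ centralizerIn S T) :=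
    hF₁i.2.2 _ hXS₁ ⟨ν, hν, rfl⟩
  -- (4) the restriction homomorphism
  have hstab : ∀ δ ∈ F.autGroup (T ⊔ centralizerIn S T), ∀ x : ↥(T ⊔ centralizerIn S T),
      (x : Ω) ∈ T → ((δ x : ↥(T ⊔ centralizerIn S T)) : Ω) ∈ T :=
    fun δ hδ x hx => aut_mem_of_stronglyClosed F hT hRS hδ hx
  have hresmem : ∀ a : ↥(F.autGroup (T ⊔ centralizerIn S T)),
      resHom hTR (F.autGroup (T ⊔ centralizerIn S T)) hstab a ∈ F.autGroup T := by
    intro a
    rw [mem_autGroup_iff F hTS]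
    have e : T.subtype.comp (resHom hTR (F.autGroup (T ⊔ centralizerIn S T)) hstab a).toMonoidHom =
        ((T ⊔ centralizerIn S T).subtype.comp
          (a : MulAut ↥(T ⊔ centralizerIn S T)).toMonoidHom).comp (Subgroup.inclusion hTR) := by
      ext x; rfl
    rw [e]
    exact restrict_mem F hTR ((mem_autGroup_iff F hRS _).mp a.2)
  obtain ⟨res, hresdef⟩ : ∃ res : ↥(F.autGroup (T ⊔ centralizerIn S T)) →* ↥(F.autGroup T),
      res = (resHom hTR (F.autGroup (T ⊔ centralizerIn S T)) hstab).codRestrict _ hresmem :=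
    ⟨_, rfl⟩
  have hresx : ∀ (a : ↥(F.autGroup (T ⊔ centralizerIn S T))) (x : T),
      ((((res a : ↥(F.autGroup T)) : MulAut T) x : T) : Ω) =
        (((a : MulAut ↥(T ⊔ centralizerIn S T)) (Subgroup.inclusion hTR x) :
          ↥(T ⊔ centralizerIn S T)) : Ω) := by
    intro a x
    rw [hresdef]
    rfl
  have hνT : ((res ν : ↥(F.autGroup T)) : MulAut T) ∈ autOp p F T := by
    unfold autOp
    exact ⟨res ν, Cfsg.Agent.Helper16.PPowNormal.map_pResidual_le_hom p res ⟨ν, hν, rfl⟩, rfl⟩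
  have hνK : ((res ν : ↥(F.autGroup T)) : MulAut T) ∈ Kp p F E :=
    (le_sup_right : autOp p F T ≤ Kp p F E) hνT
  -- (5) `σ` is conjugation by an element of `S₁`
  obtain ⟨s, hs, hσs⟩ := (mem_autInducedBy_iff σ).mp hσ
  have hsS₁ : s ∈ pS1 (Kp p F E) S := by
    rw [mem_pS1]
    refine ⟨hs, κ * ((res ν : ↥(F.autGroup T)) : MulAut T)⁻¹,
      Subgroup.mul_mem _ hκ (Subgroup.inv_mem _ hνK), fun t => ?_⟩
    obtain ⟨t', ht'⟩ : ∃ t' : T, t' = ((res ν : ↥(F.autGroup T)) : MulAut T)⁻¹ t := ⟨_, rfl⟩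
    have h1 : ((res ν : ↥(F.autGroup T)) : MulAut T) t' = t := by rw [ht']; simp
    show ((κ (((res ν : ↥(F.autGroup T)) : MulAut T)⁻¹ t) : T) : Ω) = s * (t : Ω) * s⁻¹
    rw [← ht', ← hres t', hβeq]
    show ((σ ((ν : MulAut ↥(T ⊔ centralizerIn S T)) (Subgroup.inclusion le_sup_left t')) :
      ↥(T ⊔ centralizerIn S T)) : Ω) = s * (t : Ω) * s⁻¹
    rw [hσs]
    have h2 : (((ν : MulAut ↥(T ⊔ centralizerIn S T)) (Subgroup.inclusion le_sup_left t') :
        ↥(T ⊔ centralizerIn S T)) : Ω) = (t : Ω) := by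
      rw [← hresx ν t', h1]
    rw [h2]
  -- (6)
  have hσF₁ : σ ∈ F₁.autGroup (T ⊔ centralizerIn S T) := by
    rw [mem_autGroup_iff F₁ hXS₁]
    have h1 : conjHom (T ⊔ centralizerIn S T) s ∈ F₁.Hom (T ⊔ centralizerIn S T) :=
      F₁.conj_mem hXS₁ hsS₁
    have e : (T ⊔ centralizerIn S T).subtype.comp σ.toMonoidHom =
        conjHom (T ⊔ centralizerIn S T) s := by
      ext x; exact hσs x
    rw [e]; exact h1
  rw [hβeq]
  exact Subgroup.mul_mem _ hσF₁ hνF₁

end Cfsg.Agent.Helper3.OLR
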