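import Mathlib
import Cfsg.Agent.Lib.OLR.OLRDefs
import Cfsg.Agent.Lib.OLR.OLRPS1
import Cfsg.Agent.Lib.OLR.OLRPKp
import Cfsg.Agent.Lib.OLR.OLRPS1A
import Cfsg.Agent.Lib.OLR.OLRPExt
import Cfsg.Agent.S5119

/-!
# OLR-PENOR (S5202, p-step): `E` is normal in `F₁`. (MEDIUM)

RECIPE. `haveI : Finite ↥(pS1 _ S)`, `hS₁ : IsPGroup p ↥(pS1 _ S)` from `hSh.to_le ((pS1_le _ _).trans hst.le)`.
WEAKLY NORMAL: `⟨hst.nor.1.1, hF₁s, hinv⟩` where `hinv : E.IsInvariantIn F₁` comes from `(Cfsg.Agent.S5119.result p hS₁ F₁ hF₁s E hEF₁ hT₁).mpr hSI`: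
`hT₁ : F₁.StronglyClosed T := ⟨hTS₁, fun R hR φ hφ x => hst.nor.1.2.2.2.1.2 R hR φ (hF₁i.1 R hφ) x⟩`, and `hSI` = the strong invariance
condition for `F₁`, obtained from the one for `F`: `(Cfsg.Agent.S5119.result p hS F hst.sat E hst.nor.1.2.2.1 hst.nor.1.2.2.2.1).mp hst.nor.1.2.2` and
`hF₁i.1 Q hψ : ψ ∈ F.Hom Q` (fewer `ψ`).
EXTENSION CLAUSE: goal is about `T ⊔ centralizerIn (pS1 _ S) T`. First `have hc : centralizerIn (pS1 (Kp p F E) S) T = centralizerIn S T`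
(`le_antisymm (inf_le_inf_right _ (pS1_le _ _)) (fun c hc => ⟨cen_le_pS1 … ⟨hst.le hc.1, hc.2⟩, hc.2⟩)`), then `rw [hc]` (or `simp only [hc]`; if the motive is
not type correct, prove the clause for an arbitrary subgroup `C` with `C = centralizerIn S T` by `subst`). For `α ∈ E.autGroup T` take `β` from `hst.nor.2 α hα`
(in `F.autGroup (T ⊔ centralizerIn S T)`); `mem_autGroup_F1_of_restrict … β hβ α (le_sup_left hα) hβres` puts it in `F₁`; the two properties are the same.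
Keep the statement, name, namespace exactly (you may add imports).
-/

set_option autoImplicit false

namespace Cfsg.Agent.Helper3.OLR

open Cfsg Cfsg.FusionSystem Cfsg.Agent.Helper25 Cfsg.Agent.Helper26

variable {Ω : Type*} [Group Ω]

theorem E_isNormalIn_F1 {Sh : Subgroup Ω} [Finite Sh] (p : ℕ) [Fact p.Prime] (hSh : IsPGroup p Sh)
    (Fh : FusionSystem Sh) (hFh : Fh.IsSaturated p) {T : Subgroup Ω} (E : FusionSystem T)
    (hE : E.IsNormalIn Fh p) {S : Subgroup Ω} (F : FusionSystem S) (hst : Stage p Fh E F)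
    (F₁ : FusionSystem (pS1 (Kp p F E) S)) (hF₁s : F₁.IsSaturated p)
    (hF₁i : F₁.HasPPowerIndexIn F p)
    (hEF₁ : E.IsSubsystemOf F₁) (hTS₁ : T ≤ pS1 (Kp p F E) S) :
    E.IsNormalIn F₁ p := by
  have hS1S : pS1 (Kp p F E) S ≤ S := pS1_le _ _
  have hfin1 : Finite ↥(pS1 (Kp p F E) S) :=
    Finite.of_injective (Subgroup.inclusion (hS1S.trans hst.le)) (Subgroup.inclusion_injective _)
  have hS₁ : IsPGroup p ↥(pS1 (Kp p F E) S) := hSh.to_le (hS1S.trans hst.le)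
  have hfinS : Finite ↥S :=
    Finite.of_injective (Subgroup.inclusion hst.le) (Subgroup.inclusion_injective _)
  have hS : IsPGroup p ↥S := hSh.to_le hst.le
  have hTF : F.StronglyClosed T := hst.nor.1.2.2.2.1
  have hT₁ : F₁.StronglyClosed T :=
    ⟨hTS₁, fun R hR φ hφ x => hTF.2 R hR φ (hF₁i.1 R hφ) x⟩
  have hSIF := (Cfsg.Agent.S5119.result p hS F hst.sat E hst.nor.1.2.2.1 hTF).mp hst.nor.1.2.2
  have hinv : E.IsInvariantIn F₁ := by
    refine (Cfsg.Agent.S5119.result p hS₁ F₁ hF₁s E hEF₁ hT₁).mpr ?_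
    intro P Q hPQ hQT φ hφ hφQ ψ hψ
    exact hSIF P Q hPQ hQT φ hφ hφQ ψ (hF₁i.1 Q hψ)
  refine ⟨⟨hst.nor.1.1, hF₁s, hinv⟩, ?_⟩
  have hc : centralizerIn (pS1 (Kp p F E) S) T = centralizerIn S T :=
    le_antisymm (inf_le_inf_right _ hS1S)
      (fun c hc => ⟨cen_le_pS1 p hSh Fh hFh E hE F hst ⟨hst.le hc.1, hc.2⟩, hc.2⟩)
  have key : ∀ C : Subgroup Ω, C = centralizerIn S T → ∀ α ∈ E.autGroup T,
      ∃ β ∈ F₁.autGroup (T ⊔ C),
        (∀ x : T, ((β (Subgroup.inclusion le_sup_left x) : ↥(T ⊔ C)) : Ω) = ((α x : T) : Ω)) ∧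
        ∀ c : ↥(T ⊔ C), (c : Ω) ∈ C →
          (c : Ω)⁻¹ * ((β c : ↥(T ⊔ C)) : Ω) ∈ T ⊓ Subgroup.centralizer (T : Set Ω) := by
    rintro C rfl α hα
    obtain ⟨β, hβ, hβres, hβc⟩ := hst.nor.2 α hα
    exact ⟨β, mem_autGroup_F1_of_restrict p hSh Fh hFh E hE F hst F₁ hF₁s hF₁i β hβ α
      (show α ∈ Kp p F E from Subgroup.mem_sup_left hα) hβres, hβres, hβc⟩
  exact key _ hc

end Cfsg.Agent.Helper3.OLR
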