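import Mathlib
import Cfsg.Agent.Lib.OLR.OLRDefs
import Cfsg.Agent.Lib.OLR.OLRPS1
import Cfsg.Agent.Lib.OLR.OLRPKp
import Cfsg.Agent.Lib.Helper25.FusionInvariant

/-!
# OLR-PKNA (S5202, p-step): restrictions to `T` of `Aut_Fh(S)` normalize `Aut_F(T)`.

RECIPE. `hst.inv : F.IsInvariantIn Fh`; `Helper25.strongInv_of_isInvariantIn hst.inv : StrongInv Fh F` (Lib/Helper25/FusionInvariant.lean).
Apply it with `P = Q = T ≤ S` (`hst.T_le`), `φ := T.subtype.comp γ.toMonoidHom ∈ F.Hom T` (`(mem_autGroup_iff F hst.T_le γ).mp hγ`),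
`ψ := (Sh... no: ψ := the restriction of ah to T`, i.e. `ψ := (S.subtype.comp ah.toMonoidHom).comp (Subgroup.inclusion hst.T_le) ∈ Fh.Hom T`
(`restrict_mem Fh hst.T_le ((mem_autGroup_iff Fh hst.le ah).mp hah)`). It gives `χ ∈ F.Hom ((T.subgroupOf T).map ψ)` with
`χ (ψ x) = ψ (γ x)`. The image `(T.subgroupOf T).map ψ` is `T` (by `hres`: `ψ x = a x` and `a` is onto), and `χ` agrees with
`a * γ * a⁻¹` : `χ (a y) = a (γ y)`; conclude with `mem_autGroup_iff F hst.T_le` + a transport of `χ` along the equality of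
subgroups (e.g. `hom_congr`/`Subsingleton`-free: show the two homs `T →* Ω` are equal by `MonoidHom.ext` after `subst`/`Eq.mpr`;
see `Helper25.hom_congr_val` and how `Lib/PIX/PIXEd.lean` (`pixed_hom_transport`) does it).
Keep the statement, name, namespace exactly (you may add imports).
-/

set_option autoImplicit false

namespace Cfsg.Agent.Helper3.OLR

open Cfsg Cfsg.FusionSystem Cfsg.Agent.Helper25 Cfsg.Agent.Helper26

variable {Ω : Type*} [Group Ω]

theorem conj_mem_autGroup_of_stage {Sh : Subgroup Ω} [Finite Sh] (p : ℕ) [Fact p.Prime] (hSh : IsPGroup p Sh)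
    (Fh : FusionSystem Sh) (hFh : Fh.IsSaturated p) {T : Subgroup Ω} (E : FusionSystem T)
    (hE : E.IsNormalIn Fh p) {S : Subgroup Ω} (F : FusionSystem S) (hst : Stage p Fh E F)
    (ah : MulAut S) (hah : ah ∈ Fh.autGroup S) (a : MulAut T)
    (hres : ∀ t : T, ((a t : T) : Ω) = ((ah ⟨(t : Ω), hst.T_le t.2⟩ : S) : Ω)) :
    ∀ γ ∈ F.autGroup T, a * γ * a⁻¹ ∈ F.autGroup T := by
  intro γ hγ
  have hTS : T ≤ S := hst.T_le
  have hSI : StrongInv Fh F := strongInv_of_isInvariantIn hst.inv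
  have hφ : T.subtype.comp γ.toMonoidHom ∈ F.Hom T := (mem_autGroup_iff F hTS γ).mp hγ
  have hφQ : ∀ x : T, (T.subtype.comp γ.toMonoidHom) x ∈ T := fun x => (γ x).2
  have hψ : (S.subtype.comp ah.toMonoidHom).comp (Subgroup.inclusion hTS) ∈ Fh.Hom T :=
    restrict_mem Fh hTS ((mem_autGroup_iff Fh hst.le ah).mp hah)
  have hψv : ∀ x : T, ((S.subtype.comp ah.toMonoidHom).comp (Subgroup.inclusion hTS)) x =
      ((a x : T) : Ω) := fun x => (hres x).symm
  obtain ⟨χ, hχ, hχv⟩ := hSI T T le_rfl hTS _ hφ hφQ _ hψ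
  have hA : T = (T.subgroupOf T).map
      ((S.subtype.comp ah.toMonoidHom).comp (Subgroup.inclusion hTS)) := by
    ext y
    constructor
    · intro hy
      refine ⟨a.symm ⟨y, hy⟩, ?_, ?_⟩
      · rw [SetLike.mem_coe, Subgroup.mem_subgroupOf]
        exact (a.symm ⟨y, hy⟩).2
      · rw [hψv, MulEquiv.apply_symm_apply]
    · rintro ⟨x, -, rfl⟩
      rw [hψv]
      exact (a x).2
  have hχ' := hom_transport F hA hχ
  rw [mem_autGroup_iff F hTS]
  have heq : T.subtype.comp (a * γ * a⁻¹).toMonoidHom = χ.comp (Subgroup.inclusion hA.le) := by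
    ext y
    show (((a * γ * a⁻¹) y : T) : Ω) = χ (Subgroup.inclusion hA.le y)
    have hx : ((S.subtype.comp ah.toMonoidHom).comp (Subgroup.inclusion hTS))
        (Subgroup.inclusion (le_refl T) (a.symm y)) ∈
        (T.subgroupOf T).map ((S.subtype.comp ah.toMonoidHom).comp (Subgroup.inclusion hTS)) :=
      ⟨a.symm y, by rw [SetLike.mem_coe, Subgroup.mem_subgroupOf]; exact (a.symm y).2, rfl⟩
    have h1 := hχv (a.symm y) hx
    have h2 : Subgroup.inclusion hA.le y =
        ⟨((S.subtype.comp ah.toMonoidHom).comp (Subgroup.inclusion hTS))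
          (Subgroup.inclusion (le_refl T) (a.symm y)), hx⟩ := by
      apply Subtype.ext
      show (y : Ω) = ((S.subtype.comp ah.toMonoidHom).comp (Subgroup.inclusion hTS)) (a.symm y)
      rw [hψv, MulEquiv.apply_symm_apply]
    rw [h2, h1]
    have h3 : (⟨(T.subtype.comp γ.toMonoidHom) (a.symm y), hφQ (a.symm y)⟩ : T) =
        γ (a.symm y) := Subtype.ext rfl
    rw [h3, hψv]
    rfl
  rw [heq]
  exact hχ'

end Cfsg.Agent.Helper3.OLR
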