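import Mathlib
import Cfsg.Agent.Lib.OLR.OLRDefs
import Cfsg.Agent.Lib.OLR.OLRPS1
import Cfsg.Agent.Lib.OLR.OLRPKp
import Cfsg.Agent.S5198
import Cfsg.Agent.Lib.Helper25.FusionHyp
import Cfsg.Agent.Lib.Helper25.FusionAlperin
import Cfsg.Agent.Lib.Helper25.FusionAut

/-!
# OLR-PS1B (S5202, p-step): `hyp(F) ≤ S₁`.

RECIPE. `haveI : Finite S := finite_of_le_finite hst.le`, `hS : IsPGroup p S := hSh.to_le hst.le`, `hT : F.StronglyClosed T := hst.nor.1.2.2.2.1`.
For `x ∈ hyp(F)`: `x ∈ S` (`hyperfocalSubgroup_le F p`, Lib/Helper16/ResLim1 or Helper26.HyperfocalKernel) and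
`Cfsg.Agent.S5198.result p hS F hst.sat T hT x hx` gives `α ∈ (pResidual p (F.autGroup T)).map _ ⊔ Inn T` with `α t = x t x⁻¹`.
`(pResidual …).map _ = autOp p F T` by `rfl`, and `Inn T ≤ E.autGroup T` (inner automorphisms of `T` are maps of `E`:
`E.conj_mem`; see `inn_le_autInducedBy` + `autInducedBy_le_autGroup E le_rfl`), so `α ∈ Kp p F E` (`sup_le (le_sup_right) (le_sup_left.trans' …)`).
Keep the statement, name, namespace exactly (you may add imports).
-/

set_option autoImplicit false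

namespace Cfsg.Agent.Helper3.OLR

open Cfsg Cfsg.FusionSystem Cfsg.Agent.Helper25 Cfsg.Agent.Helper26

variable {Ω : Type*} [Group Ω]

theorem hyp_le_pS1 {Sh : Subgroup Ω} [Finite Sh] (p : ℕ) [Fact p.Prime] (hSh : IsPGroup p Sh)
    (Fh : FusionSystem Sh) (hFh : Fh.IsSaturated p) {T : Subgroup Ω} (E : FusionSystem T)
    (hE : E.IsNormalIn Fh p) {S : Subgroup Ω} (F : FusionSystem S) (hst : Stage p Fh E F) :
    F.hyperfocalSubgroup p ≤ pS1 (Kp p F E) S := by
  haveI : Finite S := finite_of_le_finite hst.le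
  have hS : IsPGroup p S := hSh.to_le hst.le
  have hT : F.StronglyClosed T := hst.nor.1.2.2.2.1
  intro x hx
  have hxS : x ∈ S := Cfsg.Agent.Helper25.hyperfocalSubgroup_le F p hx
  obtain ⟨α, hα, hαx⟩ := Cfsg.Agent.S5198.result p hS F hst.sat T hT x hx
  refine ⟨hxS, α, ?_, hαx⟩
  have hle : ((Cfsg.pResidual p ↥(F.autGroup T)).map (F.autGroup T).subtype ⊔ Cfsg.Inn ↥T :
      Subgroup (MulAut ↥T)) ≤ Kp p F E := by
    refine sup_le ?_ ?_
    · exact le_sup_right
    · exact le_trans ((inn_le_autInducedBy (S := T) (P := T) le_rfl).trans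
        (autInducedBy_le_autGroup E le_rfl)) le_sup_left
  exact hle hα

end Cfsg.Agent.Helper3.OLR
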