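import Mathlib
import Cfsg.Agent.Lib.OLR.OLRDefs
import Cfsg.Agent.Lib.OLR.OLRPS1
import Cfsg.Agent.Lib.OLR.OLRPKp
import Cfsg.Agent.Lib.OLR.OLRPKnC

/-!
# OLR-PS1C (S5202, p-step): `S₁` is normal in `S`.

RECIPE. Normality of `(pS1 K S).subgroupOf S`: for `g ∈ S`, `s ∈ pS1 K S` with witness `κ`: `g s g⁻¹ ∈ S`, and the witness is `γ * κ * γ⁻¹`
where `γ : MulAut T` is conjugation by `g` on `T` (`T` is strongly closed in `F`, so `g` normalizes `T`: as in the first 25 lines of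
`Cfsg/Agent/S5198.lean`, `γ := T.normalizerMonoidHom ⟨g, _⟩ ∈ F.autGroup T` via `autInducedBy_le_autGroup`), in `Kp` by
`Kp_normal p hSh Fh hFh E hE F hst γ hγ κ hκ`. Check `(γ (κ (γ⁻¹ t)) : Ω) = (g s g⁻¹) t (g s g⁻¹)⁻¹` with `group` after unfolding
(`γ⁻¹ t = g⁻¹ t g`).
Keep the statement, name, namespace exactly (you may add imports).
-/

set_option autoImplicit false

namespace Cfsg.Agent.Helper3.OLR

open Cfsg Cfsg.FusionSystem Cfsg.Agent.Helper25 Cfsg.Agent.Helper26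

variable {Ω : Type*} [Group Ω]

theorem pS1_normal {Sh : Subgroup Ω} [Finite Sh] (p : ℕ) [Fact p.Prime] (hSh : IsPGroup p Sh)
    (Fh : FusionSystem Sh) (hFh : Fh.IsSaturated p) {T : Subgroup Ω} (E : FusionSystem T)
    (hE : E.IsNormalIn Fh p) {S : Subgroup Ω} (F : FusionSystem S) (hst : Stage p Fh E F) :
    ((pS1 (Kp p F E) S).subgroupOf S).Normal := by
  have hT : F.StronglyClosed T := hst.nor.1.2.2.2.1
  have hTS : T ≤ S := hT.1
  constructor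
  rintro ⟨s, hsS⟩ hs ⟨g, hgS⟩
  rw [Subgroup.mem_subgroupOf] at hs ⊢
  obtain ⟨-, κ, hκ, hκs⟩ := hs
  have hgN : g ∈ Subgroup.normalizer (T : Set Ω) := mem_normalizer_of_stronglyClosed hT hgS
  let γ : MulAut T := T.normalizerMonoidHom ⟨g, hgN⟩
  have hγ : γ ∈ F.autGroup T :=
    autInducedBy_le_autGroup F hTS ((mem_autInducedBy_iff _).2 ⟨g, hgS, fun x => rfl⟩)
  have hγ_apply : ∀ t : T, ((γ t : T) : Ω) = g * t * g⁻¹ := fun t => rfl
  refine ⟨S.mul_mem (S.mul_mem hgS hsS) (S.inv_mem hgS), γ * κ * γ⁻¹,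
    Kp_normal p hSh Fh hFh E hE F hst γ hγ κ hκ, fun t => ?_⟩
  have hu1 : γ (γ⁻¹ t) = t := by simp
  have hu2 : ((γ⁻¹ t : T) : Ω) = g⁻¹ * t * g := by
    have h3 := hγ_apply (γ⁻¹ t)
    rw [hu1] at h3
    rw [h3]; group
  show ((γ (κ (γ⁻¹ t)) : T) : Ω) = (g * s * g⁻¹) * t * (g * s * g⁻¹)⁻¹
  rw [hγ_apply, hκs, hu2]
  group

end Cfsg.Agent.Helper3.OLR
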