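import Mathlib
import Cfsg.Agent.Lib.OLR.OLRDefs
import Cfsg.Agent.Lib.OLR.OLRPS1
import Cfsg.Agent.Lib.OLR.OLRPKp
import Cfsg.Agent.Lib.OLR.OLRPKnA
import Cfsg.Agent.Lib.OLR.OLRPKnB
import Cfsg.Agent.Lib.OLR.OLRPS1B
import Cfsg.Agent.Lib.OLR.OLRPS1C
import Cfsg.Agent.Lib.Helper16.PPowNormal1

/-!
# OLR-PSC (S5202, p-step): `S₁` is invariant under `Aut_Fh(S)` and strongly closed in `Fh`. (MEDIUM)

RECIPE. `aut_map_pS1`: `ah ∈ Fh.autGroup S`, `s ∈ pS1 _ S` with witness `κ`. `T` is strongly closed in `Fh` (`hE.1.2.2.2.1`), so `ah` maps `T` onto `T`: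
let `a : MulAut T` be the restriction (build with `MulEquiv.ofBijective`/`Helper25.autRestr` + equality of the image with `T`, or take it from
`Helper25.aut_mem_of_stronglyClosed`-style lemmas in Lib/Helper25/FusionNormal3.lean: search `restrict`/`resAut`), `a ∈ Fh.autGroup T`.
`conj_mem_autGroup_of_stage … ah hah a hres` gives `hnorm`; `Kp_conj_mem … a ha hnorm κ hκ : a κ a⁻¹ ∈ Kp`. Witness for `ah s`:
`(a (κ (a⁻¹ t)) : Ω) = ah(s) t ah(s)⁻¹` because `ah` is a homomorphism: `ah (s * x * s⁻¹) = ah s * ah x * (ah s)⁻¹` with `x := a⁻¹ t`.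
`pS1_stronglyClosed_Fh`: `⟨(pS1_le _ _).trans hst.le, fun R hR φ hφ x => ?_⟩`. Frattini clause of `hst.inv` (`hst.inv.2.2.2 R (hR.trans (pS1_le _ _)) φ hφ`)
gives `φ x = ah (φ₀ x)` with `ah ∈ Fh.autGroup S`, `φ₀ ∈ F.Hom R`. `φ₀ x ∈ pS1 _ S` because `pS1 _ S` is strongly closed in `F`:
`Helper16.PPowNormal.stronglyClosed_of_hyp_le p hS F hst.sat (pS1_le _ _) (pS1_normal …) (hyp_le_pS1 …)`. Then `aut_map_pS1`.
Keep the statements, names, namespace exactly (you may add imports).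
-/

set_option autoImplicit false

namespace Cfsg.Agent.Helper3.OLR

open Cfsg Cfsg.FusionSystem Cfsg.Agent.Helper25 Cfsg.Agent.Helper26

variable {Ω : Type*} [Group Ω]

/-- restriction to `T ≤ S` of an automorphism of `S` which, together with its inverse, maps `T`
into `T` -/
def olrpsc_res {S T : Subgroup Ω} (hTS : T ≤ S) (c : MulAut S)
    (hc : ∀ t : T, ((c ⟨(t : Ω), hTS t.2⟩ : S) : Ω) ∈ T)
    (hc' : ∀ t : T, ((c⁻¹ ⟨(t : Ω), hTS t.2⟩ : S) : Ω) ∈ T) : MulAut T where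
  toFun t := ⟨((c ⟨(t : Ω), hTS t.2⟩ : S) : Ω), hc t⟩
  invFun t := ⟨((c⁻¹ ⟨(t : Ω), hTS t.2⟩ : S) : Ω), hc' t⟩
  left_inv t := by
    apply Subtype.ext
    show ((c⁻¹ ⟨((c ⟨(t : Ω), hTS t.2⟩ : S) : Ω), _⟩ : S) : Ω) = (t : Ω)
    have h : (⟨((c ⟨(t : Ω), hTS t.2⟩ : S) : Ω), hTS (hc t)⟩ : S) = c ⟨(t : Ω), hTS t.2⟩ :=
      Subtype.ext rfl
    rw [h, MulAut.inv_apply_self]
  right_inv t := by
    apply Subtype.ext
    show ((c ⟨((c⁻¹ ⟨(t : Ω), hTS t.2⟩ : S) : Ω), _⟩ : S) : Ω) = (t : Ω)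
    have h : (⟨((c⁻¹ ⟨(t : Ω), hTS t.2⟩ : S) : Ω), hTS (hc' t)⟩ : S) = c⁻¹ ⟨(t : Ω), hTS t.2⟩ :=
      Subtype.ext rfl
    rw [h, MulAut.apply_inv_self]
  map_mul' x y := by
    apply Subtype.ext
    show ((c ⟨((x * y : T) : Ω), _⟩ : S) : Ω) =
      ((c ⟨(x : Ω), hTS x.2⟩ : S) : Ω) * ((c ⟨(y : Ω), hTS y.2⟩ : S) : Ω)
    have h : (⟨((x * y : T) : Ω), hTS (x * y).2⟩ : S) =
        ⟨(x : Ω), hTS x.2⟩ * ⟨(y : Ω), hTS y.2⟩ := Subtype.ext rfl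
    rw [h, map_mul]
    rfl

theorem aut_map_pS1 {Sh : Subgroup Ω} [Finite Sh] (p : ℕ) [Fact p.Prime] (hSh : IsPGroup p Sh)
    (Fh : FusionSystem Sh) (hFh : Fh.IsSaturated p) {T : Subgroup Ω} (E : FusionSystem T)
    (hE : E.IsNormalIn Fh p) {S : Subgroup Ω} (F : FusionSystem S) (hst : Stage p Fh E F)
    (ah : MulAut S) (hah : ah ∈ Fh.autGroup S) (s : S) (hs : (s : Ω) ∈ pS1 (Kp p F E) S) :
    ((ah s : S) : Ω) ∈ pS1 (Kp p F E) S := by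
  have hTS : T ≤ S := hst.T_le
  have hSSh : S ≤ Sh := hst.le
  have hT' : Fh.StronglyClosed T := hE.1.2.2.2.1
  have hahinv : ah⁻¹ ∈ Fh.autGroup S := (Fh.autGroup S).inv_mem hah
  have hc : ∀ t : T, ((ah ⟨(t : Ω), hTS t.2⟩ : S) : Ω) ∈ T := fun t =>
    aut_mem_of_stronglyClosed Fh hT' hSSh hah (y := ⟨(t : Ω), hTS t.2⟩) t.2
  have hc' : ∀ t : T, ((ah⁻¹ ⟨(t : Ω), hTS t.2⟩ : S) : Ω) ∈ T := fun t =>
    aut_mem_of_stronglyClosed Fh hT' hSSh hahinv (y := ⟨(t : Ω), hTS t.2⟩) t.2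
  obtain ⟨a, hadef⟩ : ∃ a : MulAut T, a = olrpsc_res hTS ah hc hc' := ⟨_, rfl⟩
  have hres : ∀ t : T, ((a t : T) : Ω) = ((ah ⟨(t : Ω), hTS t.2⟩ : S) : Ω) := by
    intro t; rw [hadef]; rfl
  have ha : a ∈ Fh.autGroup T := by
    rw [mem_autGroup_iff Fh (hTS.trans hSSh)]
    have heq : T.subtype.comp a.toMonoidHom =
        (S.subtype.comp ah.toMonoidHom).comp (Subgroup.inclusion hTS) := by
      ext t
      exact hres t
    rw [heq]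
    exact restrict_mem Fh hTS ((mem_autGroup_iff Fh hSSh ah).mp hah)
  have hnorm := conj_mem_autGroup_of_stage p hSh Fh hFh E hE F hst ah hah a hres
  obtain ⟨-, κ, hκ, hκs⟩ := hs
  refine ⟨(ah s).2, a * κ * a⁻¹, Kp_conj_mem p hSh Fh hFh E hE F hst a ha hnorm κ hκ, fun t => ?_⟩
  show ((a (κ (a.symm t)) : T) : Ω) = _
  rw [hres]
  have h1 : (⟨((κ (a.symm t) : T) : Ω), hTS (κ (a.symm t)).2⟩ : S) =
      s * ⟨((a.symm t : T) : Ω), hTS (a.symm t).2⟩ * s⁻¹ := Subtype.ext (hκs (a.symm t))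
  rw [h1, map_mul, map_mul, map_inv]
  have h2 : ((ah ⟨((a.symm t : T) : Ω), hTS (a.symm t).2⟩ : S) : Ω) = (t : Ω) := by
    rw [← hres, MulEquiv.apply_symm_apply]
  show ((ah s : S) : Ω) * ((ah ⟨((a.symm t : T) : Ω), hTS (a.symm t).2⟩ : S) : Ω) *
    ((ah s : S) : Ω)⁻¹ = _
  rw [h2]

theorem pS1_stronglyClosed_Fh {Sh : Subgroup Ω} [Finite Sh] (p : ℕ) [Fact p.Prime] (hSh : IsPGroup p Sh)
    (Fh : FusionSystem Sh) (hFh : Fh.IsSaturated p) {T : Subgroup Ω} (E : FusionSystem T)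
    (hE : E.IsNormalIn Fh p) {S : Subgroup Ω} (F : FusionSystem S) (hst : Stage p Fh E F) :
    Fh.StronglyClosed (pS1 (Kp p F E) S) := by
  have hfin : Finite S := finite_of_le_finite hst.le
  have hS : IsPGroup p S := hSh.to_le hst.le
  have hsc : F.StronglyClosed (pS1 (Kp p F E) S) :=
    Cfsg.Agent.Helper16.PPowNormal.stronglyClosed_of_hyp_le p hS F hst.sat (pS1_le _ _)
      (pS1_normal p hSh Fh hFh E hE F hst) (hyp_le_pS1 p hSh Fh hFh E hE F hst)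
  refine ⟨(pS1_le _ _).trans hst.le, fun R hR φ hφ x => ?_⟩
  obtain ⟨ah, hah, φ₀, hφ₀, hv⟩ := hst.inv.2.2.2 R (hR.trans (pS1_le _ _)) φ hφ
  have hx1 : φ₀ x ∈ pS1 (Kp p F E) S := hsc.2 R hR φ₀ hφ₀ x
  have hxS : φ₀ x ∈ S := pS1_le _ _ hx1
  rw [hv x hxS]
  exact aut_map_pS1 p hSh Fh hFh E hE F hst ah hah ⟨φ₀ x, hxS⟩ hx1

end Cfsg.Agent.Helper3.OLR
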