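import Mathlib
import Cfsg.Agent.Lib.OLR.OLRDefs
import Cfsg.Agent.Lib.OLR.OLRPS1
import Cfsg.Agent.Lib.OLR.OLRPKp
import Cfsg.Agent.Lib.OLR.OLRPSC
import Cfsg.Agent.Lib.Helper16.PPowNormal1
import Cfsg.Agent.Lib.Helper26.FusionRestrict

/-!
# OLR-PINVA (S5202, p-step): `O^p(Aut_F(P)) ≤ Aut_{invCore}(P)` where `invCore` is the `Aut_Fh(S₁)`-invariant core of `F₁`. (LONG)

RECIPE. Clone `Helper16.PPowNormal.pResidual_le_invCore_autGroup` (Lib/Helper16/PPowNormal1.lean) with `T := pS1 _ S`, the ambient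
`resSys Fh (pS1 _ S) hle` (only its `autGroup (pS1 _ S) = Fh.autGroup (pS1 _ S)` matters: `Helper16.PPowNormal.mem_autGroup_resSys`), `E := F₁`.
The ONLY change: in the original, `α ∈ Aut_F(T)` so `congr_mem_autGroup' F _ he` transports `Aut_F(P)` to `Aut_F(αP)`; here `α ∈ Aut_Fh(S₁)` is NOT a map of `F`,
and one uses instead that `F` is STRONGLY INVARIANT in `Fh`: `hSI := Helper25.strongInv_of_isInvariantIn hst.inv : StrongInv Fh F`, applied with
`Q := pS1 _ S ≤ S`, `ψ := (pS1 _ S).subtype.comp α.toMonoidHom ∈ Fh.Hom (pS1 _ S)`, `P ≤ Q`, `φ := P.subtype.comp a.toMonoidHom` for `a ∈ F.autGroup P`: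
it yields `χ ∈ F.Hom (αP)` with `χ (α x) = α (a x)`, i.e. `MulAut.congr (autRestr hP α) a ∈ F.autGroup (αP)` (this is `hmap`). Then `pResidual_transport`
exactly as in the original gives `MulAut.congr (autRestr hP α) ν ∈ pResidual p (F.autGroup (αP))`, which lies in `F₁.autGroup (αP)` by `hF₁i.2.2 _ (map_aut_le α P)`.
Keep the statement, name, namespace exactly (you may add imports).
-/

set_option autoImplicit false

namespace Cfsg.Agent.Helper3.OLR

open Cfsg Cfsg.FusionSystem Cfsg.Agent.Helper25 Cfsg.Agent.Helper26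

variable {Ω : Type*} [Group Ω]

/-- general form: `F` invariant in `Fh`, `F₁` of `p`-power index in `F` over `T₁ ≤ S`. -/
theorem olrpinva_aux {Sh : Subgroup Ω} (p : ℕ) (Fh : FusionSystem Sh) {S : Subgroup Ω}
    (F : FusionSystem S) (hinv : F.IsInvariantIn Fh) {T₁ : Subgroup Ω} (hT₁S : T₁ ≤ S)
    (hle : T₁ ≤ Sh) (F₁ : FusionSystem T₁) (hF₁i : F₁.HasPPowerIndexIn F p)
    {P : Subgroup Ω} (hP : P ≤ T₁) :
    (pResidual p ↥(F.autGroup P)).map (F.autGroup P).subtype ≤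
      (invCore (resSys Fh T₁ hle) F₁).autGroup P := by
  rintro _ ⟨ν, hν, rfl⟩
  show (ν : MulAut P) ∈ (invCore (resSys Fh T₁ hle) F₁).autGroup P
  rw [mem_autGroup_iff (invCore (resSys Fh T₁ hle) F₁) hP]
  refine ⟨(mem_autGroup_iff F₁ hP _).mp (hF₁i.2.2 P hP ⟨ν, hν, rfl⟩), ?_⟩
  intro α hα hP' hφS
  have hαFh : α ∈ Fh.autGroup T₁ :=
    (Cfsg.Agent.Helper16.PPowNormal.mem_autGroup_resSys Fh hle α).mp hα
  have hSI : StrongInv Fh F := strongInv_of_isInvariantIn hinv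
  have hψ : T₁.subtype.comp α.toMonoidHom ∈ Fh.Hom T₁ := (mem_autGroup_iff Fh hle α).mp hαFh
  have hPS : P ≤ S := hP.trans hT₁S
  have hαPS : (P.subgroupOf T₁).map (T₁.subtype.comp α.toMonoidHom) ≤ S :=
    (map_aut_le α P).trans hT₁S
  have hmap : ∀ a ∈ F.autGroup P, (MulAut.congr (autRestr hP α)).toMonoidHom a ∈
      F.autGroup ((P.subgroupOf T₁).map (T₁.subtype.comp α.toMonoidHom)) := by
    intro a ha
    have hφ : P.subtype.comp a.toMonoidHom ∈ F.Hom P := (mem_autGroup_iff F hPS a).mp ha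
    obtain ⟨χ, hχ, hχv⟩ := hSI P T₁ hP hT₁S (P.subtype.comp a.toMonoidHom) hφ
      (fun x => hP (a x).2) (T₁.subtype.comp α.toMonoidHom) hψ
    rw [mem_autGroup_iff F hαPS]
    have heq : ((P.subgroupOf T₁).map (T₁.subtype.comp α.toMonoidHom)).subtype.comp
        ((MulAut.congr (autRestr hP α)).toMonoidHom a).toMonoidHom = χ := by
      ext ⟨y, hy⟩
      obtain ⟨x, hx⟩ := (mem_map_aut_iff hP α).mp hy
      subst hx
      have e1 : (⟨((α ⟨x, hP x.2⟩ : T₁) : Ω), hy⟩ :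
          ↥((P.subgroupOf T₁).map (T₁.subtype.comp α.toMonoidHom))) = autRestr hP α x :=
        Subtype.ext rfl
      show (((autRestr hP α) (a ((autRestr hP α).symm ⟨_, hy⟩)) :
        ↥((P.subgroupOf T₁).map (T₁.subtype.comp α.toMonoidHom))) : Ω) = χ ⟨_, hy⟩
      rw [e1, MulEquiv.symm_apply_apply]
      exact (hχv x hy).symm
    rw [heq]
    exact hχ
  have hν' := pResidual_transport p (MulAut.congr (autRestr hP α)).toMonoidHom
    (MulAut.congr (autRestr hP α)).injective hmap hν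
  have h1 : MulAut.congr (autRestr hP α) (ν : MulAut P) ∈
      F₁.autGroup ((P.subgroupOf T₁).map (T₁.subtype.comp α.toMonoidHom)) :=
    hF₁i.2.2 _ (map_aut_le α P) ⟨_, hν', rfl⟩
  refine ⟨_, (mem_autGroup_iff F₁ (map_aut_le α P) _).mp h1, fun x => ?_⟩
  show (((autRestr hP α) ((ν : MulAut P) ((autRestr hP α).symm ⟨_, _⟩)) :
    ↥((P.subgroupOf T₁).map (T₁.subtype.comp α.toMonoidHom))) : Ω) = _
  have e : (⟨((α ⟨x, hP' x.2⟩ : T₁) : Ω), mem_map_aut hP' α x⟩ :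
      ↥((P.subgroupOf T₁).map (T₁.subtype.comp α.toMonoidHom))) = autRestr hP α x := Subtype.ext rfl
  rw [e, MulEquiv.symm_apply_apply]
  rfl

theorem pResidual_le_invCore_Fh {Sh : Subgroup Ω} [Finite Sh] (p : ℕ) [Fact p.Prime] (hSh : IsPGroup p Sh)
    (Fh : FusionSystem Sh) (hFh : Fh.IsSaturated p) {T : Subgroup Ω} (E : FusionSystem T)
    (hE : E.IsNormalIn Fh p) {S : Subgroup Ω} (F : FusionSystem S) (hst : Stage p Fh E F)
    (F₁ : FusionSystem (pS1 (Kp p F E) S)) (hF₁s : F₁.IsSaturated p)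
    (hF₁i : F₁.HasPPowerIndexIn F p)
    {P : Subgroup Ω} (hP : P ≤ pS1 (Kp p F E) S) :
    (pResidual p ↥(F.autGroup P)).map (F.autGroup P).subtype ≤
      (invCore (resSys Fh (pS1 (Kp p F E) S) ((pS1_le _ _).trans hst.le)) F₁).autGroup P :=
  olrpinva_aux p Fh F hst.inv (pS1_le _ _) ((pS1_le _ _).trans hst.le) F₁ hF₁i hP

end Cfsg.Agent.Helper3.OLR
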