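import Mathlib
import Cfsg.Agent.Lib.OLR.OLRDefs
import Cfsg.Agent.Lib.OLR.OLRPS1
import Cfsg.Agent.Lib.OLR.OLRPKp
import Cfsg.Agent.Lib.OLR.OLRPInvA
import Cfsg.Agent.Lib.Helper16.ResLim2
import Cfsg.Agent.S5120

/-!
# OLR-PINVB (S5202, p-step): `F₁` is invariant in `Fh`. (MEDIUM)

RECIPE. Unfold `IsInvariantIn` (4 clauses), `S₁ := pS1 (Kp p F E) S`, `hle : S₁ ≤ Sh := (pS1_le _ _).trans hst.le`.
(1) `fun P φ h => hst.inv.1 P (hF₁i.1 P h)`. (2) `pS1_stronglyClosed_Fh …`.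
(3) conj clause: `hsub := Helper16.ResLim.hom_subset_of_pResidual p hS₁p F F₁ hF₁s hF₁i.1 (pS1_le _ _) (invCore (resSys Fh S₁ hle) F₁) le_rfl (fun P hP => pResidual_le_invCore_Fh … hP)`;
for `φ ∈ F₁.Hom P`, `α ∈ Fh.autGroup S₁`: `(hsub P hφ).2 α ((Helper16.PPowNormal.mem_autGroup_resSys Fh hle α).mpr hα) hPT _` gives the required `χ` (exactly as in
`Helper16.PPowNormal.autInv_of_pPowerIndex` + the first bullet of `Cfsg/Agent/S5120.lean`).
(4) Frattini: `φ ∈ Fh.Hom P`, `P ≤ S₁`: `hst.inv.2.2.2 P (hP.trans (pS1_le _ _)) φ hφ` gives `φ = ah ∘ φ₀`, `ah ∈ Fh.autGroup S`, `φ₀ ∈ F.Hom P`, image of `φ₀` in `S₁`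
(strongly closed in `F`: `Helper16.PPowNormal.stronglyClosed_of_hyp_le`). `F₁` is normal in `F` (`Cfsg.Agent.S5120.result p hS F hst.sat S₁ (pS1_le _ _) (pS1_normal …) (hyp_le_pS1 …) F₁ hF₁s hF₁i`),
its Frattini clause gives `φ₀ = b ∘ φ₁` with `b ∈ F.autGroup S₁`, `φ₁ ∈ F₁.Hom P`. Put `α := (ah restricted to S₁) * b ∈ Fh.autGroup S₁`
(`ah` maps `S₁` onto `S₁`: `aut_map_pS1` + injectivity/cardinality; build the restriction as a `MulAut ↥S₁` via `MulEquiv.ofBijective`).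
Keep the statement, name, namespace exactly (you may add imports).
-/

set_option autoImplicit false

namespace Cfsg.Agent.Helper3.OLR

open Cfsg Cfsg.FusionSystem Cfsg.Agent.Helper25 Cfsg.Agent.Helper26

variable {Ω : Type*} [Group Ω]

theorem F1_isInvariantIn_Fh {Sh : Subgroup Ω} [Finite Sh] (p : ℕ) [Fact p.Prime] (hSh : IsPGroup p Sh)
    (Fh : FusionSystem Sh) (hFh : Fh.IsSaturated p) {T : Subgroup Ω} (E : FusionSystem T)
    (hE : E.IsNormalIn Fh p) {S : Subgroup Ω} (F : FusionSystem S) (hst : Stage p Fh E F)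
    (F₁ : FusionSystem (pS1 (Kp p F E) S)) (hF₁s : F₁.IsSaturated p)
    (hF₁i : F₁.HasPPowerIndexIn F p) :
    F₁.IsInvariantIn Fh := by
  have hS₁S : pS1 (Kp p F E) S ≤ S := pS1_le _ _
  have hle : pS1 (Kp p F E) S ≤ Sh := hS₁S.trans hst.le
  have hSfin : Finite S := finite_of_le_finite hst.le
  have hSp : IsPGroup p S := hSh.to_le hst.le
  have hS₁fin : Finite ↥(pS1 (Kp p F E) S) := finite_of_le_finite hle
  have hS₁p : IsPGroup p ↥(pS1 (Kp p F E) S) := hSh.to_le hle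
  have hsc : Fh.StronglyClosed (pS1 (Kp p F E) S) :=
    pS1_stronglyClosed_Fh p hSh Fh hFh E hE F hst
  refine ⟨fun P φ h => hst.inv.1 P (hF₁i.1 P h), hsc, ?_, ?_⟩
  · -- conj clause
    have hsub := Cfsg.Agent.Helper16.ResLim.hom_subset_of_pResidual p hS₁p F F₁ hF₁s hF₁i.1 hS₁S
      (invCore (resSys Fh (pS1 (Kp p F E) S) hle) F₁) le_rfl
      (fun P hP => pResidual_le_invCore_Fh p hSh Fh hFh E hE F hst F₁ hF₁s hF₁i hP)
    intro P hPT φ hφ α hα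
    have hφI : InvPr (resSys Fh (pS1 (Kp p F E) S) hle) F₁ P φ := (hsub P hφ).2
    obtain ⟨χ, hχ, hχv⟩ := hφI α
      ((Cfsg.Agent.Helper16.PPowNormal.mem_autGroup_resSys Fh hle α).mpr hα) hPT
      (F₁.le_of_mem hφ).2
    exact ⟨χ, hχ, fun x _ _ => hχv x⟩
  · -- Frattini clause
    intro P hP φ hφ
    have hPS : P ≤ S := hP.trans hS₁S
    obtain ⟨ah, hah, φ₀, hφ₀, hφφ₀⟩ := hst.inv.2.2.2 P hPS φ hφ
    have hnorm : ((pS1 (Kp p F E) S).subgroupOf S).Normal :=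
      pS1_normal p hSh Fh hFh E hE F hst
    have hhyp : F.hyperfocalSubgroup p ≤ pS1 (Kp p F E) S :=
      hyp_le_pS1 p hSh Fh hFh E hE F hst
    have hscF : F.StronglyClosed (pS1 (Kp p F E) S) :=
      Cfsg.Agent.Helper16.PPowNormal.stronglyClosed_of_hyp_le p hSp F hst.sat hS₁S hnorm hhyp
    have hF₁n : F₁.IsNormalIn F p :=
      Cfsg.Agent.S5120.result p hSp F hst.sat (pS1 (Kp p F E) S) hS₁S hnorm hhyp F₁ hF₁s hF₁i
    obtain ⟨b, hb, φ₁, hφ₁, hφ₀φ₁⟩ := hF₁n.1.2.2.2.2.2 P hP φ₀ hφ₀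
    -- the restriction of `ah` to `S₁`
    have hA : ∀ α ∈ Fh.autGroup S, ∀ x : S, (x : Ω) ∈ pS1 (Kp p F E) S →
        ((α x : S) : Ω) ∈ pS1 (Kp p F E) S :=
      fun α hα x hx => aut_map_pS1 p hSh Fh hFh E hE F hst α hα x hx
    let ar : MulAut ↥(pS1 (Kp p F E) S) := resHom hS₁S (Fh.autGroup S) hA ⟨ah, hah⟩
    have har : ar ∈ Fh.autGroup (pS1 (Kp p F E) S) := by
      rw [mem_autGroup_iff Fh hle]
      have e : (pS1 (Kp p F E) S).subtype.comp ar.toMonoidHom =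
          (S.subtype.comp ah.toMonoidHom).comp (Subgroup.inclusion hS₁S) := by
        ext x; rfl
      rw [e]
      exact restrict_mem Fh hS₁S ((mem_autGroup_iff Fh hst.le ah).mp hah)
    have hbh : b ∈ Fh.autGroup (pS1 (Kp p F E) S) := by
      rw [mem_autGroup_iff Fh hle]
      exact hst.inv.1 _ ((mem_autGroup_iff F hS₁S b).mp hb)
    refine ⟨ar * b, Subgroup.mul_mem _ har hbh, φ₁, hφ₁, fun x hx => ?_⟩
    have h1 := hφ₀φ₁ x hx
    have hx0 : φ₀ x ∈ S := (F.le_of_mem hφ₀).2 x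
    have h2 := hφφ₀ x hx0
    rw [h2]
    show ((ah ⟨φ₀ x, hx0⟩ : S) : Ω) = ((ah (Subgroup.inclusion hS₁S (b ⟨φ₁ x, hx⟩)) : S) : Ω)
    congr 2
    exact Subtype.ext h1

end Cfsg.Agent.Helper3.OLR
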