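import Mathlib
import Cfsg.Agent.Lib.OLR.OLRDefs
import Cfsg.Agent.Lib.OLR.OLRLim
import Cfsg.Agent.Lib.OLR.OLRPS1
import Cfsg.Agent.Lib.OLR.OLRPKp
import Cfsg.Agent.Lib.OLR.OLRPS1A
import Cfsg.Agent.Lib.OLR.OLRPS1B
import Cfsg.Agent.Lib.OLR.OLRPS1C
import Cfsg.Agent.Lib.OLR.OLRPAut
import Cfsg.Agent.Lib.OLR.OLRPENor
import Cfsg.Agent.Lib.OLR.OLRPInvB
import Cfsg.Agent.Lib.Helper3.PPowMain
import Cfsg.Agent.S5120
import Cfsg.Agent.S5199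

/-!
# S5202, p-step: assembly (helper3).
-/

set_option autoImplicit false

namespace Cfsg.Agent.Helper3.OLR

open Cfsg Cfsg.FusionSystem Cfsg.Agent.Helper25 Cfsg.Agent.Helper26

variable {Ω : Type*} [Group Ω]

/-- The step of `p`-power index: `K = Aut_E(T) · O^p(Aut_F(T))`. -/
theorem p_step {Sh : Subgroup Ω} [Finite Sh] (p : ℕ) [Fact p.Prime] (hSh : IsPGroup p Sh)
    (Fh : FusionSystem Sh) (hFh : Fh.IsSaturated p) {T : Subgroup Ω} (E : FusionSystem T)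
    (hE : E.IsNormalIn Fh p) {S : Subgroup Ω} (F : FusionSystem S) (hst : Stage p Fh E F)
    (_hK : E.autGroup T ⊔ autOp p F T ≠ F.autGroup T) :
    ∃ (S₁ : Subgroup Ω) (F₁ : FusionSystem S₁), Stage p Fh E F₁ ∧
      F₁.autGroup T = E.autGroup T ⊔ autOp p F T ∧ SameLim p F F₁ := by
  have hSSh := hst.le
  haveI : Finite S := finite_of_le_finite hSSh
  have hS : IsPGroup p S := hSh.to_le hSSh
  have hS₁S : pS1 (Kp p F E) S ≤ S := pS1_le _ _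
  have hhyp := hyp_le_pS1 p hSh Fh hFh E hE F hst
  have hnorm := pS1_normal p hSh Fh hFh E hE F hst
  have hTS₁ := T_le_pS1 p hSh Fh hFh E hE F hst
  obtain ⟨F₁, ⟨hF₁s, hF₁i⟩, -⟩ := Cfsg.Agent.Helper3.PPow.exists_unique_pPowerIndex p hS F hst.sat
    (pS1 (Kp p F E) S) hS₁S hhyp
  have hF₁n : F₁.IsNormalIn F p :=
    Cfsg.Agent.S5120.result p hS F hst.sat _ hS₁S hnorm hhyp F₁ hF₁s hF₁i
  have hEF₁ : E.IsSubsystemOf F₁ :=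
    Cfsg.Agent.S5199.result p hS F hst.sat E hst.nor F₁ hF₁n (sup_le hTS₁ hhyp) hF₁i
  refine ⟨_, F₁, ⟨hF₁s, F1_isInvariantIn_Fh p hSh Fh hFh E hE F hst F₁ hF₁s hF₁i,
    E_isNormalIn_F1 p hSh Fh hFh E hE F hst F₁ hF₁s hF₁i hEF₁ hTS₁,
    cen_le_pS1 p hSh Fh hFh E hE F hst⟩,
    autGroup_eq_Kp p hSh Fh hFh E hE F hst F₁ hF₁s hF₁i hEF₁ hTS₁, ?_⟩
  exact sameLim_pPower p hS F hst.sat F₁ hF₁s hF₁n.1.2.2.2.1 hF₁i

end Cfsg.Agent.Helper3.OLR
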