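import Mathlib
import Cfsg.Agent.Lib.OLR.OLRDefs
import Cfsg.Agent.Lib.Helper25.FusionInvariant

/-!
# OLR-SELF (S5202): a fusion system is invariant in itself; the first stage.

RECIPE. `isInvariantIn_self`: unfold `IsInvariantIn`: (1) `fun _ _ h => h`; (2) `S` is strongly closed:
`⟨le_rfl, fun _ _ _ hφ x => (F.le_of_mem hφ).2 x⟩`; (3) conjugation by `α ∈ Aut_F(S)`: for `φ ∈ F.Hom P`, the transported map
`χ := α ∘ φ ∘ α⁻¹` on `α(P)` is a composite of maps of `F` (`(mem_autGroup_iff F le_rfl α).mp hα`, `F.inv_mem`, `F.comp_mem`,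
`restrict_mem`); this is the trivial case of `Helper25.strongInv` machinery: look for `AutInv F F`/`autInv_self` in
`Lib/Helper25/FusionInvariant.lean`, `Lib/Helper25/FusionPrimeIndex.lean` (`invPr`-lemmas) — `PIX.F0_autInv`'s proof style;
(4) Frattini: `α := 1`, `φ₀ := φ`.
`stage_self`: `⟨hF, isInvariantIn_self F, hE, inf_le_left⟩` (`centralizerIn Sh T = Sh ⊓ _`).
Keep the statements, names, namespace exactly (you may add imports).
-/

set_option autoImplicit false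

namespace Cfsg.Agent.Helper3.OLR

open Cfsg Cfsg.FusionSystem Cfsg.Agent.Helper25

variable {Ω : Type*} [Group Ω]

theorem isInvariantIn_self {S : Subgroup Ω} (F : FusionSystem S) : F.IsInvariantIn F := by
  refine ⟨fun _ _ h => h, ⟨le_rfl, fun _ _ _ hφ x => (F.le_of_mem hφ).2 x⟩, ?_, ?_⟩
  · intro R hR ψ hψ α hα
    have hψS := (F.le_of_mem hψ).2
    have hαi : (α⁻¹ : MulAut S) ∈ F.autGroup S := Subgroup.inv_mem _ hα
    have hθ : (S.subtype.comp (α⁻¹ : MulAut S).toMonoidHom).comp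
        (Subgroup.inclusion (map_aut_le α R)) ∈
        F.Hom ((R.subgroupOf S).map (S.subtype.comp α.toMonoidHom)) :=
      restrict_mem F (map_aut_le α R) ((mem_autGroup_iff F le_rfl _).mp hαi)
    have hθR : ∀ y : ↥((R.subgroupOf S).map (S.subtype.comp α.toMonoidHom)),
        ((S.subtype.comp (α⁻¹ : MulAut S).toMonoidHom).comp
          (Subgroup.inclusion (map_aut_le α R))) y ∈ R := by
      rintro ⟨y, hy⟩
      obtain ⟨x, rfl⟩ := (mem_map_aut_iff hR α).mp hy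
      show (((α⁻¹ : MulAut S) ⟨((α ⟨x, hR x.2⟩ : S) : Ω), _⟩ : S) : Ω) ∈ R
      have e : (⟨((α ⟨x, hR x.2⟩ : S) : Ω), map_aut_le α R (mem_map_aut hR α x)⟩ : S) =
          α ⟨x, hR x.2⟩ := Subtype.ext rfl
      rw [e, MulAut.inv_apply_self]
      exact x.2
    have h1 := F.comp_mem hθ hψ hθR
    have h1S : ∀ y : ↥((R.subgroupOf S).map (S.subtype.comp α.toMonoidHom)),
        (ψ.comp (((S.subtype.comp (α⁻¹ : MulAut S).toMonoidHom).comp
          (Subgroup.inclusion (map_aut_le α R))).codRestrict R hθR)) y ∈ S := fun y => hψS _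
    have h2 := F.comp_mem h1 ((mem_autGroup_iff F le_rfl α).mp hα) h1S
    refine ⟨_, h2, ?_⟩
    intro x hφx hαx
    show ((α ⟨ψ ⟨(((α⁻¹ : MulAut S) ⟨((α ⟨x, hR x.2⟩ : S) : Ω), _⟩ : S) : Ω), _⟩, _⟩ : S) : Ω) = _
    have e : (⟨((α ⟨x, hR x.2⟩ : S) : Ω), map_aut_le α R (mem_map_aut hR α x)⟩ : S) =
        α ⟨x, hR x.2⟩ := Subtype.ext rfl
    have e2 : (⟨(((α⁻¹ : MulAut S) ⟨((α ⟨x, hR x.2⟩ : S) : Ω),
        map_aut_le α R (mem_map_aut hR α x)⟩ : S) : Ω),
        hθR ⟨((α ⟨x, hR x.2⟩ : S) : Ω), mem_map_aut hR α x⟩⟩ : R) = x := by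
      apply Subtype.ext
      show (((α⁻¹ : MulAut S) ⟨((α ⟨x, hR x.2⟩ : S) : Ω), _⟩ : S) : Ω) = (x : Ω)
      rw [e, MulAut.inv_apply_self]
    congr 3
    exact congrArg ψ e2
  · intro P hP φ hφ
    refine ⟨1, Subgroup.one_mem _, φ, hφ, fun x hx => rfl⟩

theorem stage_self (p : ℕ) {Sh : Subgroup Ω} (Fh : FusionSystem Sh) (hFh : Fh.IsSaturated p)
    {T : Subgroup Ω} (E : FusionSystem T) (hE : E.IsNormalIn Fh p) : Stage p Fh E Fh :=
  ⟨hFh, isInvariantIn_self Fh, hE, inf_le_left⟩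

end Cfsg.Agent.Helper3.OLR
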