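import Mathlib
import Cfsg.Agent.Lib.OLR.OLRDefs
import Cfsg.Agent.Lib.OLR.OLRLim
import Cfsg.Agent.Lib.PIY.PIYFinal

/-!
# OLR-PP (S5202, sub-farm 2, owner helper21): the step of index prime to `p` - shared definitions.

`PPData p Fh E F χ`: the hypotheses of `OLRSteps.pPrime_step` together with a homomorphism
`χ : Aut_F(T) →* Δ` onto a `p'`-group whose kernel is EXACTLY `K = Aut_E(T) ⊔ O^{p'}(Aut_F(T))`
(in the final assembly `Δ = Aut_F(T) ⧸ K` and `χ` is the quotient map).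

`d.F1 = PIX.F0 F p (famHH F E) (Hchi F hTS χ)` is the canonical subsystem of the step. All the facts
about it that come for free from `Lib/PIX` + `Lib/PIY` (S5243) are collected in `F1_facts`, `F1_good`,
`F1_autS_le`, `E_le_F1`, `extChi` below (PROVED here).
-/

set_option autoImplicit false

namespace Cfsg.Agent.Helper3.OLR

open Cfsg Cfsg.FusionSystem Cfsg.Agent.Helper25 Cfsg.Agent.Helper26 Cfsg.Agent.Helper3.PIX
  Cfsg.Agent.Helper22.PIY

variable {Ω : Type*} [Group Ω]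

/-- The data of the step of index prime to `p`. -/
structure PPData (p : ℕ) {Sh : Subgroup Ω} (Fh : FusionSystem Sh) {T : Subgroup Ω}
    (E : FusionSystem T) {S : Subgroup Ω} (F : FusionSystem S) {Δ : Type*} [Group Δ]
    (χ : ↥(F.autGroup T) →* Δ) : Prop where
  hSh : IsPGroup p Sh
  hFh : Fh.IsSaturated p
  hE : E.IsNormalIn Fh p
  hst : Stage p Fh E F
  hΔ : (Nat.card Δ).Coprime p
  hker : ∀ a : ↥(F.autGroup T), χ a = 1 ↔ (a : MulAut T) ∈ E.autGroup T ⊔ OpPrime F p T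

namespace PPData

variable {p : ℕ} {Sh : Subgroup Ω} {Fh : FusionSystem Sh} {T : Subgroup Ω} {E : FusionSystem T}
  {S : Subgroup Ω} {F : FusionSystem S} {Δ : Type*} [Group Δ] {χ : ↥(F.autGroup T) →* Δ}

theorem hTS (d : PPData p Fh E F χ) : T ≤ S := d.hst.T_le
theorem hSSh (d : PPData p Fh E F χ) : S ≤ Sh := d.hst.le
theorem hTSh (d : PPData p Fh E F χ) : T ≤ Sh := d.hTS.trans d.hSSh
theorem hS (d : PPData p Fh E F χ) : IsPGroup p S := d.hSh.to_le d.hSSh
theorem hF (d : PPData p Fh E F χ) : F.IsSaturated p := d.hst.sat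
theorem hEF (d : PPData p Fh E F χ) : E.IsNormalIn F p := d.hst.nor
theorem hTF (d : PPData p Fh E F χ) : F.StronglyClosed T := d.hst.nor.1.2.2.2.1
theorem hTFh (d : PPData p Fh E F χ) : Fh.StronglyClosed T := d.hE.1.2.2.2.1
theorem hSFh (d : PPData p Fh E F χ) : Fh.StronglyClosed S := d.hst.inv.2.1
theorem hFFh (d : PPData p Fh E F χ) : F.IsSubsystemOf Fh := d.hst.inv.1

/-- the `Setup` of `Lib/PIY` -/
theorem setup (d : PPData p Fh E F χ) : Setup p F E χ :=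
  ⟨d.hS, d.hF, d.hTS, d.hEF, d.hΔ, fun a ha =>
    MonoidHom.mem_ker.mpr ((d.hker a).mpr (le_sup_left (a := E.autGroup T)
      (Subgroup.mem_subgroupOf.mp ha)))⟩

/-- The canonical subsystem of index prime to `p` of the step. -/
def F1 (d : PPData p Fh E F χ) : FusionSystem S := F0 F p (famHH F E) (Hchi F d.hTS χ)

theorem famHyp (d : PPData p Fh E F χ) [Finite S] [Fact p.Prime] :
    FamHyp F p (famHH F E) (Hchi F d.hTS χ) :=
  Cfsg.Agent.Helper3.PIX.famHyp p d.hS F d.hF d.hTS E d.hEF χ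

theorem F1_facts (d : PPData p Fh E F χ) [Finite S] [Fact p.Prime] :
    d.F1.IsNormalIn F p ∧ d.F1.IsSaturated p ∧ d.F1.HasPrimeToPIndexIn F p ∧ FratS F d.F1 ∧
      AutInv F d.F1 ∧ Hchi F d.hTS χ ≤ d.F1.autGroup S ∧
      ∀ D : FusionSystem S, AdmH F p (famHH F E) (Hchi F d.hTS χ) D → d.F1.IsSubsystemOf D := by
  obtain ⟨h1, h2, h3, h4, h5, h6, -, h8⟩ := F0_main p d.hS F d.hF d.famHyp
  exact ⟨h1, h2, h3, h4, h5, h6, h8⟩

theorem F1_le (d : PPData p Fh E F χ) : d.F1.IsSubsystemOf F := F0_le F p _ _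

theorem F1_admH (d : PPData p Fh E F χ) [Finite S] [Fact p.Prime] :
    AdmH F p (famHH F E) (Hchi F d.hTS χ) d.F1 :=
  admH_F0 F p _ (fun _ hP => hP.1.1) (hchi_le_aut F d.hTS χ)

theorem F1_le_Dchi (d : PPData p Fh E F χ) [Finite S] [Fact p.Prime] [Finite Δ] :
    d.F1.IsSubsystemOf (Dchi d.setup) :=
  d.F1_facts.2.2.2.2.2.2 _ (admH_Dchi d.setup)

/-- every map of `F1` is `Good` -/
theorem F1_good (d : PPData p Fh E F χ) [Finite S] [Fact p.Prime] [Finite Δ] (Q : Subgroup Ω)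
    (φ : Q →* Ω) (h : φ ∈ d.F1.Hom Q) : Good F E χ Q φ :=
  (d.F1_le_Dchi Q h).2

theorem F1_autS_le (d : PPData p Fh E F χ) [Finite S] [Fact p.Prime] [Finite Δ] :
    d.F1.autGroup S ≤ Hchi F d.hTS χ := by
  intro α hα
  apply (autGroup_Dchi_top d.setup).le
  rw [mem_autGroup_iff _ le_rfl] at hα ⊢
  exact d.F1_le_Dchi S hα

theorem extChi (d : PPData p Fh E F χ) [Finite S] [Fact p.Prime] [Finite Δ] : ExtChi F E χ :=
  extChi_of_normal p d.hS F d.hTS E d.hEF d.hΔ χ d.setup.hker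

theorem E_le_F1 (d : PPData p Fh E F χ) [Finite S] [Fact p.Prime] [Finite Δ] :
    E.IsSubsystemOf d.F1 :=
  E_le_F0 p d.hS F d.hF d.hTS E d.hEF χ d.famHyp d.F1_good d.extChi

theorem sameLim_F1 (d : PPData p Fh E F χ) [Finite S] [Fact p.Prime] : SameLim p F d.F1 :=
  sameLim_pPrime p d.hS F d.F1 d.hF d.F1_facts.2.1 d.F1_facts.2.2.1

end PPData

end Cfsg.Agent.Helper3.OLR
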