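import Mathlib
import Cfsg.Agent.Lib.OLR.OLRPPDefs

/-!
# OLRPP-AUT (S5202): `Aut_{F1}(T) = K = Aut_E(T) ⊔ O^{p'}(Aut_F(T))`.

`le_autGroup_F1` is PROVED below. PIECE = `autGroup_F1_le`.
RECIPE for `autGroup_F1_le`. Let `α ∈ d.F1.autGroup T`; `mem_autGroup_iff d.F1 d.hTS` gives `T.subtype.comp α.toMonoidHom ∈ d.F1.Hom T`;
`d.F1_good T _ this` gives `a : ↥(F.autGroup T)`, `χ a = 1`, `φ₀ ∈ E.Hom (T ⊓ T)` and
`hx : ∀ x : ↥(T ⊓ T), (α ⟨x, x.2.1⟩ : Ω) = (a ⟨φ₀ x, _⟩ : Ω)`. Put `e₀ := (a : MulAut T)⁻¹ * α`. Then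
`T.subtype.comp e₀.toMonoidHom = φ₀.comp (Subgroup.inclusion (le_inf le_rfl le_rfl))` (`MonoidHom.ext`; use `hx ⟨x, ⟨x.2, x.2⟩⟩`
and `MulAut.inv_apply_self`), a map of `E` by `restrict_mem E _ hφ₀`; so `e₀ ∈ E.autGroup T` (`mem_autGroup_iff E le_rfl`).
`(a : MulAut T) ∈ K` by `(d.hker a).mp`. Finally `α = a * e₀` (`mul_inv_cancel_left`) `∈ K` (`mul_mem`, `le_sup_left`).
Keep the statements, names, namespace exactly (you may add imports). Aux names: prefix `olrppaut_`.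
-/

set_option autoImplicit false

namespace Cfsg.Agent.Helper3.OLR

open Cfsg Cfsg.FusionSystem Cfsg.Agent.Helper25 Cfsg.Agent.Helper26 Cfsg.Agent.Helper3.PIX
  Cfsg.Agent.Helper22.PIY

variable {Ω : Type*} [Group Ω] {p : ℕ} {Sh : Subgroup Ω} {Fh : FusionSystem Sh} {T : Subgroup Ω}
  {E : FusionSystem T} {S : Subgroup Ω} {F : FusionSystem S} {Δ : Type*} [Group Δ]
  {χ : ↥(F.autGroup T) →* Δ}

theorem le_autGroup_F1 (d : PPData p Fh E F χ) [Finite S] [Fact p.Prime] [Finite Δ] :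
    E.autGroup T ⊔ OpPrime F p T ≤ d.F1.autGroup T := by
  apply sup_le
  · intro α hα
    rw [mem_autGroup_iff d.F1 d.hTS]
    exact d.E_le_F1 T ((mem_autGroup_iff E le_rfl α).mp hα)
  · exact d.F1_facts.2.2.1.2 T d.hTS

theorem autGroup_F1_le (d : PPData p Fh E F χ) [Finite S] [Fact p.Prime] [Finite Δ] :
    d.F1.autGroup T ≤ E.autGroup T ⊔ OpPrime F p T := by
  intro α hα
  have hα' : T.subtype.comp α.toMonoidHom ∈ d.F1.Hom T := (mem_autGroup_iff d.F1 d.hTS α).mp hα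
  obtain ⟨a, ha1, φ₀, hφ₀, hx⟩ := d.F1_good T _ hα'
  have haK : (a : MulAut T) ∈ E.autGroup T ⊔ OpPrime F p T := (d.hker a).mp ha1
  have hle : T ≤ T ⊓ T := le_inf le_rfl le_rfl
  have he₀ : (a : MulAut T)⁻¹ * α ∈ E.autGroup T := by
    rw [mem_autGroup_iff E le_rfl]
    have e : T.subtype.comp ((a : MulAut T)⁻¹ * α).toMonoidHom =
        φ₀.comp (Subgroup.inclusion hle) := by
      ext x
      have h1 := hx ⟨(x : Ω), ⟨x.2, x.2⟩⟩
      have h2 : α x = (a : MulAut T) ⟨φ₀ ⟨(x : Ω), ⟨x.2, x.2⟩⟩,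
          (E.le_of_mem hφ₀).2 ⟨(x : Ω), ⟨x.2, x.2⟩⟩⟩ := Subtype.ext h1
      show ((((a : MulAut T)⁻¹) (α x) : T) : Ω) = φ₀ ⟨(x : Ω), hle x.2⟩
      rw [h2, MulAut.inv_apply_self]
    rw [e]
    exact restrict_mem E hle hφ₀
  have hαe : α = (a : MulAut T) * ((a : MulAut T)⁻¹ * α) := (mul_inv_cancel_left _ _).symm
  rw [hαe]
  exact Subgroup.mul_mem _ haK (Subgroup.mem_sup_left he₀)

theorem autGroup_F1_eq (d : PPData p Fh E F χ) [Finite S] [Fact p.Prime] [Finite Δ] :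
    d.F1.autGroup T = E.autGroup T ⊔ OpPrime F p T :=
  le_antisymm (autGroup_F1_le d) (le_autGroup_F1 d)

end Cfsg.Agent.Helper3.OLR
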