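import Mathlib
import Cfsg.Agent.Lib.Helper25.FusionPrimeIndex2

/-!
# OLRPP-GRP (S5202): the group theory of the quotient `Aut_F(T) ⧸ K`.

TWO PIECES in this file (take both or one; say which on the board).

OLRPP-GRPN `Kf_normal`. RECIPE. `Subgroup.Normal` constructor: given `k ∈ K.subgroupOf Γ` (`Subgroup.mem_subgroupOf`: `(k : MulAut T) ∈ K`) and `a : ↥Γ`, show
`((a * k * a⁻¹ : ↥Γ) : MulAut T) = a.1 * k.1 * a.1⁻¹ ∈ K`. Let `c := (MulAut.conj (a : MulAut T)).toMonoidHom` (`MulAut.conj_apply`); it suffices that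
`K.map c ≤ K`; `Subgroup.map_sup`, and `Γ0.map c ≤ Γ0` by `hn a.1 a.2`, `(OpPrime F p T).map c ≤ OpPrime F p T` by `OpPrime_conj_mem F p a.2`
(`Lib/Helper25/FusionPrimeIndex2.lean`).

OLRPP-GRPC `card_quot_coprime`. RECIPE. Pure Mathlib. Let `P : Sylow p G` (exists: `default`/`Sylow.nonempty`). Every element of `P` has `p`-power order
(`IsPGroup.iff_orderOf.mp P.isPGroup'` + `Subgroup.orderOf_coe`), so `P ≤ N` by `h`. Hence `N.index ∣ (P : Subgroup G).index`
(`Subgroup.index_dvd_of_le`), `Nat.card (G ⧸ N) = N.index` (`Subgroup.index_eq_card`/`Subgroup.index` def), and `¬ p ∣ (P : Subgroup G).index`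
(`Sylow.not_dvd_index` / `Sylow.not_dvd_index'`, needs finite index: automatic for finite `G`). Conclude with
`Nat.Coprime.symm ((Nat.Prime.coprime_iff_not_dvd Fact.out).mpr _)` and `Nat.Coprime.coprime_dvd_left`.
Keep the statements, names, namespace exactly (you may add imports). Aux names: prefix `olrppgrp_`.
-/

set_option autoImplicit false

namespace Cfsg.Agent.Helper3.OLR

open Cfsg Cfsg.FusionSystem Cfsg.Agent.Helper25

variable {Ω : Type*} [Group Ω]

theorem Kf_normal {S T : Subgroup Ω} (F : FusionSystem S) (p : ℕ) (Γ0 : Subgroup (MulAut T))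
    (hn : ∀ α ∈ F.autGroup T, ∀ γ ∈ Γ0, α * γ * α⁻¹ ∈ Γ0) :
    ((Γ0 ⊔ OpPrime F p T).subgroupOf (F.autGroup T)).Normal := by
  constructor
  intro k hk a
  rw [Subgroup.mem_subgroupOf] at hk ⊢
  have hmap : (Γ0 ⊔ OpPrime F p T).map (MulAut.conj (a : MulAut T)).toMonoidHom ≤
      Γ0 ⊔ OpPrime F p T := by
    rw [Subgroup.map_sup]
    refine sup_le ?_ ?_
    · rintro _ ⟨γ, hγ, rfl⟩
      exact Subgroup.mem_sup_left (hn a.1 a.2 γ hγ)
    · rintro _ ⟨γ, hγ, rfl⟩
      exact Subgroup.mem_sup_right (OpPrime_conj_mem F p a.2 hγ)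
  exact hmap ⟨k.1, hk, rfl⟩

theorem card_quot_coprime {G : Type*} [Group G] [Finite G] (p : ℕ) [Fact p.Prime]
    (N : Subgroup G) [N.Normal] (h : ∀ g : G, (∃ k : ℕ, orderOf g = p ^ k) → g ∈ N) :
    (Nat.card (G ⧸ N)).Coprime p := by
  obtain ⟨P⟩ : Nonempty (Sylow p G) := inferInstance
  have hPN : (P : Subgroup G) ≤ N := by
    intro g hg
    apply h g
    obtain ⟨k, hk⟩ := IsPGroup.iff_orderOf.mp P.isPGroup' ⟨g, hg⟩
    refine ⟨k, ?_⟩
    rw [← hk, Subgroup.orderOf_mk]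
  have hdvd : N.index ∣ (P : Subgroup G).index := Subgroup.index_dvd_of_le hPN
  have hnd : ¬ p ∣ (P : Subgroup G).index := Sylow.not_dvd_index P
  have hcop : ((P : Subgroup G).index).Coprime p :=
    Nat.Coprime.symm ((Nat.Prime.coprime_iff_not_dvd Fact.out).mpr hnd)
  have : Nat.card (G ⧸ N) = N.index := (Subgroup.index_eq_card N).symm
  rw [this]
  exact Nat.Coprime.coprime_dvd_left hdvd hcop

end Cfsg.Agent.Helper3.OLR
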