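import Mathlib
import Cfsg.Agent.Lib.PIX.PIXInv

/-!
# OLR-PP (S5202), generic part: invariance of `PIX.F0 F p HH Hg` under a LARGER group of automorphisms of `S`.

`G` is any fusion system over `S` (in the application `G = resSys Fh S _`, so `Aut_G(S) = Aut_Fh(S)`), whose
automorphisms of `S` normalize `F`, the family `HH` and the subgroup `Hg` (`GInv`). Then
`invCore G (F0 F p HH Hg)` (the maps of `F0` all of whose `Aut_G(S)`-conjugates lie in `F0`) is `AdmH`, hence
equals `F0`: `F0` is `Aut_G(S)`-invariant. This is the verbatim generalisation of `PIX.admH_invCore` /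
`PIX.F0_autInv` (file `Lib/PIX/PIXInv.lean`), where `G = F`.
-/

set_option autoImplicit false

namespace Cfsg.Agent.Helper3.OLR

open Cfsg Cfsg.FusionSystem Cfsg.Agent.Helper25 Cfsg.Agent.Helper26 Cfsg.Agent.Helper3.PIX

variable {Ω : Type*} [Group Ω] {S : Subgroup Ω}

/-- `Aut_G(S)` normalizes `F`, `HH` and `Hg`. -/
structure GInv (G F : FusionSystem S) (HH : Set (Subgroup Ω)) (Hg : Subgroup (MulAut S)) : Prop where
  hom : ∀ (R : Subgroup Ω) (ψ : R →* Ω), ψ ∈ F.Hom R → InvPr G F R ψ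
  fam : ∀ α ∈ G.autGroup S, ∀ P ∈ HH, (P.subgroupOf S).map (S.subtype.comp α.toMonoidHom) ∈ HH
  hg : ∀ α ∈ G.autGroup S, ∀ γ ∈ Hg, α * γ * α⁻¹ ∈ Hg

end Cfsg.Agent.Helper3.OLR
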