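import Mathlib
import Cfsg.Agent.Lib.OLR.OLRPPGDefs
import Cfsg.Agent.Lib.Helper25.FusionInvariant
import Cfsg.Agent.Lib.Helper25.FusionPrimeIndex

/-!
# OLRPP-CEN (S5202): centric subgroups are permuted by automorphisms of `S` that normalize the system.

RECIPE. Write `αP := (P.subgroupOf S).map (S.subtype.comp α.toMonoidHom)`; `mem_map_aut_iff hPS α : y ∈ αP ↔ ∃ x : P, (α ⟨x,_⟩ : Ω) = y`,
`mem_map_aut`, `map_aut_le α P : αP ≤ S` (all in `Lib/Helper25/FusionPrimeIndex.lean` / `FusionInvariant.lean`).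
`X.IsCentric P = P ≤ S ∧ ∀ Q, X.IsConj P Q → centralizerIn S Q ≤ Q`, `X.IsConj P Q = ∃ φ ∈ X.Hom P, φ.range = Q`.
First component: `map_aut_le α P`. Second: let `θ ∈ X.Hom αP`, `Q' = θ.range` (`rintro Q' ⟨θ, hθ, rfl⟩`). `α⁻¹ ∈ G.autGroup S` (`inv_mem hα`).
`hX αP θ hθ α⁻¹ _ (map_aut_le α P) (X.le_of_mem hθ).2` gives `χ' ∈ X.Hom P'`, `P' := (αP.subgroupOf S).map (S.subtype.comp α⁻¹.toMonoidHom)`, with
`χ' ⟨α⁻¹ ⟨y,_⟩, _⟩ = α⁻¹ ⟨θ y, _⟩` for `y : αP`. Show `P' = P` (`Subgroup.ext`; `α⁻¹ (α x) = x`: `MulAut.inv_apply_self`), and transport: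
obtain `χ : P →* Ω`, `χ ∈ X.Hom P` with `χ x = α⁻¹ ⟨θ ⟨α ⟨x,_⟩, _⟩, _⟩` (e.g. `subst`-free: prove
`∀ (P' : Subgroup Ω) (h : P' = P) (χ' : P' →* Ω), χ' ∈ X.Hom P' → ∃ χ ∈ X.Hom P, ∀ x : P, χ x = χ' ⟨x, h ▸ x.2⟩` by `rintro _ rfl`).
Then `Q'' := χ.range` is `X`-conjugate to `P`, so `hP.2 Q'' ⟨χ, _, rfl⟩ : centralizerIn S Q'' ≤ Q''`.
Now let `c ∈ centralizerIn S θ.range` (`c ∈ S`, commutes with all `θ y`). Then `c' := (α⁻¹ ⟨c,_⟩ : Ω) ∈ S` commutes with every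
`χ x = α⁻¹ ⟨θ (α x),_⟩` (apply the homomorphism `α⁻¹` to `c * θ y = θ y * c`, via `Subtype.ext` + `map_mul`), so `c' ∈ centralizerIn S Q'' ≤ Q''`:
`c' = χ x` for some `x`, hence `α⁻¹ ⟨c,_⟩ = α⁻¹ ⟨θ (α x),_⟩` in `S` and by injectivity of `α⁻¹`, `c = θ (α x) ∈ θ.range`.
(`centralizerIn S Q = S ⊓ Subgroup.centralizer Q`, `Subgroup.mem_centralizer_iff : z ∈ centralizer Q ↔ ∀ h ∈ Q, h * z = z * h`.)
Keep the statement, name, namespace exactly (you may add imports). Aux names: prefix `olrppcen_`.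
-/

set_option autoImplicit false

namespace Cfsg.Agent.Helper3.OLR

open Cfsg Cfsg.FusionSystem Cfsg.Agent.Helper25 Cfsg.Agent.Helper26 Cfsg.Agent.Helper3.PIX

variable {Ω : Type*} [Group Ω] {S : Subgroup Ω}

theorem isCentric_map_aut_g {G X : FusionSystem S}
    (hX : ∀ (R : Subgroup Ω) (ψ : R →* Ω), ψ ∈ X.Hom R → InvPr G X R ψ) {α : MulAut S}
    (hα : α ∈ G.autGroup S) {P : Subgroup Ω} (hP : X.IsCentric P) :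
    X.IsCentric ((P.subgroupOf S).map (S.subtype.comp α.toMonoidHom)) := by
  refine ⟨map_aut_le α P, ?_⟩
  have hPS : P ≤ S := hP.1
  rintro Q' ⟨θ, hθ, rfl⟩
  intro c hc
  have hαP : (P.subgroupOf S).map (S.subtype.comp α.toMonoidHom) ≤ S := map_aut_le α P
  have hθS : ∀ y, θ y ∈ S := (X.le_of_mem hθ).2
  obtain ⟨χ', hχ', hχ'eq⟩ := hX _ θ hθ α⁻¹ (inv_mem hα) hαP hθS
  have hP' : (((P.subgroupOf S).map (S.subtype.comp α.toMonoidHom)).subgroupOf S).map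
      (S.subtype.comp (α⁻¹ : MulAut S).toMonoidHom) = P := by
    ext z
    rw [mem_map_aut_iff hαP α⁻¹]
    constructor
    · rintro ⟨⟨y, hy⟩, rfl⟩
      obtain ⟨x, rfl⟩ := (mem_map_aut_iff hPS α).mp hy
      have e : (⟨((α ⟨x, hPS x.2⟩ : S) : Ω), hαP hy⟩ : S) = α ⟨x, hPS x.2⟩ := Subtype.ext rfl
      show ((α⁻¹ ⟨((α ⟨x, hPS x.2⟩ : S) : Ω), hαP hy⟩ : S) : Ω) ∈ P
      rw [e, MulAut.inv_apply_self]
      exact x.2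
    · intro hz
      refine ⟨⟨(α ⟨z, hPS hz⟩ : S), mem_map_aut hPS α ⟨z, hz⟩⟩, ?_⟩
      have e : (⟨((α ⟨z, hPS hz⟩ : S) : Ω), hαP (mem_map_aut hPS α ⟨z, hz⟩)⟩ : S) = α ⟨z, hPS hz⟩ :=
        Subtype.ext rfl
      show ((α⁻¹ ⟨((α ⟨z, hPS hz⟩ : S) : Ω), _⟩ : S) : Ω) = z
      rw [e, MulAut.inv_apply_self]
  have key : ∀ (P' : Subgroup Ω) (h : P' = P) (χ' : P' →* Ω), χ' ∈ X.Hom P' →
      ∃ χ ∈ X.Hom P, ∀ x : P, χ x = χ' ⟨x, h ▸ x.2⟩ := by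
    rintro _ rfl χ' h
    exact ⟨χ', h, fun x => rfl⟩
  obtain ⟨χ, hχ, hχeq⟩ := key _ hP' χ' hχ'
  have hcen := hP.2 χ.range ⟨χ, hχ, rfl⟩
  have hcS : c ∈ S := hc.1
  have hcc : ∀ y, θ y * c = c * θ y := fun y =>
    (Subgroup.mem_centralizer_iff.mp hc.2) (θ y) ⟨y, rfl⟩
  have hχx : ∀ x : P, χ x = ((α⁻¹ ⟨θ ⟨((α ⟨x, hPS x.2⟩ : S) : Ω), mem_map_aut hPS α x⟩, hθS _⟩ : S) : Ω) := by
    intro x
    rw [hχeq x, ← hχ'eq ⟨((α ⟨x, hPS x.2⟩ : S) : Ω), mem_map_aut hPS α x⟩]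
    apply hom_congr_val
    have e : (⟨((α ⟨x, hPS x.2⟩ : S) : Ω), hαP (mem_map_aut hPS α x)⟩ : S) = α ⟨x, hPS x.2⟩ :=
      Subtype.ext rfl
    show (x : Ω) = ((α⁻¹ ⟨((α ⟨x, hPS x.2⟩ : S) : Ω), _⟩ : S) : Ω)
    rw [e, MulAut.inv_apply_self]
  have hc' : ((α⁻¹ ⟨c, hcS⟩ : S) : Ω) ∈ centralizerIn S χ.range := by
    refine ⟨(α⁻¹ ⟨c, hcS⟩).2, Subgroup.mem_centralizer_iff.mpr ?_⟩
    rintro _ ⟨x, rfl⟩
    rw [hχx x]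
    have h1 := hcc ⟨((α ⟨x, hPS x.2⟩ : S) : Ω), mem_map_aut hPS α x⟩
    have h2 : (⟨θ ⟨((α ⟨x, hPS x.2⟩ : S) : Ω), mem_map_aut hPS α x⟩, hθS _⟩ : S) * ⟨c, hcS⟩ =
        ⟨c, hcS⟩ * ⟨θ ⟨((α ⟨x, hPS x.2⟩ : S) : Ω), mem_map_aut hPS α x⟩, hθS _⟩ := Subtype.ext h1
    have h3 := congrArg (fun s : S => ((α⁻¹ s : S) : Ω)) h2
    simp only [map_mul] at h3
    exact h3
  obtain ⟨x, hx⟩ := hcen hc'
  rw [hχx x] at hx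
  have h4 : (α⁻¹ ⟨θ ⟨((α ⟨x, hPS x.2⟩ : S) : Ω), mem_map_aut hPS α x⟩, hθS _⟩ : S) = α⁻¹ ⟨c, hcS⟩ :=
    Subtype.ext hx
  have h5 := (α⁻¹ : MulAut S).injective h4
  have h6 : θ ⟨((α ⟨x, hPS x.2⟩ : S) : Ω), mem_map_aut hPS α x⟩ = c := congrArg Subtype.val h5
  exact ⟨_, h6⟩

end Cfsg.Agent.Helper3.OLR
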