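import Mathlib
import Cfsg.Agent.Lib.OLR.OLRPPGDefs
import Cfsg.Agent.Lib.Helper26.FusionRestrict

/-!
# OLR-PP (S5202): an invariant subsystem is normalized by `Aut_Fh(S)` in the sense of `InvPr` (helper21, proved).
-/

set_option autoImplicit false

namespace Cfsg.Agent.Helper3.OLR

open Cfsg Cfsg.FusionSystem Cfsg.Agent.Helper25 Cfsg.Agent.Helper26 Cfsg.Agent.Helper3.PIX

variable {Ω : Type*} [Group Ω]

theorem autGroup_resSys_le {Sh S : Subgroup Ω} (Fh : FusionSystem Sh) (hSSh : S ≤ Sh) {α : MulAut S}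
    (hα : α ∈ (resSys Fh S hSSh).autGroup S) : α ∈ Fh.autGroup S :=
  (mem_autGroup_iff Fh hSSh α).mpr ((mem_autGroup_iff (resSys Fh S hSSh) le_rfl α).mp hα).1

theorem le_autGroup_resSys {Sh S : Subgroup Ω} (Fh : FusionSystem Sh) (hSSh : S ≤ Sh) {α : MulAut S}
    (hα : α ∈ Fh.autGroup S) : α ∈ (resSys Fh S hSSh).autGroup S :=
  (mem_autGroup_iff (resSys Fh S hSSh) le_rfl α).mpr
    ⟨(mem_autGroup_iff Fh hSSh α).mp hα, le_rfl, fun x => (α x).2⟩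

theorem invPr_of_isInvariantIn {Sh S : Subgroup Ω} {Fh : FusionSystem Sh} {F : FusionSystem S}
    (hinv : F.IsInvariantIn Fh) (hSSh : S ≤ Sh) (R : Subgroup Ω) (ψ : R →* Ω) (hψ : ψ ∈ F.Hom R) :
    InvPr (resSys Fh S hSSh) F R ψ := by
  intro α hα hR hψS
  obtain ⟨χ, hχ, hv⟩ := hinv.2.2.1 R hR ψ hψ α (autGroup_resSys_le Fh hSSh hα)
  exact ⟨χ, hχ, fun x => hv x (hψS x) (mem_map_aut hR α x)⟩

end Cfsg.Agent.Helper3.OLR
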