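import Mathlib
import Cfsg.Agent.Lib.OLR.OLRPPDefs
import Cfsg.Agent.Lib.OLR.OLRPPInvF
import Cfsg.Agent.Lib.OLR.OLRPPCen

/-!
# OLRPP-FAM (S5202): `famHH F E` is stable under `Aut_Fh(S)`.

RECIPE. `mem_famHH : P ∈ famHH F E ↔ F.IsCentric P ∧ E.IsCentric (P ⊓ T)`. Write `G := resSys Fh S d.hSSh`, `αP := (P.subgroupOf S).map _`.
1. `F.IsCentric αP`: `isCentric_map_aut_g (G := G) (X := F) (invPr_of_isInvariantIn d.hst.inv d.hSSh) hα hP.1`.
2. `E.IsCentric (αP ⊓ T)`. `T` is strongly closed in `G` (`⟨d.hTS, fun R hR φ hφ x => d.hTFh.2 R hR φ hφ.1 x⟩`, `mem_resSys`), so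
   `exists_restrict_aut G d.hTS _ hα` (`Lib/PIX/PIXRes.lean`) gives `β : ↥(G.autGroup T)` with `hβ : ∀ t : T, (β t : Ω) = (α ⟨t,_⟩ : Ω)`.
   `(β : MulAut T) ∈ (resSys Fh T d.hTSh).autGroup T`: by `mem_autGroup_iff _ le_rfl`, `mem_resSys`, with
   `T.subtype.comp β.toMonoidHom ∈ Fh.Hom T` from `((mem_autGroup_iff G d.hTS _).mp β.2).1`.
   `isCentric_map_aut_g (G := resSys Fh T d.hTSh) (X := E) (invPr_of_isInvariantIn d.hE.1.2.2 d.hTSh) this hP.2` gives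
   `E.IsCentric (((P ⊓ T).subgroupOf T).map (T.subtype.comp (β : MulAut T).toMonoidHom))`.
   Finally this subgroup EQUALS `αP ⊓ T` (`Subgroup.ext y`): `⊆`: `y = β ⟨x,_⟩ = α ⟨x,_⟩` with `x ∈ P ⊓ T` lies in `αP` (`mem_map_aut`) and in `T`;
   `⊇`: `y = α ⟨x,_⟩ ∈ T` with `x ∈ P`: then `x ∈ T`, because `α⁻¹ ∈ G.autGroup S` and `exists_restrict_aut` for `α⁻¹` shows `α⁻¹` maps `T` into `T`
   (`x = α⁻¹ ⟨y,_⟩`); so `x ∈ P ⊓ T` and `y = β ⟨x,_⟩`. Rewrite with this equality (`rw [← heq]` or `heq ▸`).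
Keep the statement, name, namespace exactly (you may add imports). Aux names: prefix `olrppfam_`.
-/

set_option autoImplicit false

namespace Cfsg.Agent.Helper3.OLR

open Cfsg Cfsg.FusionSystem Cfsg.Agent.Helper25 Cfsg.Agent.Helper26 Cfsg.Agent.Helper3.PIX
  Cfsg.Agent.Helper22.PIY

variable {Ω : Type*} [Group Ω] {p : ℕ} {Sh : Subgroup Ω} {Fh : FusionSystem Sh} {T : Subgroup Ω}
  {E : FusionSystem T} {S : Subgroup Ω} {F : FusionSystem S} {Δ : Type*} [Group Δ]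
  {χ : ↥(F.autGroup T) →* Δ}

theorem famHH_map_aut (d : PPData p Fh E F χ) {α : MulAut S}
    (hα : α ∈ (resSys Fh S d.hSSh).autGroup S) {P : Subgroup Ω} (hP : P ∈ famHH F E) :
    (P.subgroupOf S).map (S.subtype.comp α.toMonoidHom) ∈ famHH F E := by
  rw [mem_famHH] at hP ⊢
  have hPS : P ≤ S := hP.1.1
  refine ⟨isCentric_map_aut_g (G := resSys Fh S d.hSSh) (X := F)
    (invPr_of_isInvariantIn d.hst.inv d.hSSh) hα hP.1, ?_⟩
  have hTG : (resSys Fh S d.hSSh).StronglyClosed T :=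
    ⟨d.hTS, fun R hR φ hφ x => d.hTFh.2 R hR φ hφ.1 x⟩
  obtain ⟨β, hβ⟩ := exists_restrict_aut (resSys Fh S d.hSSh) d.hTS hTG hα
  have hα' : α⁻¹ ∈ (resSys Fh S d.hSSh).autGroup S := inv_mem hα
  obtain ⟨β', hβ'⟩ := exists_restrict_aut (resSys Fh S d.hSSh) d.hTS hTG hα'
  have hβmem : (β : MulAut T) ∈ (resSys Fh T d.hTSh).autGroup T := by
    rw [mem_autGroup_iff _ le_rfl, mem_resSys]
    exact ⟨((mem_autGroup_iff (resSys Fh S d.hSSh) d.hTS _).mp β.2).1, le_rfl,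
      fun x => ((β : MulAut T) x).2⟩
  have h2 := isCentric_map_aut_g (G := resSys Fh T d.hTSh) (X := E)
    (invPr_of_isInvariantIn d.hE.1.2.2 d.hTSh) hβmem hP.2
  have heq : ((P ⊓ T).subgroupOf T).map (T.subtype.comp (β : MulAut T).toMonoidHom) =
      (P.subgroupOf S).map (S.subtype.comp α.toMonoidHom) ⊓ T := by
    ext y
    constructor
    · rintro ⟨x, hx, rfl⟩
      have hxP : (x : Ω) ∈ P ⊓ T := Subgroup.mem_subgroupOf.mp hx
      refine Subgroup.mem_inf.2 ⟨?_, ((β : MulAut T) x).2⟩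
      show (((β : MulAut T) x : T) : Ω) ∈ _
      rw [hβ x]
      exact mem_map_aut hPS α ⟨(x : Ω), hxP.1⟩
    · intro hy
      obtain ⟨hy1, hyT⟩ := Subgroup.mem_inf.1 hy
      obtain ⟨x, hx, rfl⟩ := hy1
      have hxP : (x : Ω) ∈ P := Subgroup.mem_subgroupOf.mp hx
      have hyT' : ((α x : S) : Ω) ∈ T := hyT
      have hxT : (x : Ω) ∈ T := by
        have h3 := hβ' ⟨((α x : S) : Ω), hyT'⟩
        have h4 : ((α⁻¹ ⟨((α x : S) : Ω), d.hTS hyT'⟩ : S) : Ω) = (x : Ω) := by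
          have : (⟨((α x : S) : Ω), d.hTS hyT'⟩ : S) = α x := Subtype.ext rfl
          rw [this]; simp
        rw [h4] at h3
        rw [← h3]
        exact ((β' : MulAut T) _).2
      refine ⟨⟨(x : Ω), hxT⟩, Subgroup.mem_subgroupOf.mpr (Subgroup.mem_inf.2 ⟨hxP, hxT⟩), ?_⟩
      show (((β : MulAut T) ⟨(x : Ω), hxT⟩ : T) : Ω) = ((α x : S) : Ω)
      rw [hβ]
  rw [← heq]
  exact h2

end Cfsg.Agent.Helper3.OLR
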