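import Mathlib
import Cfsg.Agent.Lib.OLR.OLRPPGDefs

/-!
# OLRPP-GAUT (S5202): the `aut` field for `invCore G (F0 F p HH Hg)`.

RECIPE. Copy of the `aut` bullet of `PIX.admH_invCore` (`Lib/PIX/PIXInv.lean`, from "-- aut" to the end of that theorem), with
`α ∈ Aut_G(S)`: replace `hH.normal α hα γ hγ` by `hG.hg α hα γ hγ`; `hadm := admH_F0 F p HH hHS hle_aut`. Nothing else changes.
Keep the statement, name, namespace exactly (you may add imports). Aux names: prefix `olrppgaut_`.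
-/

set_option autoImplicit false

namespace Cfsg.Agent.Helper3.OLR

open Cfsg Cfsg.FusionSystem Cfsg.Agent.Helper25 Cfsg.Agent.Helper26 Cfsg.Agent.Helper3.PIX

variable {Ω : Type*} [Group Ω] {S : Subgroup Ω}

theorem aut_invCore_g (G F : FusionSystem S) (p : ℕ) {HH : Set (Subgroup Ω)}
    {Hg : Subgroup (MulAut S)} (hG : GInv G F HH Hg) (hHS : ∀ P ∈ HH, P ≤ S)
    (hle_aut : Hg ≤ F.autGroup S) : Hg ≤ (invCore G (F0 F p HH Hg)).autGroup S := by
  have hadm := admH_F0 F p HH hHS hle_aut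
  intro γ hγ
  rw [mem_autGroup_iff _ le_rfl]
  refine ⟨(mem_autGroup_iff _ le_rfl γ).mp (hadm.aut hγ), ?_⟩
  intro α hα hSS hφS
  have hδ : α * γ * α⁻¹ ∈ (F0 F p HH Hg).autGroup S := hadm.aut (hG.hg α hα γ hγ)
  have hδ' := restrict_mem (F0 F p HH Hg) (map_aut_le α S)
    ((mem_autGroup_iff _ le_rfl _).mp hδ)
  refine ⟨_, hδ', fun x => ?_⟩
  show (((α * γ * α⁻¹ : MulAut S) ⟨((α ⟨x, hSS x.2⟩ : S) : Ω), _⟩ : S) : Ω) = _
  have e : (⟨((α ⟨x, hSS x.2⟩ : S) : Ω), map_aut_le α S (mem_map_aut hSS α x)⟩ : S) =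
      α ⟨x, hSS x.2⟩ := Subtype.ext rfl
  rw [e, MulAut.mul_apply, MulAut.mul_apply, MulAut.inv_apply_self]
  rfl

end Cfsg.Agent.Helper3.OLR
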