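import Mathlib
import Cfsg.Agent.Lib.OLR.OLRPPGDefs

/-!
# OLRPP-GEXT (S5202): the `ext` field for `invCore G (F0 F p HH Hg)`.

RECIPE. Copy of the `ext` bullet of `PIX.admH_invCore` (`Lib/PIX/PIXInv.lean`, lines "-- ext" to "-- aut"), with
`α ∈ Aut_G(S)` instead of `Aut_F(S)`. Differences: (1) the `F`-map `χ` on `αR` with `χ (α x) = α (ψ x)` is NOT built by
composing with `α` (which is not an `F`-map now) but is given directly by `hG.hom R ψ hψ α hα hR hψS`
(this replaces the whole block from `have hαi` to `have hχv`); (2) `αP ∈ HH` is `hG.fam α hα P hPH` instead of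
`hH.conj .. (isConj_map_aut ..)`. The rest (`hle`, `hadm.ext`, `heq`) is unchanged; `hadm := admH_F0 F p HH hHS hle_aut`.
Keep the statement, name, namespace exactly (you may add imports). Aux names: prefix `olrppgext_`.
-/

set_option autoImplicit false

namespace Cfsg.Agent.Helper3.OLR

open Cfsg Cfsg.FusionSystem Cfsg.Agent.Helper25 Cfsg.Agent.Helper26 Cfsg.Agent.Helper3.PIX

variable {Ω : Type*} [Group Ω] {S : Subgroup Ω}

theorem ext_invCore_g (G F : FusionSystem S) (p : ℕ) {HH : Set (Subgroup Ω)}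
    {Hg : Subgroup (MulAut S)} (hG : GInv G F HH Hg) (hHS : ∀ P ∈ HH, P ≤ S)
    (hle_aut : Hg ≤ F.autGroup S)
    (R : Subgroup Ω) (ψ : R →* Ω) (hψ : ψ ∈ F.Hom R) (P : Subgroup Ω) (hPR : P ≤ R) (hPH : P ∈ HH)
    (h : ψ.comp (Subgroup.inclusion hPR) ∈ (invCore G (F0 F p HH Hg)).Hom P) :
    ψ ∈ (invCore G (F0 F p HH Hg)).Hom R := by
  have hadm := admH_F0 F p HH hHS hle_aut
  have hψ0 : ψ ∈ (F0 F p HH Hg).Hom R := hadm.ext R ψ hψ P hPR hPH (invCore_le G _ h)
  refine ⟨hψ0, ?_⟩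
  intro α hα hR hψS
  have hPS : P ≤ S := hHS P hPH
  obtain ⟨χ, hχF, hχv⟩ := hG.hom R ψ hψ α hα hR hψS
  refine ⟨χ, ?_, hχv⟩
  have hle : (P.subgroupOf S).map (S.subtype.comp α.toMonoidHom) ≤
      (R.subgroupOf S).map (S.subtype.comp α.toMonoidHom) := by
    intro y hy
    obtain ⟨x, rfl⟩ := (mem_map_aut_iff hPS α).mp hy
    exact mem_map_aut hR α (Subgroup.inclusion hPR x)
  have hαPH : (P.subgroupOf S).map (S.subtype.comp α.toMonoidHom) ∈ HH := hG.fam α hα P hPH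
  refine hadm.ext _ χ hχF _ hle hαPH ?_
  obtain ⟨χ', hχ', hχ'v⟩ := h.2 α hα hPS (fun x => hψS _)
  have heq : χ.comp (Subgroup.inclusion hle) = χ' := by
    ext ⟨y, hy⟩
    obtain ⟨x, rfl⟩ := (mem_map_aut_iff hPS α).mp hy
    rw [hχ'v x]
    exact hχv (Subgroup.inclusion hPR x)
  rw [heq]
  exact hχ'

end Cfsg.Agent.Helper3.OLR
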