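import Mathlib
import Cfsg.Agent.Lib.OLR.OLRPPGDefs

/-!
# OLRPP-GOP (S5202): the `op` field for `invCore G E`.

RECIPE. Copy of `PIX.OpPrime_le_invCore_fam` (`Lib/PIX/PIXFratA.lean`), with `α ∈ Aut_G(S)` instead of `Aut_F(S)`.
`rw [OpPrime_eq_closure]; apply (Subgroup.closure_le _).mpr; rintro γ ⟨hγA, k, hk⟩`; membership in
`(invCore G E).autGroup P` is `mem_autGroup_iff` + `mem_invCore`: first component from `h P hP (mem_OpPrime_of_orderOf F hγA hk)`.
`InvPr`: let `α ∈ Aut_G(S)`, `αP := (P.subgroupOf S).map (S.subtype.comp α.toMonoidHom)` (`∈ HH` by `hG.fam`).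
`γ' := MulAut.congr (autRestr hPS α) γ : MulAut αP` has the same order (`MulEquiv.orderOf_eq`).
NEW POINT (the only difference with the original): `γ' ∈ F.autGroup αP`. Use `hG.hom P (P.subtype.comp γ.toMonoidHom) hγF α hα hPS _`
(`hγF` from `mem_autGroup_iff F hPS`): it gives `χ ∈ F.Hom αP` with `χ ⟨α x, _⟩ = α (γ x)`; show
`αP.subtype.comp γ'.toMonoidHom = χ` by `ext ⟨y, hy⟩; obtain ⟨x, rfl⟩ := (mem_map_aut_iff hPS α).mp hy`
(values: `γ' (autRestr hPS α x) = autRestr hPS α (γ x)`, `MulEquiv.symm_apply_apply`), then `mem_autGroup_iff F (map_aut_le α P)`.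
Then `h αP (hG.fam ..) (mem_OpPrime_of_orderOf F hγ' hord)` and finish exactly as in the original (last 7 lines).
Keep the statement, name, namespace exactly (you may add imports). Aux names: prefix `olrppgop_`.
-/

set_option autoImplicit false

namespace Cfsg.Agent.Helper3.OLR

open Cfsg Cfsg.FusionSystem Cfsg.Agent.Helper25 Cfsg.Agent.Helper26 Cfsg.Agent.Helper3.PIX

variable {Ω : Type*} [Group Ω] {S : Subgroup Ω}

theorem opPrime_le_invCore_g (G F E : FusionSystem S) (p : ℕ) {HH : Set (Subgroup Ω)}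
    {Hg : Subgroup (MulAut S)} (hG : GInv G F HH Hg) (hHS : ∀ P ∈ HH, P ≤ S)
    (h : ∀ P ∈ HH, OpPrime F p P ≤ E.autGroup P) {P : Subgroup Ω} (hP : P ∈ HH) :
    OpPrime F p P ≤ (invCore G E).autGroup P := by
  have hPS : P ≤ S := hHS P hP
  rw [OpPrime_eq_closure]
  apply (Subgroup.closure_le _).mpr
  rintro γ ⟨hγA, k, hk⟩
  show γ ∈ (invCore G E).autGroup P
  rw [mem_autGroup_iff (invCore G E) hPS]
  refine ⟨(mem_autGroup_iff E hPS γ).mp (h P hP (mem_OpPrime_of_orderOf F hγA hk)), ?_⟩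
  intro α hα hP' hφS
  have hγF : P.subtype.comp γ.toMonoidHom ∈ F.Hom P := (mem_autGroup_iff F hPS γ).mp hγA
  obtain ⟨χ, hχ, hχv⟩ := hG.hom P _ hγF α hα hPS hφS
  have hγ' : MulAut.congr (autRestr hPS α) γ ∈
      F.autGroup ((P.subgroupOf S).map (S.subtype.comp α.toMonoidHom)) := by
    rw [mem_autGroup_iff F (map_aut_le α P)]
    have e : ((P.subgroupOf S).map (S.subtype.comp α.toMonoidHom)).subtype.comp
        (MulAut.congr (autRestr hPS α) γ).toMonoidHom = χ := by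
      ext ⟨y, hy⟩
      obtain ⟨x, rfl⟩ := (mem_map_aut_iff hPS α).mp hy
      have e1 : (⟨((α ⟨x, hPS x.2⟩ : S) : Ω), hy⟩ :
          ↥((P.subgroupOf S).map (S.subtype.comp α.toMonoidHom))) = autRestr hPS α x :=
        Subtype.ext rfl
      rw [hχv x]
      show (((autRestr hPS α) (γ ((autRestr hPS α).symm ⟨_, _⟩)) :
        ↥((P.subgroupOf S).map (S.subtype.comp α.toMonoidHom))) : Ω) = _
      rw [e1, MulEquiv.symm_apply_apply]
      rfl
    rw [e]
    exact hχ
  have hord : orderOf (MulAut.congr (autRestr hPS α) γ) = p ^ k := by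
    rw [← hk]; exact MulEquiv.orderOf_eq (MulAut.congr (autRestr hPS α)) γ
  have hc' := hG.fam α hα P hP
  have h1 := h _ hc' (mem_OpPrime_of_orderOf F hγ' hord)
  refine ⟨_, (mem_autGroup_iff E (map_aut_le α P) _).mp h1, fun x => ?_⟩
  show (((autRestr hPS α) (γ ((autRestr hPS α).symm ⟨_, _⟩)) :
    ↥((P.subgroupOf S).map (S.subtype.comp α.toMonoidHom))) : Ω) = _
  have e : (⟨((α ⟨x, hP' x.2⟩ : S) : Ω), mem_map_aut hP' α x⟩ :
      ↥((P.subgroupOf S).map (S.subtype.comp α.toMonoidHom))) = autRestr hPS α x := Subtype.ext rfl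
  rw [e, MulEquiv.symm_apply_apply]
  rfl

end Cfsg.Agent.Helper3.OLR
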