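import Mathlib
import Cfsg.Agent.Lib.OLR.OLRPPGOp
import Cfsg.Agent.Lib.OLR.OLRPPGExt
import Cfsg.Agent.Lib.OLR.OLRPPGAut

/-!
# OLR-PP (S5202), generic part: `F0 F p HH Hg` is invariant under `Aut_G(S)` (assembly, helper21).
-/

set_option autoImplicit false

namespace Cfsg.Agent.Helper3.OLR

open Cfsg Cfsg.FusionSystem Cfsg.Agent.Helper25 Cfsg.Agent.Helper26 Cfsg.Agent.Helper3.PIX

variable {Ω : Type*} [Group Ω] {S : Subgroup Ω}

theorem admH_invCore_g (G F : FusionSystem S) (p : ℕ) {HH : Set (Subgroup Ω)}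
    {Hg : Subgroup (MulAut S)} (hG : GInv G F HH Hg) (hHS : ∀ P ∈ HH, P ≤ S)
    (hle_aut : Hg ≤ F.autGroup S) : AdmH F p HH Hg (invCore G (F0 F p HH Hg)) where
  le P _ hφ := F0_le F p HH Hg P (invCore_le G _ hφ)
  op _ hP := opPrime_le_invCore_g G F _ p hG hHS (admH_F0 F p HH hHS hle_aut).op hP
  ext R ψ hψ P hPR hPH h := ext_invCore_g G F p hG hHS hle_aut R ψ hψ P hPR hPH h
  aut := aut_invCore_g G F p hG hHS hle_aut

/-- every map of `F0` has all its `Aut_G(S)`-conjugates in `F0` -/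
theorem F0_invPr_g (G F : FusionSystem S) (p : ℕ) {HH : Set (Subgroup Ω)}
    {Hg : Subgroup (MulAut S)} (hG : GInv G F HH Hg) (hHS : ∀ P ∈ HH, P ≤ S)
    (hle_aut : Hg ≤ F.autGroup S) {P : Subgroup Ω} {φ : P →* Ω}
    (hφ : φ ∈ (F0 F p HH Hg).Hom P) : InvPr G (F0 F p HH Hg) P φ :=
  (F0_le_of_admH (admH_invCore_g G F p hG hHS hle_aut) P hφ).2

end Cfsg.Agent.Helper3.OLR
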