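import Mathlib
import Cfsg.Agent.Lib.OLR.OLRPPGDefs

/-!
# OLRPP-KCONJA (S5202): `Aut_F(T)` is normalized by the restriction to `T` of an automorphism of `S` normalizing `F`.

RECIPE. `hX T (T.subtype.comp γ.toMonoidHom) ((mem_autGroup_iff F hTS γ).mp hγ) α hα hTS _` gives
`χ' ∈ F.Hom T'`, `T' := (T.subgroupOf S).map (S.subtype.comp α.toMonoidHom)`, with `χ' ⟨α ⟨t,_⟩, _⟩ = α ⟨γ t, _⟩` for `t : T`.
`T' = T` (`Subgroup.ext y`; `mem_map_aut_iff hTS α`; `⊆`: `α ⟨t,_⟩ = αT t ∈ T` by `hαT`; `⊇`: `y = αT (αT⁻¹ ⟨y,_⟩)`).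
Transport `χ'` to `χ₀ ∈ F.Hom T` with `χ₀ x = χ' ⟨x, _⟩` (`rintro _ rfl` trick as in OLRPP-NORM). Then
`T.subtype.comp (αT * γ * αT⁻¹).toMonoidHom = χ₀` (`MonoidHom.ext x`: put `t := αT⁻¹ x`, so `x = αT t = α ⟨t,_⟩` in `Ω` and
`χ₀ x = α ⟨γ t,_⟩ = αT (γ t)`), hence the claim by `mem_autGroup_iff F hTS`.
Keep the statement, name, namespace exactly (you may add imports). Aux names: prefix `olrppkconja_`.
-/

set_option autoImplicit false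

namespace Cfsg.Agent.Helper3.OLR

open Cfsg Cfsg.FusionSystem Cfsg.Agent.Helper25 Cfsg.Agent.Helper26 Cfsg.Agent.Helper3.PIX

variable {Ω : Type*} [Group Ω] {S : Subgroup Ω}

theorem autGroup_conj_mem_g {G F : FusionSystem S}
    (hX : ∀ (R : Subgroup Ω) (ψ : R →* Ω), ψ ∈ F.Hom R → InvPr G F R ψ) {α : MulAut S}
    (hα : α ∈ G.autGroup S) {T : Subgroup Ω} (hTS : T ≤ S) {αT : MulAut T}
    (hαT : ∀ t : T, ((αT t : T) : Ω) = ((α ⟨(t : Ω), hTS t.2⟩ : S) : Ω)) {γ : MulAut T}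
    (hγ : γ ∈ F.autGroup T) : αT * γ * αT⁻¹ ∈ F.autGroup T := by
  have hγH : T.subtype.comp γ.toMonoidHom ∈ F.Hom T := (mem_autGroup_iff F hTS γ).mp hγ
  have hγS : ∀ x, (T.subtype.comp γ.toMonoidHom) x ∈ S := fun x => hTS (γ x).2
  obtain ⟨χ', hχ', hχ'x⟩ := hX T _ hγH α hα hTS hγS
  have hT' : (T.subgroupOf S).map (S.subtype.comp α.toMonoidHom) = T := by
    ext y
    rw [mem_map_aut_iff hTS α]
    constructor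
    · rintro ⟨t, rfl⟩
      rw [← hαT t]
      exact (αT t).2
    · intro hy
      refine ⟨αT⁻¹ ⟨y, hy⟩, ?_⟩
      rw [← hαT]
      show (((αT (αT⁻¹ ⟨y, hy⟩)) : T) : Ω) = y
      rw [MulAut.apply_inv_self]
  have key : ∀ (T' : Subgroup Ω) (_ : T' = T) (χ' : T' →* Ω), χ' ∈ F.Hom T' →
      ∃ χ₀ ∈ F.Hom T, ∀ (x : Ω) (hx : x ∈ T) (hx' : x ∈ T'), χ₀ ⟨x, hx⟩ = χ' ⟨x, hx'⟩ := by
    rintro _ rfl χ' h
    exact ⟨χ', h, fun x hx hx' => rfl⟩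
  obtain ⟨χ₀, hχ₀, hχ₀x⟩ := key _ hT' χ' hχ'
  rw [mem_autGroup_iff F hTS]
  have hEq : T.subtype.comp (αT * γ * αT⁻¹).toMonoidHom = χ₀ := by
    ext x
    show (((αT (γ (αT⁻¹ x))) : T) : Ω) = χ₀ x
    have hxΩ : (x : Ω) = ((α ⟨((αT⁻¹ x : T) : Ω), hTS (αT⁻¹ x : T).2⟩ : S) : Ω) := by
      rw [← hαT (αT⁻¹ x), MulAut.apply_inv_self]
    have hx' : (x : Ω) ∈ (T.subgroupOf S).map (S.subtype.comp α.toMonoidHom) := by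
      rw [hT']; exact x.2
    have e1 : χ₀ x = χ' ⟨(x : Ω), hx'⟩ := hχ₀x (x : Ω) x.2 hx'
    have e2 : (⟨(x : Ω), hx'⟩ : ↥((T.subgroupOf S).map (S.subtype.comp α.toMonoidHom))) =
        ⟨((α ⟨((αT⁻¹ x : T) : Ω), hTS (αT⁻¹ x : T).2⟩ : S) : Ω), mem_map_aut hTS α (αT⁻¹ x)⟩ :=
      Subtype.ext hxΩ
    rw [e1, e2, hχ'x (αT⁻¹ x), hαT (γ (αT⁻¹ x))]
    rfl
  rw [hEq]
  exact hχ₀

end Cfsg.Agent.Helper3.OLR
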