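import Mathlib
import Cfsg.Agent.Lib.Helper25.FusionInvariant

/-!
# OLRPP-NORM (S5202): `Aut_E(T)` is normalized by `Aut_F(T)` when `E` (over `T`) is invariant in `F`.

RECIPE. `hTS : T ≤ S := hinv.2.1.1`. `hSI := strongInv_of_isInvariantIn hinv` (`Lib/Helper25/FusionInvariant.lean`), and
`hSI.conj hTS hα le_rfl ((mem_autGroup_iff E le_rfl γ).mp hγ)` gives `χ ∈ E.Hom T'`, `T' := (T.subgroupOf T).map (T.subtype.comp α.toMonoidHom)`,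
with `χ ⟨α ⟨x,_⟩, _⟩ = α ⟨γ x, _⟩` for `x : T`. `T' = T` (`Subgroup.ext`: `α` is surjective). Transport `χ` to a map `χ₀ : T →* Ω` of `E`
(prove `∀ (T' : Subgroup Ω) (h : T' = T) (χ : T' →* Ω), χ ∈ E.Hom T' → ∃ χ₀ ∈ E.Hom T, ∀ x : T, χ₀ x = χ ⟨x, h ▸ x.2⟩` by `rintro _ rfl`).
Then `T.subtype.comp (α * γ * α⁻¹).toMonoidHom = χ₀` (`MonoidHom.ext x`: write `x = α (α⁻¹ x)`, `MulAut.apply_inv_self`), so
`α * γ * α⁻¹ ∈ E.autGroup T` by `mem_autGroup_iff E le_rfl`.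
Keep the statement, name, namespace exactly (you may add imports). Aux names: prefix `olrppnorm_`.
-/

set_option autoImplicit false

namespace Cfsg.Agent.Helper3.OLR

open Cfsg Cfsg.FusionSystem Cfsg.Agent.Helper25

variable {Ω : Type*} [Group Ω]

theorem olrppnorm_transport {T : Subgroup Ω} (E : FusionSystem T) :
    ∀ (T' : Subgroup Ω) (h : T' = T) (χ : T' →* Ω), χ ∈ E.Hom T' →
      ∃ χ₀ ∈ E.Hom T, ∀ x : T, χ₀ x = χ ⟨x, h ▸ x.2⟩ := by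
  rintro _ rfl χ hχ
  exact ⟨χ, hχ, fun x => rfl⟩

theorem autGroup_conj_mem {S T : Subgroup Ω} {F : FusionSystem S} {E : FusionSystem T}
    (hinv : E.IsInvariantIn F) {α γ : MulAut T} (hα : α ∈ F.autGroup T) (hγ : γ ∈ E.autGroup T) :
    α * γ * α⁻¹ ∈ E.autGroup T := by
  have hTS : T ≤ S := hinv.2.1.1
  have hSI := strongInv_of_isInvariantIn hinv
  have hγE := (mem_autGroup_iff E le_rfl γ).mp hγ
  obtain ⟨χ, hχ, hχv⟩ := hSI.conj hTS hα le_rfl hγE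
  have hT' : (T.subgroupOf T).map (T.subtype.comp α.toMonoidHom) = T := by
    ext y
    constructor
    · rintro ⟨z, -, rfl⟩
      exact (α z).2
    · intro hy
      refine ⟨α⁻¹ ⟨y, hy⟩, Subgroup.mem_subgroupOf.mpr (α⁻¹ ⟨y, hy⟩).2, ?_⟩
      show ((α (α⁻¹ ⟨y, hy⟩) : T) : Ω) = y
      rw [MulAut.apply_inv_self]
  obtain ⟨χ₀, hχ₀, hχ₀v⟩ := olrppnorm_transport E _ hT' χ hχ
  rw [mem_autGroup_iff E le_rfl]
  have heq : T.subtype.comp (α * γ * α⁻¹).toMonoidHom = χ₀ := by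
    ext x
    rw [hχ₀v]
    have h1 := hχv (α⁻¹ x)
    have h2 : (⟨((α⁻¹ x : T) : Ω), (le_rfl : T ≤ T) (α⁻¹ x).2⟩ : T) = α⁻¹ x := rfl
    show (((α * γ * α⁻¹) x : T) : Ω) = _
    rw [MulAut.mul_apply, MulAut.mul_apply]
    have h3 : (⟨(T.subtype.comp γ.toMonoidHom) (α⁻¹ x), (E.le_of_mem hγE).2 (α⁻¹ x)⟩ : T)
        = γ (α⁻¹ x) := rfl
    rw [h3] at h1
    rw [← h1]
    apply hom_congr_val
    rw [h2, MulAut.apply_inv_self]
  rw [heq]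
  exact hχ₀

end Cfsg.Agent.Helper3.OLR
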