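import Mathlib
import Cfsg.Agent.Lib.OLR.OLRPPDefs
import Cfsg.Agent.Lib.OLR.OLRPPInvF
import Cfsg.Agent.Lib.OLR.OLRPPNorm
import Cfsg.Agent.Lib.OLR.OLRPPKConjA

/-!
# OLRPP-KCONJB (S5202): `K = Aut_E(T) ⊔ O^{p'}(Aut_F(T))` is normalized by the restriction to `T` of every `α ∈ Aut_Fh(S)`.

RECIPE. Let `c : MulAut T →* MulAut T := (MulAut.conj αT).toMonoidHom` (`c κ = αT * κ * αT⁻¹`, `MulAut.conj_apply`). It suffices to show
`K.map c ≤ K` (then `Subgroup.mem_map_of_mem`); `Subgroup.map_sup` reduces to the two factors.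
(i) `αT ∈ Fh.autGroup T`: `T.subtype.comp αT.toMonoidHom = (S.subtype.comp α.toMonoidHom).comp (Subgroup.inclusion d.hTS)` (`MonoidHom.ext`, `hαT`), a map of `Fh`
by `restrict_mem Fh d.hTS ((mem_autGroup_iff Fh d.hSSh α).mp (autGroup_resSys_le Fh d.hSSh hα))`; then `mem_autGroup_iff Fh d.hTSh`.
(ii) `(E.autGroup T).map c ≤ E.autGroup T ≤ K`: `autGroup_conj_mem d.hE.1.2.2 (i) hγ`.
(iii) `(OpPrime F p T).map c ≤ OpPrime F p T ≤ K`: `rw [OpPrime_eq_closure, MonoidHom.map_closure]`, `Subgroup.closure_le`; a generator `γ ∈ F.autGroup T` with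
`orderOf γ = p ^ k` goes to `αT * γ * αT⁻¹ ∈ F.autGroup T` (`autGroup_conj_mem_g (invPr_of_isInvariantIn d.hst.inv d.hSSh) hα d.hTS hαT hγ`) of the same order
(`orderOf_injective c (MulAut.conj αT).injective γ` or `MulEquiv.orderOf_eq`), so it is in `OpPrime F p T` by `mem_OpPrime_of_orderOf`.
Keep the statement, name, namespace exactly (you may add imports). Aux names: prefix `olrppkconjb_`.
-/

set_option autoImplicit false

namespace Cfsg.Agent.Helper3.OLR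

open Cfsg Cfsg.FusionSystem Cfsg.Agent.Helper25 Cfsg.Agent.Helper26 Cfsg.Agent.Helper3.PIX
  Cfsg.Agent.Helper22.PIY

variable {Ω : Type*} [Group Ω] {p : ℕ} {Sh : Subgroup Ω} {Fh : FusionSystem Sh} {T : Subgroup Ω}
  {E : FusionSystem T} {S : Subgroup Ω} {F : FusionSystem S} {Δ : Type*} [Group Δ]
  {χ : ↥(F.autGroup T) →* Δ}

theorem K_conj_mem (d : PPData p Fh E F χ) {α : MulAut S}
    (hα : α ∈ (resSys Fh S d.hSSh).autGroup S) {αT : MulAut T}
    (hαT : ∀ t : T, ((αT t : T) : Ω) = ((α ⟨(t : Ω), d.hTS t.2⟩ : S) : Ω)) {κ : MulAut T}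
    (hκ : κ ∈ E.autGroup T ⊔ OpPrime F p T) :
    αT * κ * αT⁻¹ ∈ E.autGroup T ⊔ OpPrime F p T := by
  -- (i) `αT ∈ Aut_Fh(T)`
  have hαFh : α ∈ Fh.autGroup S := autGroup_resSys_le Fh d.hSSh hα
  have hαTFh : αT ∈ Fh.autGroup T := by
    rw [mem_autGroup_iff Fh d.hTSh]
    have h1 : T.subtype.comp αT.toMonoidHom =
        (S.subtype.comp α.toMonoidHom).comp (Subgroup.inclusion d.hTS) := by
      apply MonoidHom.ext
      intro t
      exact hαT t
    rw [h1]
    exact restrict_mem Fh d.hTS ((mem_autGroup_iff Fh d.hSSh α).mp hαFh)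
  have hmap : (E.autGroup T ⊔ OpPrime F p T).map (MulAut.conj αT).toMonoidHom ≤
      E.autGroup T ⊔ OpPrime F p T := by
    rw [Subgroup.map_sup]
    refine sup_le ?_ ?_
    · refine le_trans ?_ le_sup_left
      rintro _ ⟨γ, hγ, rfl⟩
      show αT * γ * αT⁻¹ ∈ E.autGroup T
      exact autGroup_conj_mem d.hE.1.2.2 hαTFh hγ
    · refine le_trans ?_ le_sup_right
      rw [OpPrime_eq_closure, MonoidHom.map_closure, Subgroup.closure_le]
      rintro _ ⟨γ, ⟨hγ, k, hk⟩, rfl⟩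
      have h2 : αT * γ * αT⁻¹ ∈ F.autGroup T :=
        autGroup_conj_mem_g (invPr_of_isInvariantIn d.hst.inv d.hSSh) hα d.hTS hαT hγ
      have h3 : orderOf (αT * γ * αT⁻¹) = p ^ k := by
        rw [← hk]
        exact MulEquiv.orderOf_eq (MulAut.conj αT) γ
      exact Subgroup.subset_closure ⟨h2, k, h3⟩
  exact hmap (Subgroup.mem_map_of_mem (MulAut.conj αT).toMonoidHom hκ)

end Cfsg.Agent.Helper3.OLR
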