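import Mathlib
import Cfsg.Agent.Lib.OLR.OLRPPKConjB

/-!
# OLRPP-HCHI (S5202): `Hchi` is normalized by `Aut_Fh(S)`.

RECIPE. `mem_hchi : γ ∈ Hchi F hTS χ ↔ γ ∈ F.autGroup S ∧ ∃ β : ↥(F.autGroup T), χ β = 1 ∧ ∀ t : T, (β t : Ω) = (γ ⟨t,_⟩ : Ω)` (`Iff.rfl`).
Let `G := resSys Fh S d.hSSh`, `hX := invPr_of_isInvariantIn d.hst.inv d.hSSh`, `hγ = ⟨hγF, β, hβ1, hβv⟩`.
(a) `α * γ * α⁻¹ ∈ F.autGroup S`: `autGroup_conj_mem_g hX hα le_rfl (αT := α) (fun _ => rfl) hγF` (the case `T = S`).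
(b) `T` is strongly closed in `G` (`⟨d.hTS, fun R hR φ hφ x => d.hTFh.2 R hR φ hφ.1 x⟩`); `exists_restrict_aut G d.hTS _ hα` gives `αT' : ↥(G.autGroup T)` with
    `hαT : ∀ t, (αT' t : Ω) = (α ⟨t,_⟩ : Ω)`; put `αT := (αT' : MulAut T)`.
(c) `β' := αT * β * αT⁻¹ ∈ F.autGroup T` by `autGroup_conj_mem_g hX hα d.hTS hαT β.2`; `χ ⟨β', _⟩ = 1` by
    `(d.hker _).mpr (K_conj_mem d hα hαT ((d.hker β).mp hβ1))`.
(d) values: for `t : T`, `(β' t : Ω) = ((α * γ * α⁻¹) ⟨t,_⟩ : Ω)`: with `s := αT⁻¹ t` we have `(α⁻¹ ⟨t,_⟩ : S) = ⟨s,_⟩` (apply `α` and use `hαT s`,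
    `MulAut.apply_inv_self`), then `γ ⟨s,_⟩ = ⟨β s,_⟩` (`hβv`) and `α ⟨β s,_⟩ = αT (β s)` (`hαT`). All equalities in `S` via `Subtype.ext`.
Conclude with `⟨(a), ⟨β', _⟩, (c), (d)⟩`.
Keep the statement, name, namespace exactly (you may add imports). Aux names: prefix `olrpphchi_`.
-/

set_option autoImplicit false

namespace Cfsg.Agent.Helper3.OLR

open Cfsg Cfsg.FusionSystem Cfsg.Agent.Helper25 Cfsg.Agent.Helper26 Cfsg.Agent.Helper3.PIX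
  Cfsg.Agent.Helper22.PIY

variable {Ω : Type*} [Group Ω] {p : ℕ} {Sh : Subgroup Ω} {Fh : FusionSystem Sh} {T : Subgroup Ω}
  {E : FusionSystem T} {S : Subgroup Ω} {F : FusionSystem S} {Δ : Type*} [Group Δ]
  {χ : ↥(F.autGroup T) →* Δ}

theorem hchi_conj_mem (d : PPData p Fh E F χ) :
    ∀ α ∈ (resSys Fh S d.hSSh).autGroup S, ∀ γ ∈ Hchi F d.hTS χ,
      α * γ * α⁻¹ ∈ Hchi F d.hTS χ := by
  rintro α hα γ ⟨hγF, β, hβ1, hβv⟩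
  have hX := invPr_of_isInvariantIn d.hst.inv d.hSSh
  have ha : α * γ * α⁻¹ ∈ F.autGroup S :=
    autGroup_conj_mem_g hX hα le_rfl (αT := α) (fun _ => rfl) hγF
  have hTG : (resSys Fh S d.hSSh).StronglyClosed T :=
    ⟨d.hTS, fun R hR φ hφ x => d.hTFh.2 R hR φ hφ.1 x⟩
  obtain ⟨αT', hαT⟩ :=
    Cfsg.Agent.Helper3.PIX.exists_restrict_aut (resSys Fh S d.hSSh) d.hTS hTG hα
  have hβ' : (αT' : MulAut T) * (β : MulAut T) * (αT' : MulAut T)⁻¹ ∈ F.autGroup T :=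
    autGroup_conj_mem_g hX hα d.hTS hαT β.2
  have hχ' : χ ⟨_, hβ'⟩ = 1 :=
    (d.hker _).mpr (K_conj_mem d hα hαT ((d.hker β).mp hβ1))
  refine ⟨ha, ⟨_, hβ'⟩, hχ', fun t => ?_⟩
  show ((((αT' : MulAut T) ((β : MulAut T) ((αT' : MulAut T)⁻¹ t))) : T) : Ω) =
    ((α (γ (α⁻¹ ⟨(t : Ω), d.hTS t.2⟩)) : S) : Ω)
  have h1 : α ⟨((((αT' : MulAut T)⁻¹ t : T)) : Ω), d.hTS ((αT' : MulAut T)⁻¹ t).2⟩ =
      ⟨(t : Ω), d.hTS t.2⟩ := by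
    apply Subtype.ext
    rw [← hαT ((αT' : MulAut T)⁻¹ t), MulAut.apply_inv_self]
  have e1 : α⁻¹ ⟨(t : Ω), d.hTS t.2⟩ =
      ⟨((((αT' : MulAut T)⁻¹ t : T)) : Ω), d.hTS ((αT' : MulAut T)⁻¹ t).2⟩ := by
    rw [← h1, MulAut.inv_apply_self]
  have e2 : γ ⟨((((αT' : MulAut T)⁻¹ t : T)) : Ω), d.hTS ((αT' : MulAut T)⁻¹ t).2⟩ =
      ⟨(((β : MulAut T) ((αT' : MulAut T)⁻¹ t) : T) : Ω),
        d.hTS ((β : MulAut T) ((αT' : MulAut T)⁻¹ t)).2⟩ :=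
    Subtype.ext (hβv _).symm
  rw [e1, e2, ← hαT]

end Cfsg.Agent.Helper3.OLR
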