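import Mathlib
import Cfsg.Agent.Lib.OLR.OLRPPDefs
import Cfsg.Agent.Lib.OLR.OLRPPGMain
import Cfsg.Agent.Lib.OLR.OLRPPInvF
import Cfsg.Agent.Lib.OLR.OLRPPFam
import Cfsg.Agent.Lib.OLR.OLRPPHchi

/-!
# OLR-PP (S5202): `F1` is invariant in `Fh` (assembly, helper21).
-/

set_option autoImplicit false

namespace Cfsg.Agent.Helper3.OLR

open Cfsg Cfsg.FusionSystem Cfsg.Agent.Helper25 Cfsg.Agent.Helper26 Cfsg.Agent.Helper3.PIX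
  Cfsg.Agent.Helper22.PIY

variable {Ω : Type*} [Group Ω] {p : ℕ} {Sh : Subgroup Ω} {Fh : FusionSystem Sh} {T : Subgroup Ω}
  {E : FusionSystem T} {S : Subgroup Ω} {F : FusionSystem S} {Δ : Type*} [Group Δ]
  {χ : ↥(F.autGroup T) →* Δ}

theorem ginv_olr (d : PPData p Fh E F χ) :
    GInv (resSys Fh S d.hSSh) F (famHH F E) (Hchi F d.hTS χ) where
  hom := invPr_of_isInvariantIn d.hst.inv d.hSSh
  fam _ hα _ hP := famHH_map_aut d hα hP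
  hg := hchi_conj_mem d

/-- Frattini clause. -/
theorem frat_F1_Fh (d : PPData p Fh E F χ) [Finite S] [Fact p.Prime] :
    ∀ (P : Subgroup Ω), P ≤ S → ∀ (φ : P →* Ω), φ ∈ Fh.Hom P →
      ∃ α ∈ Fh.autGroup S, ∃ φ₀ ∈ d.F1.Hom P, ∀ (x : P) (hx : φ₀ x ∈ S),
        φ x = ((α ⟨φ₀ x, hx⟩ : S) : Ω) := by
  intro P hP φ hφ
  obtain ⟨αh, hαh, φ', hφ', hv⟩ := d.hst.inv.2.2.2 P hP φ hφ
  obtain ⟨α, hα, φ₁, hφ₁, hv₁⟩ := d.F1_facts.2.2.2.1 P φ' hφ'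
  have hαFh : α ∈ Fh.autGroup S := by
    rw [mem_autGroup_iff Fh d.hSSh]
    exact d.hFFh S ((mem_autGroup_iff F le_rfl α).mp hα)
  refine ⟨αh * α, mul_mem hαh hαFh, φ₁, hφ₁, fun x hx => ?_⟩
  have hφ'S : φ' x ∈ S := (F.le_of_mem hφ').2 x
  rw [hv x hφ'S]
  have e : (⟨φ' x, hφ'S⟩ : S) = α ⟨φ₁ x, hx⟩ := Subtype.ext (hv₁ x hx)
  rw [e]
  rfl

theorem F1_isInvariantIn (d : PPData p Fh E F χ) [Finite S] [Fact p.Prime] :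
    d.F1.IsInvariantIn Fh := by
  refine ⟨fun P φ h => d.hFFh P (d.F1_le P h), d.hSFh, ?_, frat_F1_Fh d⟩
  intro P hPS φ hφ α hα
  have hα' : α ∈ (resSys Fh S d.hSSh).autGroup S := le_autGroup_resSys Fh d.hSSh hα
  have hφS : ∀ x, φ x ∈ S := (d.F1.le_of_mem hφ).2
  obtain ⟨χ', hχ', hv⟩ := F0_invPr_g (resSys Fh S d.hSSh) F p (ginv_olr d)
    (fun P hP => hP.1.1) (hchi_le_aut F d.hTS χ) hφ α hα' hPS hφS
  exact ⟨χ', hχ', fun x _ _ => hv x⟩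

end Cfsg.Agent.Helper3.OLR
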