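import Mathlib
import Cfsg.Agent.Lib.OLR.OLRPPDefs
import Cfsg.Agent.Lib.OLR.OLRPPAut

/-!
# OLRPP-NORW (S5202): `E` is invariant in `F1`.

RECIPE. Unfold `IsInvariantIn` (`Cfsg/Prelude/Def_FusionSystem.lean`): four clauses.
1. `E.IsSubsystemOf d.F1`: `d.E_le_F1`.
2. `d.F1.StronglyClosed T`: `⟨d.hTS, fun R hR φ hφ x => d.hTF.2 R hR φ (d.F1_le R hφ) x⟩`.
3. conj clause: given `α ∈ d.F1.autGroup T`, it lies in `F.autGroup T` (`mem_autGroup_iff _ d.hTS` twice and `d.F1_le T`); apply the conj clause of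
   `d.hEF.1.2.2` (`E.IsInvariantIn F`, third component `.2.2.1`) to it.
4. Frattini clause: `P ≤ T`, `φ ∈ d.F1.Hom P`. `d.F1_good P φ hφ` gives `a : ↥(F.autGroup T)`, `χ a = 1`, `φ₀ ∈ E.Hom (P ⊓ T)`,
   `hx : ∀ x : ↥(P ⊓ T), φ ⟨x, x.2.1⟩ = a ⟨φ₀ x, _⟩`. Take `α := (a : MulAut T)`: it lies in `d.F1.autGroup T` by
   `le_autGroup_F1 d ((d.hker a).mp ‹χ a = 1›)`; take `φ₀' := φ₀.comp (Subgroup.inclusion (le_inf le_rfl hPT))`
   (`restrict_mem E _ hφ₀`); the value equation is `hx ⟨x, ⟨x.2, hPT x.2⟩⟩` (up to `Subtype` proof irrelevance: `rfl`/`congr`).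
Keep the statement, name, namespace exactly (you may add imports). Aux names: prefix `olrppnorw_`.
-/

set_option autoImplicit false

namespace Cfsg.Agent.Helper3.OLR

open Cfsg Cfsg.FusionSystem Cfsg.Agent.Helper25 Cfsg.Agent.Helper26 Cfsg.Agent.Helper3.PIX
  Cfsg.Agent.Helper22.PIY

variable {Ω : Type*} [Group Ω] {p : ℕ} {Sh : Subgroup Ω} {Fh : FusionSystem Sh} {T : Subgroup Ω}
  {E : FusionSystem T} {S : Subgroup Ω} {F : FusionSystem S} {Δ : Type*} [Group Δ]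
  {χ : ↥(F.autGroup T) →* Δ}

theorem E_isInvariantIn_F1 (d : PPData p Fh E F χ) [Finite S] [Fact p.Prime] [Finite Δ] :
    E.IsInvariantIn d.F1 := by
  have hinvF : E.IsInvariantIn F := d.hEF.1.2.2
  refine ⟨d.E_le_F1, ⟨d.hTS, fun R hR φ hφ x => d.hTF.2 R hR φ (d.F1_le R hφ) x⟩, ?_, ?_⟩
  · intro P hPT φ hφ α hα
    have hαF : α ∈ F.autGroup T := by
      rw [mem_autGroup_iff _ d.hTS] at hα ⊢
      exact d.F1_le T hα
    exact hinvF.2.2.1 P hPT φ hφ α hαF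
  · intro P hPT φ hφ
    obtain ⟨a, ha, φ₀, hφ₀, hx⟩ := d.F1_good P φ hφ
    refine ⟨(a : MulAut T), le_autGroup_F1 d ((d.hker a).mp ha),
      φ₀.comp (Subgroup.inclusion (le_inf le_rfl hPT)),
      restrict_mem E (le_inf le_rfl hPT) hφ₀, ?_⟩
    intro x hx'
    exact hx ⟨(x : Ω), ⟨x.2, hPT x.2⟩⟩

end Cfsg.Agent.Helper3.OLR
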