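import Mathlib
import Cfsg.Agent.Lib.PIY.PIYFinal

/-!
# OLRPP-GOODA (S5202): an `F`-automorphism of `S` whose restriction to SOME member of `famHH` is `Good` lies in `Hchi`.

RECIPE. Verbatim generalisation of `Helper22.PIY.hchi_of_good` (`Lib/PIY/PIYAutD.lean`, lines 38-68), which is the case `P = S`.
Replace `S ⊓ T` by `P ⊓ T` everywhere and `hc : E.IsCentric (S ⊓ T)` by `hc := hP.2` (that is what membership in `famHH` gives;
the lines `hT`, `hST` disappear). `hg` gives `α : ↥(F.autGroup T)`, `χ α = 1`, `φ₀ ∈ E.Hom (P ⊓ T)` and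
`hx : ∀ x : ↥(P ⊓ T), a ⟨x, _⟩ = α ⟨φ₀ x, _⟩` (after `show`/`rfl` unfolding of the composite with `Subgroup.inclusion`).
`exists_restrict_aut F h.hTS h.hT ha` gives `β` with `β t = a ⟨t, _⟩`; `b := α⁻¹ * β`; `resAut b (P ⊓ T) hc.1 = φ₀`;
`chi_ext h hb hc` gives `χ ⟨b, hb⟩ = 1`; conclude `χ β = 1` and `⟨ha, β, _, hβ⟩`.
Keep the statement, name, namespace exactly (you may add imports). Aux names: prefix `olrppgooda_`.
-/

set_option autoImplicit false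

namespace Cfsg.Agent.Helper3.OLR

open Cfsg Cfsg.FusionSystem Cfsg.Agent.Helper25 Cfsg.Agent.Helper26 Cfsg.Agent.Helper3.PIX
  Cfsg.Agent.Helper22.PIY Cfsg.Agent.Helper25.OPE

variable {Ω : Type*} [Group Ω] {S : Subgroup Ω} {p : ℕ} {F : FusionSystem S} {T : Subgroup Ω}
  {E : FusionSystem T} {Δ : Type*} [Group Δ] {χ : ↥(F.autGroup T) →* Δ}

theorem hchi_of_good_fam [Finite S] [Fact p.Prime] [Finite Δ] (h : Setup p F E χ) {a : MulAut ↥S}
    (ha : a ∈ F.autGroup S) {P : Subgroup Ω} (hP : P ∈ famHH F E)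
    (hg : Good F E χ P ((S.subtype.comp a.toMonoidHom).comp (Subgroup.inclusion hP.1.1))) :
    a ∈ Hchi F h.hTS χ := by
  obtain ⟨α, hχα, φ₀, hφ₀, hx⟩ := hg
  obtain ⟨β, hβ⟩ := exists_restrict_aut F h.hTS h.hT ha
  have hc : E.IsCentric (P ⊓ T) := hP.2
  have hb : (α : MulAut ↥T)⁻¹ * (β : MulAut ↥T) ∈ F.autGroup T :=
    mul_mem (inv_mem α.2) β.2
  have hres : resAut ((α : MulAut ↥T)⁻¹ * (β : MulAut ↥T)) (P ⊓ T) hc.1 = φ₀ := by
    apply MonoidHom.ext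
    intro x
    rw [resAut_apply]
    have e1 : (β : MulAut ↥T) ⟨(x : Ω), hc.1 x.2⟩ =
        (α : MulAut ↥T) ⟨φ₀ x, (E.le_of_mem hφ₀).2 x⟩ := by
      apply Subtype.ext
      rw [hβ]
      exact hx x
    show ((((α : MulAut ↥T)⁻¹) ((β : MulAut ↥T) ⟨(x : Ω), hc.1 x.2⟩) : ↥T) : Ω) = φ₀ x
    rw [e1, MulAut.inv_apply_self]
  have h1 : χ ⟨(α : MulAut ↥T)⁻¹ * (β : MulAut ↥T), hb⟩ = 1 := by
    apply chi_ext h hb hc
    rw [hres]
    exact hφ₀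
  have h2 : (⟨(α : MulAut ↥T)⁻¹ * (β : MulAut ↥T), hb⟩ : ↥(F.autGroup T)) = α⁻¹ * β :=
    Subtype.ext rfl
  rw [h2, map_mul, map_inv, hχα, inv_one, one_mul] at h1
  exact ⟨ha, β, h1, hβ⟩

end Cfsg.Agent.Helper3.OLR
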