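import Mathlib
import Cfsg.Agent.Lib.OLR.OLRPPDefs
import Cfsg.Agent.Lib.OLR.OLRPPGoodA

/-!
# OLRPP-GOODB (S5202): a `Good` map of `F` defined on a member of `famHH` is a map of `F1`.

RECIPE. `D := Dchi d.setup` is a fusion system (`Lib/PIY/PIYDchi.lean`) with `mem_Dchi : φ ∈ D.Hom P ↔ φ ∈ F.Hom P ∧ Good F E χ P φ`
(`Iff.rfl`), and `d.F1_le_Dchi : d.F1.IsSubsystemOf D`.
1. Frattini: `obtain ⟨α, hα, φ₁, hφ₁, hv⟩ := d.F1_facts.2.2.2.1 P φ hφ` (`FratS F d.F1`): `α ∈ F.autGroup S`, `φ₁ ∈ d.F1.Hom P`,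
   `hv : ∀ x (hx : φ₁ x ∈ S), φ x = α ⟨φ₁ x, hx⟩`.
2. `φ ∈ D.Hom P` (`⟨hφ, hg⟩`) and `φ₁ ∈ D.Hom P` (`d.F1_le_Dchi P hφ₁`). `obtain ⟨ψ₁, hψ₁, hinv⟩ := D.inv_mem hφ₁D`
   (`ψ₁ ∈ D.Hom φ₁.range`, `ψ₁ ⟨φ₁ x, _⟩ = x`). `κ := φ.comp (ψ₁.codRestrict P _) ∈ D.Hom φ₁.range` (`D.comp_mem`; values of `ψ₁` lie in `P`
   because every element of `φ₁.range` is some `φ₁ x`). For `y = φ₁ x`: `κ y = φ x = α ⟨y, _⟩`, so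
   `κ = (S.subtype.comp α.toMonoidHom).comp (Subgroup.inclusion hP₁S)` (`MonoidHom.ext`, `rintro ⟨_, x, rfl⟩`), `hP₁S : φ₁.range ≤ S` from `(F.le_of_mem _).2`.
3. `P₁ := φ₁.range ∈ famHH F E` by `d.famHyp.conj P hP _ ⟨φ₁, d.F1_le P hφ₁, rfl⟩`.
4. `hchi_of_good_fam d.setup hα hP₁ (κ-goodness, rewritten)` gives `α ∈ Hchi F d.hTS χ`, so `α ∈ d.F1.autGroup S` (`d.F1_facts.2.2.2.2.2.1`),
   i.e. `S.subtype.comp α.toMonoidHom ∈ d.F1.Hom S` (`mem_autGroup_iff _ le_rfl`).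
5. `φ = (S.subtype.comp α.toMonoidHom).comp (φ₁.codRestrict S _)` (`MonoidHom.ext`, `hv`), a map of `d.F1` by `d.F1.comp_mem hφ₁ _ _`.
Keep the statement, name, namespace exactly (you may add imports). Aux names: prefix `olrppgoodb_`.
-/

set_option autoImplicit false

namespace Cfsg.Agent.Helper3.OLR

open Cfsg Cfsg.FusionSystem Cfsg.Agent.Helper25 Cfsg.Agent.Helper26 Cfsg.Agent.Helper3.PIX
  Cfsg.Agent.Helper22.PIY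

variable {Ω : Type*} [Group Ω] {p : ℕ} {Sh : Subgroup Ω} {Fh : FusionSystem Sh} {T : Subgroup Ω}
  {E : FusionSystem T} {S : Subgroup Ω} {F : FusionSystem S} {Δ : Type*} [Group Δ]
  {χ : ↥(F.autGroup T) →* Δ}

theorem mem_F1_of_good (d : PPData p Fh E F χ) [Finite S] [Fact p.Prime] [Finite Δ]
    {P : Subgroup Ω} (hP : P ∈ famHH F E) {φ : P →* Ω} (hφ : φ ∈ F.Hom P)
    (hg : Good F E χ P φ) : φ ∈ d.F1.Hom P := by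
  obtain ⟨α, hα, φ₁, hφ₁, hv⟩ := d.F1_facts.2.2.2.1 P φ hφ
  have hφD : φ ∈ (Dchi d.setup).Hom P := ⟨hφ, hg⟩
  have hφ₁D : φ₁ ∈ (Dchi d.setup).Hom P := d.F1_le_Dchi P hφ₁
  have hφ₁F : φ₁ ∈ F.Hom P := d.F1_le P hφ₁
  have hφ₁S : ∀ x : P, φ₁ x ∈ S := (F.le_of_mem hφ₁F).2
  obtain ⟨ψ₁, hψ₁, hinv⟩ := (Dchi d.setup).inv_mem hφ₁D
  have hψ₁P : ∀ y : φ₁.range, ψ₁ y ∈ P := by
    rintro ⟨_, x, rfl⟩
    rw [hinv x]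
    exact x.2
  have hκ : φ.comp (ψ₁.codRestrict P hψ₁P) ∈ (Dchi d.setup).Hom φ₁.range :=
    (Dchi d.setup).comp_mem hψ₁ hφD hψ₁P
  have hP₁S : φ₁.range ≤ S := by
    rintro _ ⟨x, rfl⟩
    exact hφ₁S x
  have hκeq : φ.comp (ψ₁.codRestrict P hψ₁P) =
      (S.subtype.comp α.toMonoidHom).comp (Subgroup.inclusion hP₁S) := by
    ext ⟨_, x, rfl⟩
    show φ ⟨ψ₁ ⟨φ₁ x, _⟩, _⟩ = ((α ⟨φ₁ x, _⟩ : S) : Ω)
    have e : (⟨ψ₁ ⟨φ₁ x, ⟨x, rfl⟩⟩, hψ₁P ⟨φ₁ x, ⟨x, rfl⟩⟩⟩ : P) = x := Subtype.ext (hinv x)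
    rw [e, hv x (hφ₁S x)]
  have hP₁ : φ₁.range ∈ famHH F E := d.famHyp.conj P hP _ ⟨φ₁, hφ₁F, rfl⟩
  have hgκ : Good F E χ φ₁.range
      ((S.subtype.comp α.toMonoidHom).comp (Subgroup.inclusion hP₁.1.1)) := by
    have h2 := hκ.2
    rw [hκeq] at h2
    exact h2
  have hαH : α ∈ Hchi F d.hTS χ := hchi_of_good_fam d.setup hα hP₁ hgκ
  have hαF1 : S.subtype.comp α.toMonoidHom ∈ d.F1.Hom S :=
    (mem_autGroup_iff _ le_rfl α).mp (d.F1_facts.2.2.2.2.2.1 hαH)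
  have hφeq : φ = (S.subtype.comp α.toMonoidHom).comp (φ₁.codRestrict S hφ₁S) := by
    ext x
    exact hv x (hφ₁S x)
  rw [hφeq]
  exact d.F1.comp_mem hφ₁ hαF1 hφ₁S

end Cfsg.Agent.Helper3.OLR
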