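import Mathlib
import Cfsg.Agent.Lib.PIX.PIXFam
import Cfsg.Agent.Lib.Helper3.WClos1
import Cfsg.Agent.Lib.Helper25.Fusion

/-!
# OLRPP-S0 (S5202): `T C_S(T)` belongs to `famHH F E` when `T` is strongly closed in `F`.

RECIPE. `mem_famHH : P ∈ famHH F E ↔ F.IsCentric P ∧ E.IsCentric (P ⊓ T)` (`Iff.rfl`). Put `S₀ := T ⊔ centralizerIn S T`.
(b) `S₀ ⊓ T = T` (`inf_eq_right.mpr le_sup_left`); rewrite and use `Cfsg.Agent.Helper3.WC.isCentric_self E` (needs `Finite T`:
`finite_of_le_finite hT.1`).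
(a) `F.IsCentric S₀`: `S₀ ≤ S` (`sup_le hT.1 centralizerIn_le`). Let `Q = φ.range`, `φ ∈ F.Hom S₀`. CLAIM `Q ≤ S₀`: every element of `S₀` is a
product of elements of `T` and `centralizerIn S T` (`Subgroup.sup_induction` / `Subgroup.closure_induction` on `T ⊔ C`), so it is enough that
`φ t ∈ T` for `t ∈ T` (`hT.2 T le_rfl _ (restrict_mem F le_sup_left hφ) t`) and `φ c ∈ centralizerIn S T` for `c ∈ centralizerIn S T`:
`φ c ∈ S` (`(F.le_of_mem hφ).2`), and `φ c` commutes with every `t' ∈ T`, because `t' = φ t` for some `t ∈ T` (the restriction of `φ` to `T` is an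
injective map `T → T` of a finite set, hence surjective: `Finite.injective_iff_surjective`, injectivity from `F.injective_of_mem`) and
`φ c * φ t = φ (c * t) = φ (t * c) = φ t * φ c`. Then `Q = S₀` by cardinality (`Subgroup.eq_of_le_of_card_ge`, `Nat.card_congr` of
`Cfsg.Agent.Helper3.WC.homEquiv F hφ` as in `WC.isCentric_self`), and `centralizerIn S S₀ ≤ centralizerIn S T ≤ S₀`
(`Subgroup.centralizer_le` / `le_sup_right`).
Keep the statement, name, namespace exactly (you may add imports). Aux names: prefix `olrpps0_`.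
-/

set_option autoImplicit false

namespace Cfsg.Agent.Helper3.OLR

open Cfsg Cfsg.FusionSystem Cfsg.Agent.Helper25 Cfsg.Agent.Helper3.PIX

variable {Ω : Type*} [Group Ω] {S : Subgroup Ω}

theorem sup_cen_mem_famHH [Finite S] (F : FusionSystem S) {T : Subgroup Ω} (E : FusionSystem T)
    (hT : F.StronglyClosed T) : T ⊔ centralizerIn S T ∈ famHH F E := by
  have : Finite T := finite_of_le_finite hT.1
  rw [mem_famHH]
  have hS0 : T ⊔ centralizerIn S T ≤ S := sup_le hT.1 centralizerIn_le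
  have : Finite ↥(T ⊔ centralizerIn S T) := finite_of_le_finite hS0
  refine ⟨⟨hS0, ?_⟩, ?_⟩
  · rintro Q ⟨φ, hφ, rfl⟩
    have hφT : ∀ (t : Ω) (ht : t ∈ T),
        φ ⟨t, (le_sup_left : T ≤ T ⊔ centralizerIn S T) ht⟩ ∈ T := by
      intro t ht
      exact hT.2 T le_rfl _ (restrict_mem F le_sup_left hφ) ⟨t, ht⟩
    have hfinj : Function.Injective (fun t : T =>
        (⟨φ ⟨t.1, (le_sup_left : T ≤ T ⊔ centralizerIn S T) t.2⟩, hφT t.1 t.2⟩ : T)) := by
      intro a b hab
      have h1 : φ ⟨a.1, (le_sup_left : T ≤ T ⊔ centralizerIn S T) a.2⟩ =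
          φ ⟨b.1, (le_sup_left : T ≤ T ⊔ centralizerIn S T) b.2⟩ := congrArg Subtype.val hab
      have h2 := F.injective_of_mem hφ h1
      have h3 : (a : Ω) = (b : Ω) := Subtype.mk.inj h2
      exact Subtype.ext h3
    have hfsurj := Finite.injective_iff_surjective.mp hfinj
    have hφC : ∀ (c : Ω) (hc : c ∈ centralizerIn S T),
        φ ⟨c, (le_sup_right : centralizerIn S T ≤ T ⊔ centralizerIn S T) hc⟩ ∈ centralizerIn S T := by
      intro c hc
      refine ⟨(F.le_of_mem hφ).2 _, Subgroup.mem_centralizer_iff.mpr ?_⟩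
      intro t' ht'
      obtain ⟨t, ht⟩ := hfsurj ⟨t', ht'⟩
      have ht2 : φ ⟨t.1, (le_sup_left : T ≤ T ⊔ centralizerIn S T) t.2⟩ = t' :=
        congrArg Subtype.val ht
      rw [← ht2, ← map_mul, ← map_mul]
      congr 1
      apply Subtype.ext
      exact (Subgroup.mem_centralizer_iff.mp hc.2) t.1 t.2
    have hval : ∀ x : ↥(T ⊔ centralizerIn S T), φ x ∈ T ⊔ centralizerIn S T := by
      have h : (⊤ : Subgroup ↥(T ⊔ centralizerIn S T)) ≤ (T ⊔ centralizerIn S T).comap φ := by
        rw [← Subgroup.subgroupOf_self (T ⊔ centralizerIn S T),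
          Subgroup.subgroupOf_sup le_sup_left le_sup_right]
        refine sup_le ?_ ?_
        · intro y hy
          exact (le_sup_left : T ≤ T ⊔ centralizerIn S T) (hφT y.1 (Subgroup.mem_subgroupOf.mp hy))
        · intro y hy
          exact (le_sup_right : centralizerIn S T ≤ T ⊔ centralizerIn S T)
            (hφC y.1 (Subgroup.mem_subgroupOf.mp hy))
      intro x
      exact h (Subgroup.mem_top x)
    have hle : φ.range ≤ T ⊔ centralizerIn S T := by
      rintro _ ⟨x, rfl⟩
      exact hval x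
    have hcard : Nat.card φ.range = Nat.card ↥(T ⊔ centralizerIn S T) :=
      (Nat.card_congr (Cfsg.Agent.Helper25.homEquiv F hφ).toEquiv).symm
    have heq : φ.range = T ⊔ centralizerIn S T :=
      Subgroup.eq_of_le_of_card_ge hle (le_of_eq hcard.symm)
    rw [heq]
    intro c hc
    refine (le_sup_right : centralizerIn S T ≤ T ⊔ centralizerIn S T) ⟨hc.1, ?_⟩
    exact Subgroup.centralizer_le (show (T : Set Ω) ⊆ ↑(T ⊔ centralizerIn S T) from
      (le_sup_left : T ≤ T ⊔ centralizerIn S T)) hc.2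
  · rw [inf_eq_right.mpr (le_sup_left : T ≤ T ⊔ centralizerIn S T)]
    exact Cfsg.Agent.Helper3.WC.isCentric_self E

end Cfsg.Agent.Helper3.OLR
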