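import Mathlib
import Cfsg.Agent.Lib.OLR.OLRPPDefs
import Cfsg.Agent.Lib.OLR.OLRPPGoodB
import Cfsg.Agent.Lib.OLR.OLRPPS0

/-!
# OLRPP-NORX (S5202): the extension clause for `E` in `F1`.

RECIPE. `d.hEF.2 α hα` (extension clause of `E.IsNormalIn F p`) gives `β ∈ F.autGroup (T ⊔ centralizerIn S T)` with the two properties.
The same `β` works: only `β ∈ d.F1.autGroup S₀` (`S₀ := T ⊔ centralizerIn S T`) has to be shown.
`hS₀ : S₀ ∈ famHH F E := sup_cen_mem_famHH F E d.hTF`; `hS₀S : S₀ ≤ S := hS₀.1.1`.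
`mem_autGroup_iff d.F1 hS₀S`: show `S₀.subtype.comp β.toMonoidHom ∈ d.F1.Hom S₀` by
`mem_F1_of_good d hS₀ ((mem_autGroup_iff F hS₀S β).mp hβ) ?_`, where `Good F E χ S₀ _` holds with `a := 1` (`map_one χ`),
`φ₀ := (T.subtype.comp α.toMonoidHom).comp (Subgroup.inclusion inf_le_right)` (`restrict_mem E inf_le_right ((mem_autGroup_iff E le_rfl α).mp hα)`),
and for `x : ↥(S₀ ⊓ T)` the value equation is the first property of `β` applied to `⟨x, x.2.2⟩ : T`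
(the two elements `⟨x, x.2.1⟩` and `Subgroup.inclusion le_sup_left ⟨x, x.2.2⟩` of `S₀` are equal by `Subtype.ext rfl`).
Keep the statement, name, namespace exactly (you may add imports). Aux names: prefix `olrppnorx_`.
-/

set_option autoImplicit false

namespace Cfsg.Agent.Helper3.OLR

open Cfsg Cfsg.FusionSystem Cfsg.Agent.Helper25 Cfsg.Agent.Helper26 Cfsg.Agent.Helper3.PIX
  Cfsg.Agent.Helper22.PIY

variable {Ω : Type*} [Group Ω] {p : ℕ} {Sh : Subgroup Ω} {Fh : FusionSystem Sh} {T : Subgroup Ω}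
  {E : FusionSystem T} {S : Subgroup Ω} {F : FusionSystem S} {Δ : Type*} [Group Δ]
  {χ : ↥(F.autGroup T) →* Δ}

theorem ext_clause_F1 (d : PPData p Fh E F χ) [Finite S] [Fact p.Prime] [Finite Δ] :
    ∀ α ∈ E.autGroup T, ∃ β ∈ d.F1.autGroup (T ⊔ centralizerIn S T),
      (∀ x : T, ((β (Subgroup.inclusion le_sup_left x) : ↥(T ⊔ centralizerIn S T)) : Ω) =
        ((α x : T) : Ω)) ∧
      ∀ c : ↥(T ⊔ centralizerIn S T), (c : Ω) ∈ centralizerIn S T →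
        (c : Ω)⁻¹ * ((β c : ↥(T ⊔ centralizerIn S T)) : Ω) ∈
          T ⊓ Subgroup.centralizer (T : Set Ω) := by
  intro α hα
  obtain ⟨β, hβ, h1, h2⟩ := d.hEF.2 α hα
  refine ⟨β, ?_, h1, h2⟩
  have hS₀ : T ⊔ centralizerIn S T ∈ famHH F E := sup_cen_mem_famHH F E d.hTF
  have hS₀S : T ⊔ centralizerIn S T ≤ S := hS₀.1.1
  rw [mem_autGroup_iff d.F1 hS₀S]
  refine mem_F1_of_good d hS₀ ((mem_autGroup_iff F hS₀S β).mp hβ) ?_
  have hαE := (mem_autGroup_iff E le_rfl α).mp hα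
  refine ⟨1, map_one χ, (T.subtype.comp α.toMonoidHom).comp (Subgroup.inclusion inf_le_right),
    restrict_mem E inf_le_right hαE, ?_⟩
  intro x
  have h3 := h1 ⟨x, x.2.2⟩
  have e1 : (⟨(x : Ω), x.2.1⟩ : ↥(T ⊔ centralizerIn S T)) =
      Subgroup.inclusion le_sup_left (⟨(x : Ω), x.2.2⟩ : T) := Subtype.ext rfl
  show ((β ⟨(x : Ω), x.2.1⟩ : ↥(T ⊔ centralizerIn S T)) : Ω) = _
  rw [e1, h3]
  rfl

end Cfsg.Agent.Helper3.OLR
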