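import Mathlib
import Cfsg.Agent.Lib.OLR.OLRPPNorW
import Cfsg.Agent.Lib.OLR.OLRPPNorX

/-!
# OLR-PP (S5202): `E` is normal in `F1` (assembly, helper21).
-/

set_option autoImplicit false

namespace Cfsg.Agent.Helper3.OLR

open Cfsg Cfsg.FusionSystem Cfsg.Agent.Helper25 Cfsg.Agent.Helper26 Cfsg.Agent.Helper3.PIX
  Cfsg.Agent.Helper22.PIY

variable {Ω : Type*} [Group Ω] {p : ℕ} {Sh : Subgroup Ω} {Fh : FusionSystem Sh} {T : Subgroup Ω}
  {E : FusionSystem T} {S : Subgroup Ω} {F : FusionSystem S} {Δ : Type*} [Group Δ]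
  {χ : ↥(F.autGroup T) →* Δ}

theorem E_isNormalIn_F1_pp (d : PPData p Fh E F χ) [Finite S] [Fact p.Prime] [Finite Δ] :
    E.IsNormalIn d.F1 p :=
  ⟨⟨d.hEF.1.1, d.F1_facts.2.1, E_isInvariantIn_F1 d⟩, ext_clause_F1 d⟩

end Cfsg.Agent.Helper3.OLR
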