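import Mathlib
import Cfsg.Agent.Lib.OLR.OLRPPInv
import Cfsg.Agent.Lib.OLR.OLRPPNor
import Cfsg.Agent.Lib.OLR.OLRPPAut
import Cfsg.Agent.Lib.OLR.OLRPPGrp
import Cfsg.Agent.Lib.OLR.OLRPPNorm

/-!
# OLR-PP (S5202): the step of index prime to `p` (final assembly of sub-farm 2, helper21).

`pPrime_step_pp` has EXACTLY the statement of `OLRSteps.pPrime_step`.
-/

set_option autoImplicit false

namespace Cfsg.Agent.Helper3.OLR

open Cfsg Cfsg.FusionSystem Cfsg.Agent.Helper25 Cfsg.Agent.Helper26 Cfsg.Agent.Helper3.PIX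
  Cfsg.Agent.Helper22.PIY

variable {Ω : Type*} [Group Ω]

theorem pPrime_step_pp {Sh : Subgroup Ω} [Finite Sh] (p : ℕ) [Fact p.Prime] (hSh : IsPGroup p Sh)
    (Fh : FusionSystem Sh) (hFh : Fh.IsSaturated p) {T : Subgroup Ω} (E : FusionSystem T)
    (hE : E.IsNormalIn Fh p) {S : Subgroup Ω} (F : FusionSystem S) (hst : Stage p Fh E F)
    (_hK : E.autGroup T ⊔ OpPrime F p T ≠ F.autGroup T) :
    ∃ F₁ : FusionSystem S, Stage p Fh E F₁ ∧ F₁.autGroup T = E.autGroup T ⊔ OpPrime F p T ∧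
      SameLim p F F₁ := by
  haveI : Finite S := finite_of_le_finite hst.le
  haveI : Finite T := finite_of_le_finite (hst.T_le.trans hst.le)
  haveI : Finite (MulAut T) :=
    Finite.of_injective (fun α : MulAut T => (α : T → T)) DFunLike.coe_injective
  haveI hn : ((E.autGroup T ⊔ OpPrime F p T).subgroupOf (F.autGroup T)).Normal :=
    Kf_normal F p (E.autGroup T) (fun α hα γ hγ => autGroup_conj_mem hst.nor.1.2.2 hα hγ)
  have hp : ∀ a : ↥(F.autGroup T), (∃ k : ℕ, orderOf a = p ^ k) →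
      a ∈ (E.autGroup T ⊔ OpPrime F p T).subgroupOf (F.autGroup T) := by
    rintro a ⟨k, hk⟩
    rw [Subgroup.mem_subgroupOf]
    apply le_sup_right (a := E.autGroup T)
    apply mem_OpPrime_of_orderOf F a.2 (k := k)
    rw [← hk]
    exact Subgroup.orderOf_coe a
  have hcop := card_quot_coprime p ((E.autGroup T ⊔ OpPrime F p T).subgroupOf (F.autGroup T)) hp
  have d : PPData p Fh E F
      (QuotientGroup.mk' ((E.autGroup T ⊔ OpPrime F p T).subgroupOf (F.autGroup T))) :=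
    ⟨hSh, hFh, hE, hst, hcop, fun a => by
      rw [QuotientGroup.mk'_apply, QuotientGroup.eq_one_iff, Subgroup.mem_subgroupOf]⟩
  exact ⟨d.F1, ⟨d.F1_facts.2.1, F1_isInvariantIn d, E_isNormalIn_F1_pp d, hst.cen⟩,
    autGroup_F1_eq d, d.sameLim_F1⟩

end Cfsg.Agent.Helper3.OLR
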