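import Mathlib
import Cfsg.Agent.Lib.OLR.OLRDefs
import Cfsg.Agent.Lib.OLR.OLRLim
import Cfsg.Agent.Lib.OLR.OLRPPFinal

/-!
# OLR-STEPS (S5202): the canonical step of index prime to `p` (INTERFACE; proof comes from the sub-farm OLR-PP; the `p`-step is `OLRPStep.lean`).
-/

set_option autoImplicit false

namespace Cfsg.Agent.Helper3.OLR

open Cfsg Cfsg.FusionSystem Cfsg.Agent.Helper25

variable {Ω : Type*} [Group Ω]

/-- The step of index prime to `p`: `K = Aut_E(T) · O^{p'}(Aut_F(T))`. -/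
theorem pPrime_step {Sh : Subgroup Ω} [Finite Sh] (p : ℕ) [Fact p.Prime] (hSh : IsPGroup p Sh)
    (Fh : FusionSystem Sh) (hFh : Fh.IsSaturated p) {T : Subgroup Ω} (E : FusionSystem T)
    (hE : E.IsNormalIn Fh p) {S : Subgroup Ω} (F : FusionSystem S) (hst : Stage p Fh E F)
    (hK : E.autGroup T ⊔ OpPrime F p T ≠ F.autGroup T) :
    ∃ F₁ : FusionSystem S, Stage p Fh E F₁ ∧ F₁.autGroup T = E.autGroup T ⊔ OpPrime F p T ∧
      SameLim p F F₁ :=
  pPrime_step_pp p hSh Fh hFh E hE F hst hK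

-- (`p_step`, the step of `p`-power index, is proved in `OLRPStep.lean`.)

end Cfsg.Agent.Helper3.OLR
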