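import Mathlib
import Cfsg.Agent.Lib.OLR.OLRDefs
import Cfsg.Agent.Lib.Helper25.FusionNormal3

/-!
# OLR-TERM (S5202): at the end of the chain the Sylow group is `T C_Sh(T)`.

RECIPE. `≥` is `hst.sup_cen_le`. `≤`: let `s ∈ S`. `T` is strongly closed in `F` (`hst.nor.1.2.2.2.1`), so `s` normalizes `T`
and `c_s|_T ∈ Aut_F(T) = Aut_E(T)` (`autInducedBy_le_autGroup`, cf. the first lines of `Cfsg/Agent/S5198.lean`).
`E` is saturated over `T` (`hst.nor.1.1`), `T` is (trivially) fully normalized in `E`, hence fully automized: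
`Aut_T(T) = Inn(T)` is a Sylow `p`-subgroup of `Aut_E(T)` (unfold `IsSaturated`/`IsFullyAutomized`; see how
`Helper16.PPowNormal3.isFullyNormalized_of_stronglyClosed` and S5198 use it). `Aut_S(T) = autInducedBy S T` is a `p`-subgroup
of `Aut_F(T) = Aut_E(T)` (image of the `p`-group `S`, `S ≤ Sh` by `hst.le`) containing `Inn(T) = autInducedBy T T`; a `p`-subgroup
containing a Sylow `p`-subgroup equals it (`Sylow` maximality: `IsPGroup.sylow_mem_fixedPoints_iff`/`Sylow.is_maximal'`).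
So `c_s|_T = c_t|_T` for some `t ∈ T`; then `t⁻¹ s ∈ C_S(T) ≤ C_Sh(T)` and `s = t (t⁻¹ s) ∈ T ⊔ centralizerIn Sh T`.
Keep the statement, name, namespace exactly (you may add imports).
-/

set_option autoImplicit false

namespace Cfsg.Agent.Helper3.OLR

open Cfsg Cfsg.FusionSystem Cfsg.Agent.Helper25

variable {Ω : Type*} [Group Ω]

theorem terminal_eq {Sh : Subgroup Ω} [Finite Sh] (p : ℕ) [Fact p.Prime] (hSh : IsPGroup p Sh)
    (Fh : FusionSystem Sh) {T : Subgroup Ω} (E : FusionSystem T)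
    {S : Subgroup Ω} (F : FusionSystem S) (hst : Stage p Fh E F)
    (hEq : F.autGroup T = E.autGroup T) : S = T ⊔ centralizerIn Sh T := by
  classical
  have hTS : T ≤ S := hst.T_le
  have hSSh : S ≤ Sh := hst.le
  have hcl : F.StronglyClosed T := hst.nor.1.2.2.2.1
  have hEsat : E.IsSaturated p := hst.nor.1.1
  have : Finite T := finite_of_le_finite (hTS.trans hSSh)
  have hSp : IsPGroup p S := hSh.to_le hSSh
  apply le_antisymm _ hst.sup_cen_le
  intro s hs
  have hFA : E.IsFullyAutomized p T := isFullyAutomized_self p E hEsat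
  have hsyl : IsSylowIn p (autInducedBy T T) (E.autGroup T) :=
    (isFullyAutomized_iff E p le_rfl).mp hFA
  have hL : autInducedBy S T = autInducedBy T T := by
    apply hsyl.2.2 (autInducedBy S T)
    · rw [← hEq]; exact autInducedBy_le_autGroup F hTS
    · exact isPGroup_autInducedBy hSp T
    · intro β hβ
      obtain ⟨g, hg, hgβ⟩ := (mem_autInducedBy_iff β).mp hβ
      exact (mem_autInducedBy_iff β).mpr ⟨g, hTS hg, hgβ⟩
  have hsN : s ∈ Subgroup.normalizer (T : Set Ω) := mem_normalizer_of_stronglyClosed hcl hs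
  have hmem : T.normalizerMonoidHom ⟨s, hsN⟩ ∈ autInducedBy S T :=
    (mem_autInducedBy_iff _).2 ⟨s, hs, fun x => rfl⟩
  rw [hL] at hmem
  obtain ⟨t, ht, htα⟩ := (mem_autInducedBy_iff _).1 hmem
  have hc : t⁻¹ * s ∈ centralizerIn Sh T := by
    refine ⟨Sh.mul_mem (Sh.inv_mem (hSSh (hTS ht))) (hSSh hs), ?_⟩
    refine Subgroup.mem_centralizer_iff.mpr ?_
    intro x hx
    have h2 : s * x * s⁻¹ = t * x * t⁻¹ := htα ⟨x, hx⟩
    have h3 : s * x = t * x * t⁻¹ * s := by rw [← h2]; group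
    calc x * (t⁻¹ * s) = t⁻¹ * (t * x * t⁻¹ * s) := by group
      _ = t⁻¹ * (s * x) := by rw [h3]
      _ = t⁻¹ * s * x := by group
  have hdec : s = t * (t⁻¹ * s) := by group
  rw [hdec]
  exact Subgroup.mul_mem _ (Subgroup.mem_sup_left ht) (Subgroup.mem_sup_right hc)

end Cfsg.Agent.Helper3.OLR
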