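import Mathlib
import Cfsg.Agent.Lib.OLR.OLRDefs
import Cfsg.Agent.Lib.OLR.OLRLim
import Cfsg.Agent.Lib.OLR.OLRSteps
import Cfsg.Agent.Lib.OLR.OLRPStep
import Cfsg.Agent.Lib.OLR.OLRGroup
import Cfsg.Agent.Lib.OLR.OLRTerm
import Cfsg.Agent.Lib.OLR.OLRExtC
import Cfsg.Agent.Lib.OLR.OLRSelf

/-!
# S5202: main induction and final assembly (helper3).
-/

set_option autoImplicit false

namespace Cfsg.Agent.Helper3.OLR

open Cfsg Cfsg.FusionSystem Cfsg.Agent.Helper25

variable {Ω : Type*} [Group Ω]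

theorem autGroup_mono {S S' : Subgroup Ω} (F : FusionSystem S) (F' : FusionSystem S')
    (h : F.IsSubsystemOf F') {T : Subgroup Ω} (hTS : T ≤ S) (hTS' : T ≤ S') :
    F.autGroup T ≤ F'.autGroup T := by
  intro α hα
  rw [mem_autGroup_iff F' hTS']
  exact h T ((mem_autGroup_iff F hTS α).mp hα)

theorem main_ind {Sh : Subgroup Ω} [Finite Sh] (p : ℕ) [Fact p.Prime] (hSh : IsPGroup p Sh)
    (Fh : FusionSystem Sh) (hFh : Fh.IsSaturated p) {T : Subgroup Ω} (E : FusionSystem T)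
    (hE : E.IsNormalIn Fh p)
    [hn : ((E.autGroup T).subgroupOf (Fh.autGroup T)).Normal]
    (hsolv : Cfsg.IsPSolvable p (↥(Fh.autGroup T) ⧸ (E.autGroup T).subgroupOf (Fh.autGroup T))) :
    ∀ (n : ℕ) {S : Subgroup Ω} (F : FusionSystem S), Stage p Fh E F →
      Nat.card ↥(F.autGroup T) ≤ n →
      ∃ F₀ : FusionSystem (T ⊔ centralizerIn Sh T), Stage p Fh E F₀ ∧
        F₀.autGroup T = E.autGroup T ∧ SameLim p F F₀ := by
  have hTSh : T ≤ Sh := hE.1.2.2.2.1.1
  haveI : Finite T := finite_of_le_finite hTSh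
  haveI : Finite (MulAut T) :=
    Finite.of_injective (fun α : MulAut T => (α : T → T)) DFunLike.coe_injective
  intro n
  induction n using Nat.strong_induction_on with
  | _ n ih =>
    intro S F hst hcard
    by_cases hEq : F.autGroup T = E.autGroup T
    · have hS := terminal_eq p hSh Fh E F hst hEq
      subst hS
      exact ⟨F, hst, hEq, SameLim.refl p F⟩
    · have h0A : E.autGroup T ≤ F.autGroup T :=
        autGroup_mono E F hst.nor.1.2.2.1 le_rfl hst.T_le
      have hAh : F.autGroup T ≤ Fh.autGroup T :=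
        autGroup_mono F Fh hst.inv.1 hst.T_le hTSh
      have key : ∀ K : Subgroup (MulAut T), K ≤ F.autGroup T → K ≠ F.autGroup T →
          ∀ {S₁ : Subgroup Ω} (F₁ : FusionSystem S₁), Stage p Fh E F₁ → F₁.autGroup T = K →
          SameLim p F F₁ →
          ∃ F₀ : FusionSystem (T ⊔ centralizerIn Sh T), Stage p Fh E F₀ ∧
            F₀.autGroup T = E.autGroup T ∧ SameLim p F F₀ := by
        intro K hKA hKne S₁ F₁ hst₁ hA₁ hlim
        have hlt : Nat.card ↥(F₁.autGroup T) < Nat.card ↥(F.autGroup T) := by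
          rw [hA₁]
          by_contra hcon
          exact hKne (Subgroup.eq_of_le_of_card_ge hKA (not_lt.mp hcon))
        obtain ⟨F₀, hst₀, hA₀, hlim₀⟩ :=
          ih (Nat.card ↥(F₁.autGroup T)) (lt_of_lt_of_le hlt hcard) F₁ hst₁ le_rfl
        exact ⟨F₀, hst₀, hA₀, hlim.trans hlim₀⟩
      rcases exists_proper_step p (E.autGroup T) (F.autGroup T) (Fh.autGroup T) h0A hAh hsolv hEq
        with hK | hK
      · obtain ⟨F₁, hst₁, hA₁, hlim⟩ := pPrime_step p hSh Fh hFh E hE F hst hK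
        refine key _ (sup_le h0A ?_) hK F₁ hst₁ hA₁ hlim
        exact OpPrime_le_autGroup F p T
      · obtain ⟨S₁, F₁, hst₁, hA₁, hlim⟩ := p_step p hSh Fh hFh E hE F hst hK
        refine key _ (sup_le h0A ?_) hK F₁ hst₁ hA₁ hlim
        exact Subgroup.map_subtype_le _

theorem s5202_main {S : Subgroup Ω} [Finite S] (p : ℕ) [Fact p.Prime] (hS : IsPGroup p S)
    (F : FusionSystem S) (hF : F.IsSaturated p) {T : Subgroup Ω} (E : FusionSystem T)
    (hE : E.IsNormalIn F p) [hn : ((E.autGroup T).subgroupOf (F.autGroup T)).Normal]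
    (hsolv : Cfsg.IsPSolvable p (↥(F.autGroup T) ⧸ (E.autGroup T).subgroupOf (F.autGroup T))) :
    ∃ F₀ : FusionSystem (T ⊔ centralizerIn S T), F₀.IsNormalIn F p ∧ E.IsSubsystemOf F₀ ∧
      F₀.autGroup T = E.autGroup T ∧
      ∀ {U : Subgroup Ω} (Finf : FusionSystem U), Finf.IsResidualLimitOf F p →
        Finf.IsSubsystemOf F₀ ∧ ∀ {V : Subgroup Ω} (L : FusionSystem V),
          L.IsResidualLimitOf F₀ p → ∀ P : Subgroup Ω, L.Hom P = Finf.Hom P := by
  obtain ⟨F₀, hst, hA, hlim⟩ :=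
    main_ind p hS F hF E hE hsolv (Nat.card ↥(F.autGroup T)) F (stage_self p F hF E hE) le_rfl
  have hle : T ⊔ centralizerIn S T ≤ S := hst.le
  haveI : Finite ↥(T ⊔ centralizerIn S T) := finite_of_le_finite hle
  have hC : centralizerIn S (T ⊔ centralizerIn S T) ≤ T ⊔ centralizerIn S T := by
    intro x hx
    refine le_sup_right (a := T) ⟨hx.1, ?_⟩
    exact Subgroup.centralizer_le (show (T : Set Ω) ⊆ ((T ⊔ centralizerIn S T : Subgroup Ω) : Set Ω)
      from fun y hy => (le_sup_left : T ≤ T ⊔ centralizerIn S T) hy) hx.2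
  refine ⟨F₀, ⟨⟨hst.sat, hF, hst.inv⟩, ext_clause_cen F hle F₀ hst.inv.1 hC⟩, hst.nor.1.2.2.1, hA, ?_⟩
  intro U Finf hFinf
  have h0 : Finf.IsResidualLimitOf F₀ p := (hlim Finf).mp hFinf
  refine ⟨limit_le h0, fun L hL P => ?_⟩
  exact Cfsg.Agent.Helper16.ResLim.lim_unique hL inferInstance inferInstance (hS.to_le hle) Finf h0 P

end Cfsg.Agent.Helper3.OLR
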