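import Mathlib
import Cfsg.Agent.Lib.OLR.OLRMain
import Cfsg.Agent.Lib.OLR.OLRFh3
import Cfsg.Agent.Lib.OLR.OLRFi
import Cfsg.Agent.Lib.Helper3.PPowMain

/-!
# OLR-FMAIN (S5201): assembly.  `F ~ F₀ ~ G ~ E` (same residual limits), where `F₀` over `T · C_S(T)` is
the bottom stage of `main_ind` (S5202), `G` is the saturated subsystem of `p`-power index of `F₀` over `T`
(`hyp(F₀) ≤ T` by `hyp_le_T`), and `E` has index prime to `p` in `G` (`E_primeToPIndex_G`).
-/

set_option autoImplicit false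

namespace Cfsg.Agent.Helper3.OLR

open Cfsg Cfsg.FusionSystem Cfsg.Agent.Helper25

variable {Ω : Type*} [Group Ω]

theorem s5201_main {S : Subgroup Ω} [Finite S] (p : ℕ) [Fact p.Prime] (hS : IsPGroup p S)
    (F : FusionSystem S) (hF : F.IsSaturated p) {T : Subgroup Ω} (E : FusionSystem T)
    (hE : E.IsNormalIn F p)
    (hCE : ∀ Y : Subgroup Ω, Y ≤ centralizerIn S T →
      (∀ C : FusionSystem (centralizerIn S Y), F.IsCentralizerSystem Y C → E.IsSubsystemOf C) → Y ≤ T)
    [hn : ((E.autGroup T).subgroupOf (F.autGroup T)).Normal]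
    (hsolv : Cfsg.IsPSolvable p (↥(F.autGroup T) ⧸ (E.autGroup T).subgroupOf (F.autGroup T)))
    {U V : Subgroup Ω} (Finf : FusionSystem U) (hFinf : Finf.IsResidualLimitOf F p)
    (Einf : FusionSystem V) (hEinf : Einf.IsResidualLimitOf E p) :
    ∀ P : Subgroup Ω, Finf.Hom P = Einf.Hom P := by
  obtain ⟨F₀, hst, hA, hlim⟩ :=
    main_ind p hS F hF E hE hsolv (Nat.card ↥(F.autGroup T)) F (stage_self p F hF E hE) le_rfl
  have hle : T ⊔ centralizerIn S T ≤ S := hst.le
  haveI : Finite ↥(T ⊔ centralizerIn S T) := finite_of_le_finite hle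
  have hX : IsPGroup p ↥(T ⊔ centralizerIn S T) := hS.to_le hle
  have hTS : T ≤ S := le_trans le_sup_left hle
  haveI : Finite T := finite_of_le_finite hTS
  have hTp : IsPGroup p T := hS.to_le hTS
  have hhyp : F₀.hyperfocalSubgroup p ≤ T := hyp_le_T p hS F hF E hE hCE F₀ hst hA
  obtain ⟨G, ⟨hGs, hGi⟩, -⟩ :=
    Cfsg.Agent.Helper3.PPow.exists_unique_pPowerIndex p hX F₀ hst.sat T le_sup_left hhyp
  have hTsc : F₀.StronglyClosed T := hst.nor.1.2.2.2.1
  have h1 : SameLim p F₀ G := sameLim_pPower p hX F₀ hst.sat G hGs hTsc hGi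
  have h2 : SameLim p G E := sameLim_pPrime p hTp G E hGs hE.1.1
    (E_primeToPIndex_G p hS F hF E hE F₀ hst hA hhyp G hGs hGi)
  have h3 : Finf.IsResidualLimitOf E p := (h2 Finf).mp ((h1 Finf).mp ((hlim Finf).mp hFinf))
  exact Cfsg.Agent.Helper16.ResLim.lim_unique h3 inferInstance inferInstance hTp Einf hEinf

end Cfsg.Agent.Helper3.OLR
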